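import Groth.Agent.FlatMor2.FibCrit.SchemeCrit
import Groth.Agent.GrpschAbsch.EtaleFiber
import Groth.Agent.PropsBasic.LociBaseChange.Scheme
import Groth.Agent.SpectralTopology.FpCancel
import Groth.Prelude.Def_ega3

/-!
Flat, smooth, étale morphisms and open immersions detected on the fibres over the base.
-/

universe u

open AlgebraicGeometry CategoryTheory CategoryTheory.Limits TopologicalSpace

namespace Groth.FlatMor2.FibCrit

set_option linter.style.haveILetI false

variable {X Y S : Scheme.{u}} (f : X ⟶ Y) (g : Y ⟶ S)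

theorem isPullback_fiberMap (s : S) :
    IsPullback ((f ≫ g).fiberι s) (MoreMor.fiberMap f g s) f (g.fiberι s) := by
  refine IsPullback.of_bot ?_ (pullback.lift_fst _ _ _ :
    MoreMor.fiberMap f g s ≫ g.fiberι s = _).symm (IsPullback.of_hasPullback g (S.fromSpecResidueField s))
  rw [show MoreMor.fiberMap f g s ≫ pullback.snd g (S.fromSpecResidueField s) = _ from pullback.lift_snd _ _ _]
  exact IsPullback.of_hasPullback _ _

theorem of_fiberMap_iff (P : MorphismProperty Scheme.{u}) [P.RespectsIso] (s : S) :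
    P (MoreMor.fiberMap f g s) ↔ P (pullback.snd f (g.fiberι s)) := by
  rw [← (isPullback_fiberMap f g s).isoPullback_hom_snd, P.cancel_left_of_respectsIso]

theorem asFiber_eq {h : X ⟶ S} (x : X) (z : h.fiber (h x)) (hz : h.fiberι (h x) z = x) :
    z = h.asFiber x :=
  (h.fiberι (h x)).isEmbedding.injective (by rw [h.fiberι_asFiber, hz])

/-- Flatness at a point from flatness over the base and of the fibre map. -/
theorem flatAt_of_fiberMap [LocallyOfFinitePresentation (f ≫ g)] [LocallyOfFiniteType g] (x : X)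
    (hflat : ((f ≫ g).stalkMap x).hom.Flat)
    (hfib : ((MoreMor.fiberMap f g (g (f x))).stalkMap ((f ≫ g).asFiber x)).hom.Flat) :
    (g.stalkMap (f x)).hom.Flat ∧ (f.stalkMap x).hom.Flat :=
  (structureSheaf_iff f g x).mp ⟨hflat, hfib⟩

variable [LocallyOfFinitePresentation (f ≫ g)] [LocallyOfFiniteType g]

theorem flat_of_flat_fibres [Flat (f ≫ g)] (h : ∀ s, Flat (MoreMor.fiberMap f g s)) :
    Flat f ∧ ∀ x, (g.stalkMap (f x)).hom.Flat := by
  have key : ∀ x, (g.stalkMap (f x)).hom.Flat ∧ (f.stalkMap x).hom.Flat := fun x =>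
    flatAt_of_fiberMap f g x (Flat.stalkMap _ x)
      (haveI := h (g (f x)); Flat.stalkMap _ _)
  exact ⟨Flat.of_stalkMap f fun x => (key x).2, fun x => (key x).1⟩

omit [LocallyOfFinitePresentation (f ≫ g)] [LocallyOfFiniteType g] in
/-- A fibre of `f` is a fibre of the map of fibres. -/
theorem fiber_of_fiberMap (P : MorphismProperty Scheme.{u}) [P.IsStableUnderBaseChange]
    [P.RespectsIso] (h : ∀ s, P (MoreMor.fiberMap f g s)) (y : Y) :
    P (f.fiberToSpecResidueField y) := by
  obtain ⟨s, y', rfl⟩ : ∃ (s : S) (y' : g.fiber s), g.fiberι s y' = y :=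
    ⟨_, g.asFiber y, g.fiberι_asFiber y⟩
  have hb := isPullback_fiberToSpecResidueField_of_isPullback (isPullback_fiberMap f g s) y'
  have : IsIso ((g.fiberι s).residueFieldMap y') := by
    rw [ConcreteCategory.isIso_iff_bijective]
    refine ⟨((g.fiberι s).residueFieldMap y').hom.injective, fun r => ?_⟩
    obtain ⟨t, rfl⟩ := (g.fiber s).residue_surjective y' r
    obtain ⟨t', rfl⟩ := (g.fiberι s).stalkMap_surjective y' t
    exact ⟨Y.residue _ t', congr($(Scheme.residue_residueFieldMap (g.fiberι s) y') t')⟩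
  have hfst := hb.isIso_fst_of_isIso
  have h1 : P ((MoreMor.fiberMap f g s).fiberToSpecResidueField y') :=
    MorphismProperty.of_isPullback (IsPullback.of_hasPullback _ _) (h s)
  have h2 := (P.cancel_right_of_respectsIso ((MoreMor.fiberMap f g s).fiberToSpecResidueField y')
    (Spec.map ((g.fiberι s).residueFieldMap y'))).mpr h1
  exact (@MorphismProperty.cancel_left_of_respectsIso _ _ P _ _ _ _ _ _ hfst).mp
    ((congrArg (fun m => P m) hb.w).mpr h2)

include g in
theorem lfp_of_comp : LocallyOfFinitePresentation f := Groth.SpectralTopology.lfp_of_comp f g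

theorem smooth_of_smooth_fibres [Flat (f ≫ g)] (h : ∀ s, Smooth (MoreMor.fiberMap f g s)) : Smooth f := by
  have : Flat f := (flat_of_flat_fibres f g fun s => by have := h s; infer_instance).1
  have := lfp_of_comp f g
  exact Smooth.of_smooth_fiberToSpecResidueField f (fiber_of_fiberMap f g @Smooth h)

theorem etale_of_etale_fibres [Flat (f ≫ g)] (h : ∀ s, Etale (MoreMor.fiberMap f g s)) : Etale f := by
  have : Flat f := (flat_of_flat_fibres f g fun s => by have := h s; infer_instance).1
  have := lfp_of_comp f g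
  exact Groth.GrpschAbsch.etale_of_etale_fiber f (fiber_of_fiberMap f g @Etale h)

omit [LocallyOfFinitePresentation (f ≫ g)] [LocallyOfFiniteType g] in
theorem surjective_diagonal_of_mono_fibres (h : ∀ s, Mono (MoreMor.fiberMap f g s)) :
    Surjective (pullback.diagonal f) := by
  refine ⟨fun z => ?_⟩
  let m := pullback.fst f f ≫ f
  let s := g (m z)
  have hc := isPullback_fiberMap f g s
  obtain ⟨p, hp, -⟩ := Scheme.Pullback.exists_preimage_pullback (f := m) (g := g.fiberι s) z
    (g.asFiber (m z)) (g.fiberι_asFiber (m z)).symm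
  let π := pullback.fst m (g.fiberι s)
  let a := hc.lift (π ≫ pullback.fst f f) (pullback.snd m (g.fiberι s))
    (by rw [Category.assoc]; exact pullback.condition)
  let b := hc.lift (π ≫ pullback.snd f f) (pullback.snd m (g.fiberι s))
    (by rw [Category.assoc, ← pullback.condition (f := f) (g := f)]; exact pullback.condition)
  have hab : a = b := by
    have := h s
    rw [← cancel_mono (MoreMor.fiberMap f g s), hc.lift_snd, hc.lift_snd]
  have hπ : π ≫ pullback.fst f f = π ≫ pullback.snd f f := by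
    simpa [a, b] using congr($hab ≫ (f ≫ g).fiberι s)
  have hfac : (π ≫ pullback.fst f f) ≫ pullback.diagonal f = π := by
    apply pullback.hom_ext
    · rw [Category.assoc, pullback.diagonal_fst, Category.comp_id]
    · rw [Category.assoc, pullback.diagonal_snd, Category.comp_id, hπ]
  refine ⟨(π ≫ pullback.fst f f) p, ?_⟩
  rw [← Scheme.Hom.comp_apply, hfac]
  exact hp

theorem isOpenImmersion_of_fibres [Flat (f ≫ g)] (h : ∀ s, IsOpenImmersion (MoreMor.fiberMap f g s)) :
    IsOpenImmersion f := by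
  have he : Etale f := etale_of_etale_fibres f g fun s => by have := h s; infer_instance
  have := surjective_diagonal_of_mono_fibres f g fun s => by have := h s; infer_instance
  have : IsOpenImmersion (pullback.diagonal f) := inferInstance
  have : IsIso (pullback.diagonal f) :=
    (isIso_iff_isOpenImmersion_and_surjective _).mpr ⟨inferInstance, inferInstance⟩
  have : Mono f := (pullback.isIso_diagonal_iff f).mp inferInstance
  exact IsOpenImmersion.of_flat_of_mono f

theorem isIso_of_fibres [Flat (f ≫ g)] (h : ∀ s, IsIso (MoreMor.fiberMap f g s)) : IsIso f := by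
  have := isOpenImmersion_of_fibres f g fun s => by have := h s; infer_instance
  have : Surjective f := ⟨fun y => by
    have := h (g y)
    obtain ⟨z, hz⟩ := (MoreMor.fiberMap f g (g y)).surjective (g.asFiber y)
    refine ⟨(f ≫ g).fiberι (g y) z, ?_⟩
    rw [← Scheme.Hom.comp_apply, (isPullback_fiberMap f g (g y)).w, Scheme.Hom.comp_apply, hz,
      g.fiberι_asFiber]⟩
  exact (isIso_iff_isOpenImmersion_and_surjective _).mpr ⟨inferInstance, inferInstance⟩

/-- Unramified at a point iff the fibre map is. -/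
theorem exists_formallyUnramified_iff_fiberMap (x : X) (z : (f ≫ g).fiber ((f ≫ g) x))
    (hz : (f ≫ g).fiberι ((f ≫ g) x) z = x) :
    (∃ U : X.Opens, x ∈ U ∧ FormallyUnramified (U.ι ≫ f)) ↔
      ∃ V : ((f ≫ g).fiber ((f ≫ g) x)).Opens, z ∈ V ∧
        FormallyUnramified (V.ι ≫ MoreMor.fiberMap f g ((f ≫ g) x)) := by
  have := lfp_of_comp f g
  have hc := isPullback_fiberMap f g ((f ≫ g) x)
  constructor
  · rintro ⟨U, hxU, hU⟩
    refine ⟨(f ≫ g).fiberι _ ⁻¹ᵁ U, show (f ≫ g).fiberι _ z ∈ U by rw [hz]; exact hxU, ?_⟩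
    exact MorphismProperty.of_isPullback
      ((isPullback_morphismRestrict ((f ≫ g).fiberι ((f ≫ g) x)) U).paste_vert hc) hU
  · intro hV
    have : LocallyOfFiniteType (MoreMor.fiberMap f g ((f ≫ g) x)) :=
      MorphismProperty.of_isPullback hc inferInstance
    obtain ⟨U, hU, hU'⟩ := Groth.PropsBasic.Loci.exists_formallyUnramified_of_baseChange hc hV
    exact ⟨U, hz ▸ hU, hU'⟩

/-- Étale at a point flat over the base iff the fibre map is. -/
theorem exists_etale_iff_fiberMap (x : X) (hflat : ((f ≫ g).stalkMap x).hom.Flat)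
    (z : (f ≫ g).fiber ((f ≫ g) x)) (hz : (f ≫ g).fiberι ((f ≫ g) x) z = x) :
    (∃ U : X.Opens, x ∈ U ∧ Etale (U.ι ≫ f)) ↔
      ∃ V : ((f ≫ g).fiber ((f ≫ g) x)).Opens, z ∈ V ∧
        Etale (V.ι ≫ MoreMor.fiberMap f g ((f ≫ g) x)) := by
  have := lfp_of_comp f g
  have hc := isPullback_fiberMap f g ((f ≫ g) x)
  constructor
  · rintro ⟨U, hxU, hU⟩
    refine ⟨(f ≫ g).fiberι _ ⁻¹ᵁ U, show (f ≫ g).fiberι _ z ∈ U by rw [hz]; exact hxU, ?_⟩
    exact MorphismProperty.of_isPullback
      ((isPullback_morphismRestrict ((f ≫ g).fiberι ((f ≫ g) x)) U).paste_vert hc) hU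
  · rintro ⟨V, hzV, hV⟩
    obtain ⟨U, hxU, hU⟩ := (exists_formallyUnramified_iff_fiberMap f g x z hz).mpr
      ⟨V, hzV, inferInstance⟩
    have hz' : ((MoreMor.fiberMap f g ((f ≫ g) x)).stalkMap z).hom.Flat := by
      have h := Flat.stalkMap (V.ι ≫ MoreMor.fiberMap f g ((f ≫ g) x)) ⟨z, hzV⟩
      rw [Scheme.Hom.stalkMap_comp] at h
      have : IsIso (V.ι.stalkMap ⟨z, hzV⟩) :=
        (IsOpenImmersion.iff_isIso_stalkMap.mp inferInstance).2 _
      exact (RingHom.Flat.respectsIso.cancel_right_isIso _ (V.ι.stalkMap ⟨z, hzV⟩)).mp h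
    have hfx := (flatAt_of_fiberMap f g x hflat (asFiber_eq x z hz ▸ hz' :)).2
    let O : X.Opens := ⟨_, isOpen_structureSheaf f g⟩ ⊓ U
    have hOflat : Flat (O.ι ≫ f) := by
      refine Flat.of_stalkMap _ fun w => ?_
      rw [Scheme.Hom.stalkMap_comp]
      exact RingHom.Flat.comp w.2.1.2 (Flat.stalkMap O.ι w)
    have hle : O ≤ U := inf_le_right
    have hOunr : FormallyUnramified (O.ι ≫ f) := by
      rw [← Scheme.homOfLE_ι X hle, Category.assoc]
      exact MorphismProperty.comp_mem @FormallyUnramified _ _ inferInstance hU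
    refine ⟨O, ⟨(structureSheaf_iff f g x).mp ⟨hflat, asFiber_eq x z hz ▸ hz'⟩, hxU⟩, ?_⟩
    exact Etale.of_formallyUnramified_of_flat _

end Groth.FlatMor2.FibCrit

namespace Groth.FlatMor2.FibCrit

variable {X Y S : Scheme.{u}}

theorem fiberMapOver_eq (f : X ⟶ Y) (g : Y ⟶ S) (s : S) :
    CohIII.fiberMapOver f (f ≫ g) g rfl s = MoreMor.fiberMap f g s := by
  apply pullback.hom_ext
  · exact (pullback.lift_fst _ _ _).trans (pullback.lift_fst _ _ _).symm
  · refine (pullback.lift_snd _ _ _).trans ?_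
    rw [Category.comp_id]
    exact (pullback.lift_snd _ _ _).symm

theorem isOpenImmersion_iff_fibres (g : Y ⟶ S) (h : X ⟶ S) [LocallyOfFinitePresentation g]
    [LocallyOfFinitePresentation h] [Flat h] (f : X ⟶ Y) (w : f ≫ g = h) :
    (IsOpenImmersion f ↔ ∀ s : S, IsOpenImmersion (pullback.snd f (g.fiberι s))) ∧
    (IsIso f ↔ ∀ s : S, IsIso (pullback.snd f (g.fiberι s))) := by
  subst w
  refine ⟨⟨fun _ _ => inferInstance, fun hs => isOpenImmersion_of_fibres f g fun s => ?_⟩,
    ⟨fun _ _ => inferInstance, fun hs => isIso_of_fibres f g fun s => ?_⟩⟩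
  · exact (of_fiberMap_iff f g @IsOpenImmersion s).mpr (hs s)
  · exact (of_fiberMap_iff f g (MorphismProperty.isomorphisms Scheme) s).mpr (hs s)

theorem smooth_iff_fibres (g : Y ⟶ S) (h : X ⟶ S) [LocallyOfFinitePresentation g]
    [LocallyOfFinitePresentation h] [Flat h] (f : X ⟶ Y) (w : f ≫ g = h) :
    Smooth f ↔ ∀ s : S, Smooth (pullback.snd f (g.fiberι s)) := by
  subst w
  exact ⟨fun _ _ => inferInstance, fun hs => smooth_of_smooth_fibres f g fun s =>
    (of_fiberMap_iff f g @Smooth s).mpr (hs s)⟩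

theorem etale_iff_fibres (g : Y ⟶ S) (h : X ⟶ S) [LocallyOfFinitePresentation g]
    [LocallyOfFinitePresentation h] [Flat h] (f : X ⟶ Y) (w : f ≫ g = h) :
    Etale f ↔ ∀ s : S, Etale (pullback.snd f (g.fiberι s)) := by
  subst w
  exact ⟨fun _ _ => inferInstance, fun hs => etale_of_etale_fibres f g fun s =>
    (of_fiberMap_iff f g @Etale s).mpr (hs s)⟩

theorem flat_at_of_smooth_fibres (g : Y ⟶ S) (h : X ⟶ S) [LocallyOfFinitePresentation g]
    [LocallyOfFinitePresentation h] [Flat h] (f : X ⟶ Y) (w : f ≫ g = h)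
    (hs : ∀ s : S, Smooth (pullback.snd f (g.fiberι s))) (x : X) :
    (g.stalkMap (f.base x)).hom.Flat := by
  subst w
  refine (flat_of_flat_fibres f g fun s => ?_).2 x
  have : Smooth (MoreMor.fiberMap f g s) := (of_fiberMap_iff f g @Smooth s).mpr (hs s)
  infer_instance

theorem etaleAt_iff_fiberMapOver (g : Y ⟶ S) (h : X ⟶ S) [LocallyOfFinitePresentation g]
    [LocallyOfFinitePresentation h] (f : X ⟶ Y) (w : f ≫ g = h)
    (x : ↥X) (hflat : (h.stalkMap x).hom.Flat)
    (x' : ↥(h.fiber (h x))) (hx' : (h.fiberι (h x)) x' = x) :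
    (∃ U : X.Opens, x ∈ U ∧ Etale (U.ι ≫ f)) ↔
      ∃ V : (h.fiber (h x)).Opens, x' ∈ V ∧ Etale (V.ι ≫ CohIII.fiberMapOver f h g w (h x)) := by
  subst w
  rw [fiberMapOver_eq]
  exact exists_etale_iff_fiberMap f g x hflat x' hx'

theorem unramifiedAt_iff_fiberMapOver (g : Y ⟶ S) (h : X ⟶ S) [LocallyOfFinitePresentation g]
    [LocallyOfFinitePresentation h] (f : X ⟶ Y) (w : f ≫ g = h) (x : ↥X)
    (x' : ↥(h.fiber (h x))) (hx' : (h.fiberι (h x)) x' = x) :
    (∃ U : X.Opens, x ∈ U ∧ FormallyUnramified (U.ι ≫ f)) ↔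
      ∃ V : (h.fiber (h x)).Opens, x' ∈ V ∧
        FormallyUnramified (V.ι ≫ CohIII.fiberMapOver f h g w (h x)) := by
  subst w
  rw [fiberMapOver_eq]
  exact exists_formallyUnramified_iff_fiberMap f g x x' hx'

end Groth.FlatMor2.FibCrit
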