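import Mathlib
import Groth.Agent.FlatMorOne.FlatnessCriteria

/-!
Local forms of the fibrewise flatness criterion: transfer, descent and the Noetherian case.
-/

universe u

open TensorProduct

namespace Groth.FlatMor2.FibCrit

set_option linter.style.haveILetI false

/-- Flatness only depends on the underlying additive group with its scalar action. -/
theorem flat_of_addEquiv {R M N : Type*} [CommRing R] [AddCommGroup M] [Module R M] [AddCommGroup N]
    [Module R N] (e : M ≃+ N) (he : ∀ (r : R) (m : M), e (r • m) = r • e m) [Module.Flat R M] :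
    Module.Flat R N :=
  Module.Flat.of_linearEquiv ({ e with map_smul' := he } : M ≃ₗ[R] N).symm

/-- Flatness descends along a faithfully flat base change of the module. -/
theorem flat_of_isBaseChange_faithfullyFlat {B C' C K' K : Type u} [CommRing B] [CommRing C']
    [CommRing C] [Algebra B C'] [Algebra B C] [Algebra C' C] [IsScalarTower B C' C]
    [Module.FaithfullyFlat C' C] [AddCommGroup K'] [Module C' K'] [Module B K'] [IsScalarTower B C' K']
    [AddCommGroup K] [Module C' K] [Module C K] [Module B K] [IsScalarTower C' C K]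
    [IsScalarTower B C K] {g : K' →ₗ[C'] K} (hg : IsBaseChange C g) [Module.Flat B K] :
    Module.Flat B K' := by
  rw [Module.Flat.iff_lTensor_injective']
  intro J
  haveI : IsScalarTower B C' K := IsScalarTower.of_algebraMap_smul fun b k => by
    rw [← algebraMap_smul C (algebraMap B C' b) k, ← IsScalarTower.algebraMap_apply, algebraMap_smul]
  let gJ : K' ⊗[B] J →ₗ[B] K ⊗[B] J := (g.restrictScalars B).rTensor J
  let mkR : J → (K' →ₗ[C'] K' ⊗[B] J) := fun j =>
    { toFun := fun k => k ⊗ₜ[B] j
      map_add' := fun a b => TensorProduct.add_tmul a b j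
      map_smul' := fun c k => by rw [RingHom.id_apply, TensorProduct.smul_tmul'] }
  let ψ : K ⊗[B] J →+ C ⊗[C'] (K' ⊗[B] J) :=
    TensorProduct.liftAddHom
      { toFun := fun k =>
          { toFun := fun j => (mkR j).lTensor C (hg.equiv.symm k)
            map_zero' := by
              change (mkR 0).lTensor C _ = 0
              rw [show mkR 0 = 0 from LinearMap.ext fun k => TensorProduct.tmul_zero _ k,
                LinearMap.lTensor_zero, LinearMap.zero_apply]
            map_add' := fun a b => by
              rw [show mkR (a + b) = mkR a + mkR b from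
                LinearMap.ext fun k => TensorProduct.tmul_add k a b,
                LinearMap.lTensor_add, LinearMap.add_apply] }
        map_zero' := by
          ext j
          simp
        map_add' := fun a b => by
          ext j
          simp }
      fun b k j => by
        change (mkR j).lTensor C (hg.equiv.symm (b • k)) = (mkR (b • j)).lTensor C (hg.equiv.symm k)
        have hb : hg.equiv.symm (b • k) = b • hg.equiv.symm k := by
          rw [← algebraMap_smul C b k, map_smul, algebraMap_smul]
        rw [hb]
        generalize hg.equiv.symm k = w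
        induction w using TensorProduct.induction_on with
        | zero => simp
        | add x y hx hy => simp only [smul_add, map_add, hx, hy]
        | tmul c k' =>
          rw [← algebraMap_smul C' b, TensorProduct.smul_tmul', TensorProduct.smul_tmul,
            LinearMap.lTensor_tmul, LinearMap.lTensor_tmul, algebraMap_smul]
          change c ⊗ₜ[C'] ((b • k') ⊗ₜ[B] j) = c ⊗ₜ[C'] (k' ⊗ₜ[B] (b • j))
          rw [TensorProduct.smul_tmul]
  have hψ : ∀ z, ψ (gJ z) = (1 : C) ⊗ₜ[C'] z := by
    intro z
    induction z using TensorProduct.induction_on with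
    | zero => simp
    | add x y hx hy => simp only [map_add, hx, hy, TensorProduct.tmul_add]
    | tmul k j =>
      change (mkR j).lTensor C (hg.equiv.symm (g k)) = _
      rw [← one_smul C (g k), ← hg.equiv_tmul, LinearEquiv.symm_apply_apply, LinearMap.lTensor_tmul]
      rfl
  have hinj : Function.Injective gJ := fun x y h =>
    Module.FaithfullyFlat.tensorProduct_mk_injective (A := C') (B := C) (K' ⊗[B] J) (by
      change (1 : C) ⊗ₜ[C'] x = (1 : C) ⊗ₜ[C'] y
      rw [← hψ, ← hψ, h])
  intro x y h
  refine hinj (Module.Flat.lTensor_preserves_injective_linearMap (M := K) J.subtype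
    J.injective_subtype ?_)
  have hnat : ∀ z, J.subtype.lTensor K (gJ z) =
      (g.restrictScalars B).rTensor B (J.subtype.lTensor K' z) := by
    intro z
    induction z using TensorProduct.induction_on with
    | zero => simp
    | add x y hx hy => simp only [map_add, hx, hy]
    | tmul k j => simp [gJ]
  rw [hnat, hnat, h]

/-- A flat finite nonzero module over the target of a local homomorphism is faithfully flat. -/
theorem faithfullyFlat_of_isLocalHom {S S' M : Type u} [CommRing S] [CommRing S'] [IsLocalRing S]
    [IsLocalRing S'] [Algebra S S'] [IsLocalHom (algebraMap S S')] [AddCommGroup M] [Module S' M]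
    [Module S M] [IsScalarTower S S' M] [Module.Finite S' M] [Nontrivial M] [Module.Flat S M] :
    Module.FaithfullyFlat S M := by
  rw [Module.FaithfullyFlat.iff_flat_and_proper_ideal]
  refine ⟨inferInstance, fun I hI htop => ?_⟩
  have h1 : (⊤ : Submodule S' M) ≤ I.map (algebraMap S S') • ⊤ := by
    intro x h0
    have hx : x ∈ I • (⊤ : Submodule S M) := htop.ge trivial
    clear h0
    induction hx using Submodule.smul_induction_on' with
    | smul a ha y _ =>
      rw [← algebraMap_smul S' a y]
      exact Submodule.smul_mem_smul (Ideal.mem_map_of_mem _ ha) trivial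
    | add y _ z _ hy hz => exact add_mem hy hz
  exact top_ne_bot (α := Submodule S' M) (Submodule.eq_bot_of_le_smul_of_le_jacobson_bot _ _
    Module.Finite.fg_top h1 (Groth.FlatMorOne.map_le_jacobson_of_isLocalHom hI))

/-- The fibrewise criterion, Noetherian local case. -/
theorem noetherian_local {A Br Cq Mq : Type u} [CommRing A] [CommRing Br] [CommRing Cq]
    [IsLocalRing Br] [IsLocalRing Cq] [IsNoetherianRing Br] [IsNoetherianRing Cq] [Algebra A Br]
    [Algebra Br Cq] [IsLocalHom (algebraMap Br Cq)] [AddCommGroup Mq] [Module Cq Mq] [Module Br Mq]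
    [Module A Mq] [IsScalarTower Br Cq Mq] [IsScalarTower A Br Mq] [Module.Finite Cq Mq]
    [Nontrivial Mq] [Module.Flat A Mq] (I : Ideal A) (hI : I.map (algebraMap A Br) ≠ ⊤)
    (h : Module.Flat (Br ⧸ I.map (algebraMap A Br))
      (Mq ⧸ (I.map (algebraMap A Br) • ⊤ : Submodule Br Mq))) :
    Module.Flat A Br ∧ Module.Flat Br Mq := by
  set J := I.map (algebraMap A Br)
  haveI : Module.Flat (Br ⧸ J) ((Br ⧸ J) ⊗[Br] Mq) := by
    haveI := h
    let e := (quotTensorEquivQuotSMul Mq J).symm
    refine flat_of_addEquiv e.toAddEquiv fun r m => ?_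
    obtain ⟨r, rfl⟩ := Ideal.Quotient.mk_surjective r
    rw [← Ideal.Quotient.algebraMap_eq, algebraMap_smul, algebraMap_smul]
    exact map_smul e r m
  have hflat : Module.Flat Br Mq := Groth.FlatMorOne.flat_of_rTensor_injective (S := Cq) J
    (Groth.FlatMorOne.map_le_jacobson_of_isLocalHom hI)
    (Groth.FlatMorOne.rTensor_map_injective_of_flat _)
  haveI := faithfullyFlat_of_isLocalHom (S := Br) (S' := Cq) (M := Mq)
  exact ⟨Groth.FlatMorOne.flat_of_faithfullyFlat_module Mq, hflat⟩

section Quot

variable {Br Cq Mq : Type u} [CommRing Br] [CommRing Cq] [Algebra Br Cq] [AddCommGroup Mq]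
  [Module Cq Mq] [Module Br Mq] [IsScalarTower Br Cq Mq]

theorem smul_top_eq_restrictScalars (J : Ideal Br) (Jc : Ideal Cq)
    (hJ : Jc = J.map (algebraMap Br Cq)) :
    (J • ⊤ : Submodule Br Mq) = (Jc • ⊤ : Submodule Cq Mq).restrictScalars Br := by
  subst hJ
  rw [Ideal.smul_restrictScalars, Submodule.restrictScalars_top]

/-- Comparison of the two ways of reducing a module modulo an ideal of the base. -/
noncomputable def quotSmulEquiv (J : Ideal Br) (Jc : Ideal Cq) (hJ : Jc = J.map (algebraMap Br Cq)) :
    (Mq ⧸ (J • ⊤ : Submodule Br Mq)) ≃ₗ[Br] Mq ⧸ (Jc • ⊤ : Submodule Cq Mq) :=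
  (Submodule.quotEquivOfEq _ _ (smul_top_eq_restrictScalars J Jc hJ)).trans
    (Submodule.Quotient.restrictScalarsEquiv Br _)

end Quot

/-- Reduction modulo an ideal is a base change. -/
theorem isBaseChange_mkQ {Cq Mq : Type u} [CommRing Cq] [AddCommGroup Mq] [Module Cq Mq]
    (J : Ideal Cq) : IsBaseChange (Cq ⧸ J) (J • ⊤ : Submodule Cq Mq).mkQ := by
  let e := quotTensorEquivQuotSMul Mq J
  have he : ∀ (c : Cq ⧸ J) x, e (c • x) = c • e x := by
    intro c x
    obtain ⟨c, rfl⟩ := Ideal.Quotient.mk_surjective c
    rw [← Ideal.Quotient.algebraMap_eq, algebraMap_smul, algebraMap_smul]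
    exact map_smul e c x
  refine IsBaseChange.of_equiv ({ e with map_smul' := he } : _ ≃ₗ[Cq ⧸ J] _) fun x => ?_
  change e (1 ⊗ₜ x) = _
  rw [← map_one (Ideal.Quotient.mk J), quotTensorEquivQuotSMul_mk_tmul, one_smul]
  rfl

end Groth.FlatMor2.FibCrit
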