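import Mathlib

/-!
Small flatness lemmas used for the fibrewise criterion.
-/

universe u

open TensorProduct

namespace Groth.FlatMor2.FibCrit

set_option linter.style.haveILetI false

/-- Flatness over a ring and over an isomorphic ring agree. -/
theorem flat_iff_of_bijective {R S M : Type u} [CommRing R] [CommRing S] [Algebra R S]
    [AddCommGroup M] [Module R M] [Module S M] [IsScalarTower R S M]
    (hb : Function.Bijective (algebraMap R S)) : Module.Flat R M ↔ Module.Flat S M := by
  refine ⟨fun _ => ?_, fun _ => ?_⟩
  · let e : R ≃+* S := RingEquiv.ofBijective (algebraMap R S) hb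
    letI : Algebra S R := e.symm.toRingHom.toAlgebra
    haveI : IsScalarTower S R M := IsScalarTower.of_algebraMap_smul fun s m => by
      rw [← algebraMap_smul S (algebraMap S R s) m]
      exact congrArg (· • m) (e.apply_symm_apply s)
    haveI : Module.Flat S R := RingHom.flat_algebraMap_iff.mp (RingHom.Flat.of_bijective e.symm.bijective)
    exact Module.Flat.trans S R M
  · haveI : Module.Flat R S := RingHom.flat_algebraMap_iff.mp (RingHom.Flat.of_bijective hb)
    exact Module.Flat.trans R S M

/-- A faithfully flat module is faithful. -/
theorem eq_zero_of_forall_smul_eq_zero {R M : Type u} [CommRing R] [AddCommGroup M] [Module R M]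
    [Module.FaithfullyFlat R M] {r : R} (h : ∀ m : M, r • m = 0) : r = 0 := by
  have h0 : (r • LinearMap.id : R →ₗ[R] R) = 0 := by
    rw [Module.FaithfullyFlat.zero_iff_lTensor_zero R M]
    refine TensorProduct.ext' fun m x => ?_
    simp only [LinearMap.lTensor_tmul, LinearMap.smul_apply, LinearMap.id_coe, id_eq,
      LinearMap.zero_apply]
    rw [← TensorProduct.smul_tmul, h, TensorProduct.zero_tmul]
  simpa using LinearMap.congr_fun h0 1

end Groth.FlatMor2.FibCrit
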