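import Groth.Prelude.Def_MoreMor
import Groth.Agent.S9501
import Groth.Agent.FlatMor2.FibCrit.Transfer
import Groth.Agent.FlatMor2.FibCrit.Core

/-!
Flatness of the morphism of fibres at a point, in terms of local rings.
-/

universe u

open AlgebraicGeometry CategoryTheory IsLocalRing

namespace Groth.FlatMor2.FibCrit

set_option linter.style.haveILetI false

/-- Flatness of the map induced on quotients, via any presentation of the quotients. -/
theorem flat_quot_square_iff {R R' F F' : Type u} [CommRing R] [CommRing R'] [CommRing F] [CommRing F']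
    [Algebra R R'] (π : R →+* F) (π' : R' →+* F') (ψ : F →+* F') (hπ : Function.Surjective π)
    (hπ' : Function.Surjective π') (J : Ideal R) (hJ : RingHom.ker π = J)
    (hJ' : RingHom.ker π' = J.map (algebraMap R R'))
    (h : ∀ r, ψ (π r) = π' (algebraMap R R' r)) :
    ψ.Flat ↔ Module.Flat (R ⧸ J) (R' ⧸ (J • ⊤ : Submodule R R')) := by
  let e : R ⧸ J ≃+* F := (Ideal.quotEquivOfEq hJ.symm).trans (RingHom.quotientKerEquivOfSurjective hπ)
  let e' : R' ⧸ J.map (algebraMap R R') ≃+* F' :=
    (Ideal.quotEquivOfEq hJ'.symm).trans (RingHom.quotientKerEquivOfSurjective hπ')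
  let θ : R ⧸ J →+* R' ⧸ J.map (algebraMap R R') :=
    Ideal.quotientMap _ (algebraMap R R') (Ideal.map_le_iff_le_comap.mp le_rfl)
  have hsq : ψ.comp e.toRingHom = e'.toRingHom.comp θ := by
    refine Ideal.Quotient.ringHom_ext (RingHom.ext fun r => ?_)
    exact h r
  have h1 : ψ.Flat ↔ θ.Flat := by
    constructor
    · intro hf
      have h2 := RingHom.Flat.comp (RingHom.Flat.comp (RingHom.Flat.of_bijective (f := e.toRingHom) e.bijective) hf)
        (RingHom.Flat.of_bijective (f := e'.symm.toRingHom) e'.symm.bijective)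
      rw [hsq, ← RingHom.comp_assoc] at h2
      simpa using h2
    · intro hf
      have h2 := RingHom.Flat.comp (RingHom.Flat.comp
        (RingHom.Flat.of_bijective (f := e.symm.toRingHom) e.symm.bijective) hf)
        (RingHom.Flat.of_bijective (f := e'.toRingHom) e'.bijective)
      rw [← RingHom.comp_assoc, ← hsq, RingHom.comp_assoc] at h2
      simpa using h2
  rw [h1]
  letI : Algebra (R ⧸ J) (R' ⧸ J.map (algebraMap R R')) := θ.toAlgebra
  let eq : (R' ⧸ (J • ⊤ : Submodule R R')) ≃ₗ[R] R' ⧸ J.map (algebraMap R R') :=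
    (Submodule.quotEquivOfEq _ ((J.map (algebraMap R R')).restrictScalars R) (Ideal.smul_top_eq_map J)).trans
      (Submodule.Quotient.restrictScalarsEquiv R _)
  have hsmul : ∀ (z : R ⧸ J) m, eq (z • m) = z • eq m := by
    intro z m
    obtain ⟨z, rfl⟩ := Ideal.Quotient.mk_surjective z
    obtain ⟨m, rfl⟩ := Submodule.Quotient.mk_surjective _ m
    exact congrArg (Ideal.Quotient.mk (J.map (algebraMap R R'))) (Algebra.smul_def z m)
  refine ⟨fun hf => ?_, fun hf => ?_⟩
  · haveI : Module.Flat (R ⧸ J) (R' ⧸ J.map (algebraMap R R')) := hf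
    exact flat_of_addEquiv eq.symm.toAddEquiv fun z m => eq.injective (by
      change eq (eq.symm (z • m)) = eq (z • eq.symm m)
      rw [hsmul, eq.apply_symm_apply, eq.apply_symm_apply])
  · exact flat_of_addEquiv eq.toAddEquiv hsmul

theorem fiber_stalk_of_eq {X S : Scheme.{u}} (g : X ⟶ S) (s : S) (w : g.fiber s) (y : X)
    (h : g.fiberι s w = y) :
    Function.Surjective ((X.presheaf.stalkCongr (.of_eq h)).inv ≫ (g.fiberι s).stalkMap w).hom ∧
      RingHom.ker ((X.presheaf.stalkCongr (.of_eq h)).inv ≫ (g.fiberι s).stalkMap w).hom =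
        (maximalIdeal (S.presheaf.stalk (g y))).map (g.stalkMap y).hom := by
  subst h
  have := Groth.Agent.S9501.result g s w
  simp only [TopCat.Presheaf.stalkCongr_inv, TopCat.Presheaf.stalkSpecializes_refl, Category.id_comp]
  exact this

/-- Flatness of the morphism of fibres at `x` is flatness of `O_x / m_s O_x` over `O_y / m_s O_y`. -/
theorem fiberMap_flat_iff {X Y S : Scheme.{u}} (f : X ⟶ Y) (g : Y ⟶ S) (s : S)
    (z : (f ≫ g).fiber s) (x : X) (hx : (f ≫ g).fiberι s z = x) :
    letI := (f.stalkMap x).hom.toAlgebra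
    ((MoreMor.fiberMap f g s).stalkMap z).hom.Flat ↔
      Module.Flat (Y.presheaf.stalk (f x) ⧸
          (maximalIdeal (S.presheaf.stalk (g (f x)))).map (g.stalkMap (f x)).hom)
        (X.presheaf.stalk x ⧸ ((maximalIdeal (S.presheaf.stalk (g (f x)))).map (g.stalkMap (f x)).hom •
          (⊤ : Submodule (Y.presheaf.stalk (f x)) (X.presheaf.stalk x)))) := by
  subst hx
  letI := (f.stalkMap ((f ≫ g).fiberι s z)).hom.toAlgebra
  have hmap : MoreMor.fiberMap f g s ≫ g.fiberι s = (f ≫ g).fiberι s ≫ f :=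
    Limits.pullback.lift_fst _ _ _
  have hw : g.fiberι s (MoreMor.fiberMap f g s z) = f ((f ≫ g).fiberι s z) := by
    rw [← Scheme.Hom.comp_apply, hmap]; rfl
  obtain ⟨h1, h2⟩ := fiber_stalk_of_eq g s _ _ hw
  obtain ⟨h3, h4⟩ := Groth.Agent.S9501.result (f ≫ g) s z
  have hc := Scheme.Hom.stalkMap_congr_hom _ _ hmap z
  rw [Scheme.Hom.stalkMap_comp, Scheme.Hom.stalkMap_comp] at hc
  have key : ((Y.presheaf.stalkCongr (.of_eq hw)).inv ≫
      (g.fiberι s).stalkMap (MoreMor.fiberMap f g s z)) ≫ (MoreMor.fiberMap f g s).stalkMap z =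
      f.stalkMap ((f ≫ g).fiberι s z) ≫ ((f ≫ g).fiberι s).stalkMap z := by
    rw [Category.assoc, Iso.inv_comp_eq]
    exact hc
  refine flat_quot_square_iff _ _ _ h1 h3 _ h2 ?_ (fun r => congr($(key) r))
  rw [h4, Scheme.Hom.stalkMap_comp]
  exact (Ideal.map_map _ _).symm

end Groth.FlatMor2.FibCrit
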