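import Groth.Agent.FlatMor2.FibCrit.Local
import Groth.Agent.FlatMor2.FibCrit.Fibre
import Groth.Agent.PropsBasic.FPSections
import Groth.Agent.QCohMod.Affine
import Groth.Prelude.Def_FlatMod2

/-!
The fibrewise criterion of flatness for schemes.
-/

universe u

open AlgebraicGeometry CategoryTheory IsLocalRing TopologicalSpace

namespace Groth.FlatMor2.FibCrit

set_option linter.style.haveILetI false
set_option synthInstance.maxHeartbeats 200000

section Affine

variable {X Y : Scheme.{u}} (f : X ⟶ Y) {U : Y.Opens} (hU : IsAffineOpen U) {V : X.Opens}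
  (hV : IsAffineOpen V) (e : V ≤ f ⁻¹ᵁ U) (x : X) (hx : x ∈ V)

include hU in
theorem isLocalization_stalk_under :
    letI := (f.appLE U V e).hom.toAlgebra
    letI := Y.presheaf.algebra_section_stalk ⟨f x, e hx⟩
    IsLocalization.AtPrime (Y.presheaf.stalk (f x))
      ((hV.primeIdealOf ⟨x, hx⟩).asIdeal.under Γ(Y, U)) := by
  letI := (f.appLE U V e).hom.toAlgebra
  letI := Y.presheaf.algebra_section_stalk ⟨f x, e hx⟩
  have h := hU.isLocalization_stalk ⟨f x, e hx⟩
  have heq : (hV.primeIdealOf ⟨x, hx⟩).asIdeal.under Γ(Y, U) =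
      (hU.primeIdealOf ⟨f x, e hx⟩).asIdeal :=
    congrArg PrimeSpectrum.asIdeal (IsAffineOpen.comap_primeIdealOf_appLE U hU V hV e hx)
  convert h

theorem stalkMap_germ_appLE (a : Γ(Y, U)) :
    (f.stalkMap x).hom (Y.presheaf.germ U (f x) (e hx) a) =
      X.presheaf.germ V x hx (f.appLE U V e a) :=
  (f.germ_stalkMap_apply U x (e hx) a).trans
    (X.presheaf.germ_res_apply (homOfLE e) x hx _).symm

end Affine

theorem exists_chart {X Y S : Scheme.{u}} (f : X ⟶ Y) (g : Y ⟶ S) (x : X) :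
    ∃ (U : S.Opens) (V : Y.Opens) (W : X.Opens) (_ : IsAffineOpen U) (_ : IsAffineOpen V)
      (_ : IsAffineOpen W) (_ : V ≤ g ⁻¹ᵁ U) (_ : W ≤ f ⁻¹ᵁ V), x ∈ W := by
  obtain ⟨U, hU, hxU, -⟩ :=
    exists_isAffineOpen_mem_and_subset (x := g (f x)) (Opens.mem_top (g (f x)))
  obtain ⟨V, hV, hxV, hVU⟩ := exists_isAffineOpen_mem_and_subset (x := f x)
    (show f x ∈ g ⁻¹ᵁ U from hxU)
  obtain ⟨W, hW, hxW, hWV⟩ := exists_isAffineOpen_mem_and_subset (x := x)
    (show x ∈ f ⁻¹ᵁ V from hxV)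
  exact ⟨U, V, W, hU, hV, hW, hVU, hWV, hxW⟩

/-- The fibrewise criterion of flatness for a finitely presented quasi-coherent module. -/
theorem module_iff {X Y S : Scheme.{u}} (f : X ⟶ Y) (g : Y ⟶ S) [LocallyOfFinitePresentation (f ≫ g)]
    [LocallyOfFiniteType g] (F : X.Modules) [F.IsQuasicoherent] (hfp : CohB1.IsFP F) (x : X)
    (hx : Nontrivial (F.presheaf.stalk x)) :
    letI := FlatMod.moduleStalkOver f F x
    (FlatMod.IsFlatOverAt (f ≫ g) F x ∧
      Module.Flat (↑(Y.presheaf.stalk (f x)) ⧸ Ideal.map (g.stalkMap (f x)).hom (IsLocalRing.maximalIdeal ↑(S.presheaf.stalk (g (f x)))))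
        (↑(F.presheaf.stalk x) ⧸ (Ideal.map (g.stalkMap (f x)).hom (IsLocalRing.maximalIdeal ↑(S.presheaf.stalk (g (f x)))) •
          (⊤ : Submodule ↑(Y.presheaf.stalk (f x)) ↑(F.presheaf.stalk x))))) ↔
    ((g.stalkMap (f x)).hom.Flat ∧ FlatMod.IsFlatOverAt f F x) := by
  obtain ⟨U, V, W, hU, hV, hW, eVU, eWV, hxW⟩ := exists_chart f g x
  have eWU : W ≤ (f ≫ g) ⁻¹ᵁ U := fun w hw => eVU (eWV hw)
  letI aAB : Algebra Γ(S, U) Γ(Y, V) := (g.appLE U V eVU).hom.toAlgebra
  letI aBC : Algebra Γ(Y, V) Γ(X, W) := (f.appLE V W eWV).hom.toAlgebra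
  letI aAC : Algebra Γ(S, U) Γ(X, W) := ((f ≫ g).appLE U W eWU).hom.toAlgebra
  haveI : IsScalarTower Γ(S, U) Γ(Y, V) Γ(X, W) := IsScalarTower.of_algebraMap_eq' (by
    change ((f ≫ g).appLE U W eWU).hom = (f.appLE V W eWV).hom.comp (g.appLE U V eVU).hom
    rw [← CommRingCat.hom_comp, Scheme.Hom.appLE_comp_appLE])
  haveI : Algebra.FiniteType Γ(S, U) Γ(Y, V) := g.finiteType_appLE hU hV eVU
  haveI : Algebra.FinitePresentation Γ(S, U) Γ(X, W) := (f ≫ g).finitePresentation_appLE hU hW eWU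
  haveI : Module.FinitePresentation Γ(X, W) Γ(F, W) :=
    Groth.PropsBasic.FPSections.finitePresentation_sections F hfp hW
  letI := S.presheaf.algebra_section_stalk ⟨g (f x), eVU (eWV hxW)⟩
  letI := Y.presheaf.algebra_section_stalk ⟨f x, eWV hxW⟩
  letI := X.presheaf.algebra_section_stalk ⟨x, hxW⟩
  let q := (hW.primeIdealOf ⟨x, hxW⟩).asIdeal
  haveI : IsLocalization.AtPrime (X.presheaf.stalk x) q := hW.isLocalization_stalk ⟨x, hxW⟩
  haveI : IsLocalization.AtPrime (Y.presheaf.stalk (f x)) (q.under Γ(Y, V)) :=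
    isLocalization_stalk_under f hV hW eWV x hxW
  haveI : IsLocalization.AtPrime (S.presheaf.stalk (g (f x))) (q.under Γ(S, U)) :=
    isLocalization_stalk_under (f ≫ g) hU hW eWU x hxW
  letI : Algebra (S.presheaf.stalk (g (f x))) (Y.presheaf.stalk (f x)) :=
    (g.stalkMap (f x)).hom.toAlgebra
  letI : Algebra (Y.presheaf.stalk (f x)) (X.presheaf.stalk x) := (f.stalkMap x).hom.toAlgebra
  letI := Groth.QCohMod.stalkModule F x hxW
  haveI : IsScalarTower Γ(X, W) (X.presheaf.stalk x) (F.presheaf.stalk x) :=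
    IsScalarTower.of_algebraMap_smul fun _ _ => rfl
  haveI := Groth.QCohMod.isLocalizedModule_germ F hW x hxW
  letI := FlatMod.moduleStalkOver f F x
  haveI : IsScalarTower (Y.presheaf.stalk (f x)) (X.presheaf.stalk x) (F.presheaf.stalk x) :=
    IsScalarTower.of_algebraMap_smul fun _ _ => rfl
  letI mS : Module (S.presheaf.stalk (g (f x))) (F.presheaf.stalk x) :=
    FlatMod.moduleStalkOver (f ≫ g) F x
  haveI : IsScalarTower (S.presheaf.stalk (g (f x))) (Y.presheaf.stalk (f x)) (F.presheaf.stalk x) :=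
    IsScalarTower.of_algebraMap_smul fun a m => by
      change (f.stalkMap x).hom ((g.stalkMap (f x)).hom a) • m = ((f ≫ g).stalkMap x).hom a • m
      rw [Scheme.Hom.stalkMap_comp]
      rfl
  have key := local_iff (A := Γ(S, U)) (B := Γ(Y, V)) (C := Γ(X, W)) (M := Γ(F, W)) q
    (As := S.presheaf.stalk (g (f x))) (Br := Y.presheaf.stalk (f x)) (Cq := X.presheaf.stalk x)
    (Mq := F.presheaf.stalk x) (fun a => stalkMap_germ_appLE g eVU (f x) (eWV hxW) a)
    (fun b => stalkMap_germ_appLE f eWV x hxW b) (Groth.QCohMod.germₗ F x hxW)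
  exact key

/-- The fibrewise criterion of flatness for the structure sheaf, and openness of the locus. -/
theorem structureSheaf_iff {X Y S : Scheme.{u}} (f : X ⟶ Y) (g : Y ⟶ S)
    [LocallyOfFinitePresentation (f ≫ g)] [LocallyOfFiniteType g] (x : X) :
    ((f ≫ g).stalkMap x).hom.Flat ∧ ((MoreMor.fiberMap f g (g (f x))).stalkMap ((f ≫ g).asFiber x)).hom.Flat ↔
      (g.stalkMap (f x)).hom.Flat ∧ (f.stalkMap x).hom.Flat := by
  obtain ⟨U, V, W, hU, hV, hW, eVU, eWV, hxW⟩ := exists_chart f g x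
  have eWU : W ≤ (f ≫ g) ⁻¹ᵁ U := fun w hw => eVU (eWV hw)
  letI aAB : Algebra Γ(S, U) Γ(Y, V) := (g.appLE U V eVU).hom.toAlgebra
  letI aBC : Algebra Γ(Y, V) Γ(X, W) := (f.appLE V W eWV).hom.toAlgebra
  letI aAC : Algebra Γ(S, U) Γ(X, W) := ((f ≫ g).appLE U W eWU).hom.toAlgebra
  haveI : IsScalarTower Γ(S, U) Γ(Y, V) Γ(X, W) := IsScalarTower.of_algebraMap_eq' (by
    change ((f ≫ g).appLE U W eWU).hom = (f.appLE V W eWV).hom.comp (g.appLE U V eVU).hom
    rw [← CommRingCat.hom_comp, Scheme.Hom.appLE_comp_appLE])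
  haveI : Algebra.FiniteType Γ(S, U) Γ(Y, V) := g.finiteType_appLE hU hV eVU
  haveI : Algebra.FinitePresentation Γ(S, U) Γ(X, W) := (f ≫ g).finitePresentation_appLE hU hW eWU
  letI := S.presheaf.algebra_section_stalk ⟨g (f x), eVU (eWV hxW)⟩
  letI := Y.presheaf.algebra_section_stalk ⟨f x, eWV hxW⟩
  letI := X.presheaf.algebra_section_stalk ⟨x, hxW⟩
  let q := (hW.primeIdealOf ⟨x, hxW⟩).asIdeal
  haveI : IsLocalization.AtPrime (X.presheaf.stalk x) q := hW.isLocalization_stalk ⟨x, hxW⟩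
  haveI : IsLocalization.AtPrime (Y.presheaf.stalk (f x)) (q.under Γ(Y, V)) :=
    isLocalization_stalk_under f hV hW eWV x hxW
  haveI : IsLocalization.AtPrime (S.presheaf.stalk (g (f x))) (q.under Γ(S, U)) :=
    isLocalization_stalk_under (f ≫ g) hU hW eWU x hxW
  letI : Algebra (S.presheaf.stalk (g (f x))) (Y.presheaf.stalk (f x)) :=
    (g.stalkMap (f x)).hom.toAlgebra
  letI : Algebra (Y.presheaf.stalk (f x)) (X.presheaf.stalk x) := (f.stalkMap x).hom.toAlgebra
  letI : Algebra (S.presheaf.stalk (g (f x))) (X.presheaf.stalk x) :=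
    ((f.stalkMap x).hom.comp (g.stalkMap (f x)).hom).toAlgebra
  haveI : IsScalarTower (S.presheaf.stalk (g (f x))) (Y.presheaf.stalk (f x)) (X.presheaf.stalk x) :=
    IsScalarTower.of_algebraMap_eq' rfl
  haveI : Nontrivial (X.presheaf.stalk x) := inferInstance
  have key := local_iff (A := Γ(S, U)) (B := Γ(Y, V)) (C := Γ(X, W)) (M := Γ(X, W)) q
    (As := S.presheaf.stalk (g (f x))) (Br := Y.presheaf.stalk (f x)) (Cq := X.presheaf.stalk x)
    (Mq := X.presheaf.stalk x) (fun a => stalkMap_germ_appLE g eVU (f x) (eWV hxW) a)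
    (fun b => stalkMap_germ_appLE f eWV x hxW b) (Algebra.linearMap Γ(X, W) (X.presheaf.stalk x))
  rw [fiberMap_flat_iff f g (g (f x)) ((f ≫ g).asFiber x) x ((f ≫ g).fiberι_asFiber x)]
  have hcomp : ((f ≫ g).stalkMap x).hom = (f.stalkMap x).hom.comp (g.stalkMap (f x)).hom := by
    rw [Scheme.Hom.stalkMap_comp]; rfl
  rw [hcomp]
  exact key

/-- The locus where both flatness statements hold is open. -/
theorem isOpen_structureSheaf {X Y S : Scheme.{u}} (f : X ⟶ Y) (g : Y ⟶ S)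
    [LocallyOfFinitePresentation (f ≫ g)] [LocallyOfFiniteType g] :
    IsOpen {x : ↑X | (g.stalkMap (f x)).hom.Flat ∧ (f.stalkMap x).hom.Flat} := by
  rw [isOpen_iff_forall_mem_open]
  intro x₀ hx₀
  obtain ⟨U, V, W, hU, hV, hW, eVU, eWV, hxW⟩ := exists_chart f g x₀
  have eWU : W ≤ (f ≫ g) ⁻¹ᵁ U := fun w hw => eVU (eWV hw)
  letI aAB : Algebra Γ(S, U) Γ(Y, V) := (g.appLE U V eVU).hom.toAlgebra
  letI aBC : Algebra Γ(Y, V) Γ(X, W) := (f.appLE V W eWV).hom.toAlgebra
  letI aAC : Algebra Γ(S, U) Γ(X, W) := ((f ≫ g).appLE U W eWU).hom.toAlgebra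
  haveI : IsScalarTower Γ(S, U) Γ(Y, V) Γ(X, W) := IsScalarTower.of_algebraMap_eq' (by
    change ((f ≫ g).appLE U W eWU).hom = (f.appLE V W eWV).hom.comp (g.appLE U V eVU).hom
    rw [← CommRingCat.hom_comp, Scheme.Hom.appLE_comp_appLE])
  haveI : Algebra.FiniteType Γ(S, U) Γ(Y, V) := g.finiteType_appLE hU hV eVU
  haveI : Algebra.FinitePresentation Γ(S, U) Γ(X, W) := (f ≫ g).finitePresentation_appLE hU hW eWU
  have hiff : ∀ w : W, ((g.stalkMap (f w)).hom.Flat ∧ (f.stalkMap w).hom.Flat) ↔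
      hW.primeIdealOf w ∈ {q : PrimeSpectrum Γ(X, W) |
        Module.Flat Γ(S, U) (Localization.AtPrime (q.asIdeal.under Γ(Y, V))) ∧
          Module.Flat Γ(Y, V) (Localization.AtPrime q.asIdeal)} := by
    rintro ⟨x, hx⟩
    letI := S.presheaf.algebra_section_stalk ⟨g (f x), eVU (eWV hx)⟩
    letI := Y.presheaf.algebra_section_stalk ⟨f x, eWV hx⟩
    letI := X.presheaf.algebra_section_stalk ⟨x, hx⟩
    let q := (hW.primeIdealOf ⟨x, hx⟩).asIdeal
    haveI : IsLocalization.AtPrime (X.presheaf.stalk x) q := hW.isLocalization_stalk ⟨x, hx⟩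
    haveI : IsLocalization.AtPrime (Y.presheaf.stalk (f x)) (q.under Γ(Y, V)) :=
      isLocalization_stalk_under f hV hW eWV x hx
    haveI : IsLocalization.AtPrime (S.presheaf.stalk (g (f x))) (q.under Γ(S, U)) :=
      isLocalization_stalk_under (f ≫ g) hU hW eWU x hx
    letI : Algebra (S.presheaf.stalk (g (f x))) (Y.presheaf.stalk (f x)) :=
      (g.stalkMap (f x)).hom.toAlgebra
    letI : Algebra (Y.presheaf.stalk (f x)) (X.presheaf.stalk x) := (f.stalkMap x).hom.toAlgebra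
    letI : Algebra Γ(S, U) (Y.presheaf.stalk (f x)) :=
      ((algebraMap Γ(Y, V) (Y.presheaf.stalk (f x))).comp (algebraMap Γ(S, U) Γ(Y, V))).toAlgebra
    haveI : IsScalarTower Γ(S, U) Γ(Y, V) (Y.presheaf.stalk (f x)) :=
      IsScalarTower.of_algebraMap_eq' rfl
    haveI : IsScalarTower Γ(S, U) (S.presheaf.stalk (g (f x))) (Y.presheaf.stalk (f x)) :=
      IsScalarTower.of_algebraMap_eq fun a => (stalkMap_germ_appLE g eVU (f x) (eWV hx) a).symm
    letI : Algebra Γ(Y, V) (X.presheaf.stalk x) :=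
      ((algebraMap Γ(X, W) (X.presheaf.stalk x)).comp (algebraMap Γ(Y, V) Γ(X, W))).toAlgebra
    haveI : IsScalarTower Γ(Y, V) Γ(X, W) (X.presheaf.stalk x) :=
      IsScalarTower.of_algebraMap_eq' rfl
    haveI : IsScalarTower Γ(Y, V) (Y.presheaf.stalk (f x)) (X.presheaf.stalk x) :=
      IsScalarTower.of_algebraMap_eq fun b => (stalkMap_germ_appLE f eWV x hx b).symm
    refine Iff.and ?_ ?_
    · refine RingHom.flat_algebraMap_iff.trans ((flat_base_iff_local (q.under Γ(S, U))).trans ?_)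
      let e := IsLocalization.algEquiv (q.under Γ(Y, V)).primeCompl (Y.presheaf.stalk (f x))
        (Localization.AtPrime (q.under Γ(Y, V)))
      exact (Module.Flat.equiv_iff (e.toLinearEquiv.restrictScalars Γ(S, U)))
    · refine RingHom.flat_algebraMap_iff.trans ((flat_base_iff_local (q.under Γ(Y, V))).trans ?_)
      let e := IsLocalization.algEquiv q.primeCompl (X.presheaf.stalk x) (Localization.AtPrime q)
      exact (Module.Flat.equiv_iff (e.toLinearEquiv.restrictScalars Γ(Y, V)))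
  have hcont : Continuous fun w : W => hW.primeIdealOf w := hW.isoSpec.hom.continuous
  obtain ⟨O, hO, hOeq⟩ := isOpen_induced_iff.mp ((isOpen_both Γ(S, U) Γ(Y, V) Γ(X, W)).preimage hcont)
  refine ⟨O ∩ W, fun x hx => ?_, hO.inter W.2, ?_, hxW⟩
  · exact (hiff ⟨x, hx.2⟩).mpr (hOeq.subset hx.1)
  · exact hOeq.symm.subset ((hiff ⟨x₀, hxW⟩).mp hx₀)

end Groth.FlatMor2.FibCrit
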