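import Groth.Agent.FlatMor2.FibCrit.Open

/-!
The fibrewise criterion modulo a locally nilpotent ideal.
-/

universe u

open TensorProduct Groth.FlatMorOne

namespace Groth.FlatMor2.FibCrit

set_option linter.style.haveILetI false
set_option synthInstance.maxHeartbeats 200000

/-- Flatness modulo an ideal passes to localizations and to further base change. -/
theorem flat_tensor_localized {B C M R Mq : Type u} [CommRing B] [CommRing C] [Algebra B C]
    [AddCommGroup M] [Module C M] [Module B M] [IsScalarTower B C M] [CommRing R] [Algebra B R]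
    [AddCommGroup Mq] [Module C Mq] [Module B Mq] [IsScalarTower B C Mq] (T : Submonoid C)
    (ℓ : M →ₗ[C] Mq) [IsLocalizedModule T ℓ] (I : Ideal B)
    (hI : ∀ b ∈ I, algebraMap B R b = 0) (h : Module.Flat (B ⧸ I) ((B ⧸ I) ⊗[B] M)) :
    Module.Flat R (R ⊗[B] Mq) := by
  haveI := h
  letI : Algebra (B ⧸ I) R := (Ideal.Quotient.lift I (algebraMap B R) hI).toAlgebra
  haveI : IsScalarTower B (B ⧸ I) R := IsScalarTower.of_algebraMap_eq fun b => rfl
  rw [Module.Flat.iff_lTensor_preserves_injective_linearMap]
  intro N Y _ _ _ _ f hf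
  let : Module (B ⧸ I) N := Module.compHom N (algebraMap (B ⧸ I) R)
  have : IsScalarTower (B ⧸ I) R N := IsScalarTower.of_algebraMap_smul fun _ _ => rfl
  let : Module (B ⧸ I) Y := Module.compHom Y (algebraMap (B ⧸ I) R)
  have : IsScalarTower (B ⧸ I) R Y := IsScalarTower.of_algebraMap_smul fun _ _ => rfl
  let : Module B N := Module.compHom N (algebraMap B R)
  have : IsScalarTower B R N := IsScalarTower.of_algebraMap_smul fun _ _ => rfl
  let : Module B Y := Module.compHom Y (algebraMap B R)
  have : IsScalarTower B R Y := IsScalarTower.of_algebraMap_smul fun _ _ => rfl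
  have : IsScalarTower B (B ⧸ I) N := IsScalarTower.of_algebraMap_smul fun _ _ => rfl
  have : IsScalarTower B (B ⧸ I) Y := IsScalarTower.of_algebraMap_smul fun _ _ => rfl
  -- `M ⊗ f` is injective
  have hM : Function.Injective ((f.restrictScalars B).lTensor M) := by
    have hb := TensorProduct.isBaseChange B M (B ⧸ I)
    rw [injective_iff_map_eq_zero]
    intro w hw
    have hnat : ∀ w, (baseChangeTensorEquiv hb Y).symm ((f.restrictScalars B).lTensor M w) =
        (f.restrictScalars (B ⧸ I)).lTensor ((B ⧸ I) ⊗[B] M) ((baseChangeTensorEquiv hb N).symm w) := by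
      intro w
      induction w with
      | zero => simp
      | tmul m j => simp [baseChangeTensorEquiv_symm_tmul]
      | add a b ha hb => simp only [map_add, ha, hb]
    refine (baseChangeTensorEquiv hb N).symm.injective ?_
    rw [map_zero]
    refine Module.Flat.lTensor_preserves_injective_linearMap (M := (B ⧸ I) ⊗[B] M)
      (f.restrictScalars (B ⧸ I)) hf ?_
    rw [map_zero, ← hnat, hw, map_zero]
  have hMq : Function.Injective ((f.restrictScalars B).lTensor Mq) := by
    have h1 := lTensor_localized_injective_of_killed (M := M) T (f.restrictScalars B)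
      fun z hz => ⟨1, T.one_mem, by rw [one_smul]; exact hM (hz.trans (map_zero _).symm)⟩
    let e := (IsLocalizedModule.linearEquiv T (LocalizedModule.mkLinearMap T M) ℓ).restrictScalars B
    have hnat : (f.restrictScalars B).lTensor Mq ∘ₗ (e.toLinearMap.rTensor N) =
        (e.toLinearMap.rTensor Y) ∘ₗ (f.restrictScalars B).lTensor (LocalizedModule T M) := by
      rw [LinearMap.lTensor_comp_rTensor, LinearMap.rTensor_comp_lTensor]
    have h2 : Function.Injective ((f.restrictScalars B).lTensor Mq ∘ₗ (e.toLinearMap.rTensor N)) := by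
      rw [hnat]
      exact ((e.rTensor Y).injective).comp h1
    exact (Function.Injective.of_comp_iff' _ (e.rTensor N).bijective).mp h2
  have hb := TensorProduct.isBaseChange B Mq R
  rw [injective_iff_map_eq_zero]
  intro z hz
  obtain ⟨w, rfl⟩ := (baseChangeTensorEquiv hb N).symm.surjective z
  have hnat : ∀ w, (baseChangeTensorEquiv hb Y).symm ((f.restrictScalars B).lTensor Mq w) =
      f.lTensor (R ⊗[B] Mq) ((baseChangeTensorEquiv hb N).symm w) := by
    intro w
    induction w with
    | zero => simp
    | tmul m j => simp [baseChangeTensorEquiv_symm_tmul]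
    | add a b ha hb => simp only [map_add, ha, hb]
  have hw : (f.restrictScalars B).lTensor Mq w = 0 :=
    (baseChangeTensorEquiv hb Y).symm.injective (by rw [hnat, map_zero]; exact hz)
  rw [hMq (hw.trans (map_zero _).symm), map_zero]

/-- The fibrewise criterion modulo a locally nilpotent ideal. -/
theorem flat_of_locallyNilpotent {R S S' M : Type u} [CommRing R] [CommRing S] [CommRing S']
    [Algebra R S] [Algebra S S'] [Algebra R S'] [IsScalarTower R S S'] [Algebra.FiniteType R S]
    [Algebra.FinitePresentation R S'] (I : Ideal R) (hI : ∀ a ∈ I, IsNilpotent a) [AddCommGroup M]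
    [Module S' M] [Module S M] [Module R M] [IsScalarTower S S' M] [IsScalarTower R S M]
    [Module.FinitePresentation S' M] [Module.Flat R M]
    (h : Module.Flat (S ⧸ I.map (algebraMap R S)) ((S ⧸ I.map (algebraMap R S)) ⊗[S] M)) :
    Module.Flat S M := by
  haveI : IsScalarTower R S' M := IsScalarTower.of_algebraMap_smul fun a m => by
    rw [IsScalarTower.algebraMap_apply R S S', algebraMap_smul, algebraMap_smul]
  refine flat_of_forall_flat_localized (R := S) (S := S') (M := M) fun q => ?_
  let Mq := LocalizedModule q.asIdeal.primeCompl M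
  cases subsingleton_or_nontrivial Mq
  · haveI : Module.Free S Mq := Module.Free.of_subsingleton S Mq
    infer_instance
  haveI : Module.Flat R Mq := flat_localized_of_flat _
  let Br := Localization.AtPrime (q.asIdeal.under S)
  let Cq := Localization.AtPrime q.asIdeal
  let σ : Br →+* Cq := Localization.localRingHom _ q.asIdeal (algebraMap S S') rfl
  letI : Algebra Br Cq := σ.toAlgebra
  haveI : IsScalarTower S Br Cq := IsScalarTower.of_algebraMap_eq fun b => by
    rw [IsScalarTower.algebraMap_apply S S' Cq]
    exact (Localization.localRingHom_to_map _ q.asIdeal (algebraMap S S') rfl b).symm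
  letI : Module Br Mq := Module.compHom Mq σ
  haveI : IsScalarTower Br Cq Mq := IsScalarTower.of_algebraMap_smul fun _ _ => rfl
  haveI : IsScalarTower S Br Mq := IsScalarTower.of_algebraMap_smul fun b m => by
    change σ (algebraMap S Br b) • m = b • m
    rw [Localization.localRingHom_to_map, algebraMap_smul, algebraMap_smul]
  let J := (q.asIdeal.under R).map (algebraMap R Br)
  have hIp : I ≤ q.asIdeal.under R := fun a ha => q.isPrime.radical ▸
    (show algebraMap R S' a ∈ q.asIdeal.radical from by
      obtain ⟨n, hn⟩ := (hI a ha).map (algebraMap R S')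
      exact ⟨n, hn ▸ q.asIdeal.zero_mem⟩)
  have hJ : ∀ b ∈ I.map (algebraMap R S), algebraMap S (Br ⧸ J) b = 0 := by
    intro b hb
    rw [IsScalarTower.algebraMap_apply S Br (Br ⧸ J)]
    refine Ideal.Quotient.eq_zero_iff_mem.mpr
      ((?_ : I.map (algebraMap R S) ≤ J.comap (algebraMap S Br)) hb)
    rw [Ideal.map_le_iff_le_comap]
    intro a ha
    rw [Ideal.mem_comap, Ideal.mem_comap, ← IsScalarTower.algebraMap_apply]
    exact Ideal.mem_map_of_mem _ (hIp ha)
  haveI : Module.Flat (Br ⧸ J) ((Br ⧸ J) ⊗[S] Mq) :=
    flat_tensor_localized q.asIdeal.primeCompl (LocalizedModule.mkLinearMap _ M) _ hJ h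
  haveI : TensorProduct.CompatibleSMul S Br (Br ⧸ J) Mq :=
    IsLocalization.tensorProduct_compatibleSMul (q.asIdeal.under S).primeCompl Br _ _
  haveI : TensorProduct.CompatibleSMul Br S (Br ⧸ J) Mq :=
    TensorProduct.CompatibleSMul.isScalarTower
  let e : (Br ⧸ J) ⊗[S] Mq ≃ₗ[Br] (Br ⧸ J) ⊗[Br] Mq :=
    TensorProduct.equivOfCompatibleSMul Br S Br (Br ⧸ J) Mq
  have hfib : Module.Flat (Br ⧸ J) (Mq ⧸ (J • ⊤ : Submodule Br Mq)) := by
    let e' := e.trans (quotTensorEquivQuotSMul Mq J)
    refine flat_of_addEquiv e'.toAddEquiv fun z m => ?_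
    obtain ⟨z, rfl⟩ := Ideal.Quotient.mk_surjective z
    rw [← Ideal.Quotient.algebraMap_eq, algebraMap_smul, algebraMap_smul]
    exact map_smul e' z m
  exact (criterion (A := R) (B := S) (C := S') (M := M) q.asIdeal (Br := Br) (Cq := Cq) (Mq := Mq)
    (LocalizedModule.mkLinearMap _ M) hfib).2

end Groth.FlatMor2.FibCrit
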