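import Groth.Agent.FlatMor2.FibCrit.Core
import Groth.Agent.FlatMor2.FibCrit.Transfer
import Groth.Agent.QCohMod.FiniteType
import Groth.Agent.QCohMod.Affine
import Groth.Prelude.Def_FlatMod2

/-!
The fibrewise criterion of flatness for locally Noetherian schemes.
-/

universe u

open AlgebraicGeometry CategoryTheory IsLocalRing TopologicalSpace TensorProduct

namespace Groth.FlatMor2.FibCrit

set_option linter.style.haveILetI false

/-- The fibrewise criterion for a Noetherian local homomorphism, both directions. -/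
theorem noetherian_local_iff {A Br Cq Mq : Type u} [CommRing A] [CommRing Br] [CommRing Cq]
    [IsLocalRing A] [IsLocalRing Br] [IsLocalRing Cq] [IsNoetherianRing Br] [IsNoetherianRing Cq]
    [Algebra A Br] [IsLocalHom (algebraMap A Br)] [Algebra Br Cq] [IsLocalHom (algebraMap Br Cq)]
    [AddCommGroup Mq] [Module Cq Mq] [Module Br Mq] [Module A Mq] [IsScalarTower Br Cq Mq]
    [IsScalarTower A Br Mq] [Module.Finite Cq Mq] [Nontrivial Mq] :
    (Module.Flat A Mq ∧ Module.Flat (Br ⧸ (maximalIdeal A).map (algebraMap A Br))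
        (Mq ⧸ ((maximalIdeal A).map (algebraMap A Br) • ⊤ : Submodule Br Mq))) ↔
      (Module.Flat A Br ∧ Module.Flat Br Mq) := by
  constructor
  · rintro ⟨h1, h2⟩
    refine noetherian_local (Cq := Cq) (maximalIdeal A) ?_ h2
    exact ne_top_of_le_ne_top (maximalIdeal.isMaximal Br).ne_top
      (((local_hom_TFAE (algebraMap A Br)).out 0 2 rfl rfl).mp inferInstance)
  · rintro ⟨h1, h2⟩
    refine ⟨Module.Flat.trans A Br Mq, ?_⟩
    let J := (maximalIdeal A).map (algebraMap A Br)
    refine flat_of_addEquiv (quotTensorEquivQuotSMul Mq J).toAddEquiv fun z m => ?_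
    obtain ⟨z, rfl⟩ := Ideal.Quotient.mk_surjective z
    rw [← Ideal.Quotient.algebraMap_eq, algebraMap_smul, algebraMap_smul]
    exact map_smul (quotTensorEquivQuotSMul Mq J) z m

/-- The stalks of a coherent module are finite over the local rings. -/
theorem finite_stalk_of_isCoh {X : Scheme.{u}} (F : X.Modules) (hF : Coh.IsCoh F) (x : X) :
    Module.Finite (X.presheaf.stalk x) (F.presheaf.stalk x) := by
  haveI : F.IsQuasicoherent := hF.1
  obtain ⟨W, hW, hxW, -⟩ := exists_isAffineOpen_mem_and_subset (x := x) (Opens.mem_top x)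
  haveI : Module.Finite Γ(X, W) Γ(F, W) := Groth.QCohMod.finite_sections F hF.2 hW
  letI := X.presheaf.algebra_section_stalk ⟨x, hxW⟩
  haveI : IsLocalization.AtPrime (X.presheaf.stalk x) (hW.primeIdealOf ⟨x, hxW⟩).asIdeal :=
    hW.isLocalization_stalk ⟨x, hxW⟩
  letI := Groth.QCohMod.stalkModule F x hxW
  haveI : IsScalarTower Γ(X, W) (X.presheaf.stalk x) (F.presheaf.stalk x) :=
    IsScalarTower.of_algebraMap_smul fun _ _ => rfl
  haveI := Groth.QCohMod.isLocalizedModule_germ F hW x hxW
  exact Module.Finite.of_isLocalizedModule (hW.primeIdealOf ⟨x, hxW⟩).asIdeal.primeCompl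
    (Groth.QCohMod.germₗ F x hxW)

theorem module_iff_of_isLocallyNoetherian {X Y S : Scheme.{u}}
    [IsLocallyNoetherian X] [IsLocallyNoetherian Y]
    (f : X ⟶ Y) (h : Y ⟶ S) (F : X.Modules) (hF : Coh.IsCoh F) (x : X)
    (hx : Nontrivial ↑(F.presheaf.stalk x)) :
    letI := FlatMod.moduleStalkOver f F x
    (FlatMod.IsFlatOverAt (f ≫ h) F x ∧
      Module.Flat (↑(Y.presheaf.stalk (f x)) ⧸ Ideal.map (h.stalkMap (f x)).hom (IsLocalRing.maximalIdeal ↑(S.presheaf.stalk (h (f x)))))
        (↑(F.presheaf.stalk x) ⧸ (Ideal.map (h.stalkMap (f x)).hom (IsLocalRing.maximalIdeal ↑(S.presheaf.stalk (h (f x)))) •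
          (⊤ : Submodule ↑(Y.presheaf.stalk (f x)) ↑(F.presheaf.stalk x))))) ↔
    ((h.stalkMap (f x)).hom.Flat ∧ FlatMod.IsFlatOverAt f F x) := by
  haveI := finite_stalk_of_isCoh F hF x
  letI : Algebra (S.presheaf.stalk (h (f x))) (Y.presheaf.stalk (f x)) :=
    (h.stalkMap (f x)).hom.toAlgebra
  letI : Algebra (Y.presheaf.stalk (f x)) (X.presheaf.stalk x) := (f.stalkMap x).hom.toAlgebra
  haveI : IsLocalHom (algebraMap (S.presheaf.stalk (h (f x))) (Y.presheaf.stalk (f x))) :=
    inferInstanceAs (IsLocalHom (h.stalkMap (f x)).hom)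
  haveI : IsLocalHom (algebraMap (Y.presheaf.stalk (f x)) (X.presheaf.stalk x)) :=
    inferInstanceAs (IsLocalHom (f.stalkMap x).hom)
  letI := FlatMod.moduleStalkOver f F x
  haveI : IsScalarTower (Y.presheaf.stalk (f x)) (X.presheaf.stalk x) (F.presheaf.stalk x) :=
    IsScalarTower.of_algebraMap_smul fun _ _ => rfl
  letI mS : Module (S.presheaf.stalk (h (f x))) (F.presheaf.stalk x) :=
    FlatMod.moduleStalkOver (f ≫ h) F x
  haveI : IsScalarTower (S.presheaf.stalk (h (f x))) (Y.presheaf.stalk (f x)) (F.presheaf.stalk x) :=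
    IsScalarTower.of_algebraMap_smul fun a m => by
      change (f.stalkMap x).hom ((h.stalkMap (f x)).hom a) • m = ((f ≫ h).stalkMap x).hom a • m
      rw [Scheme.Hom.stalkMap_comp]
      rfl
  have key := noetherian_local_iff (A := S.presheaf.stalk (h (f x)))
    (Br := Y.presheaf.stalk (f x)) (Cq := X.presheaf.stalk x) (Mq := F.presheaf.stalk x)
  exact key

end Groth.FlatMor2.FibCrit
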