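import Groth.Agent.FlatMor2.FibCrit.Nilpotent

/-!
Flatness over a flat finitely presented algebra tested on the fibres.
-/

universe u

open TensorProduct Groth.FlatMorOne

namespace Groth.FlatMor2.FibCrit

set_option linter.style.haveILetI false
set_option synthInstance.maxHeartbeats 200000

/-- Flatness after base change passes to localizations and to further base change. -/
theorem flat_tensor_localized_algebra {B C M R Mq Q : Type u} [CommRing B] [CommRing C] [Algebra B C]
    [AddCommGroup M] [Module C M] [Module B M] [IsScalarTower B C M] [CommRing R] [Algebra B R]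
    [AddCommGroup Mq] [Module C Mq] [Module B Mq] [IsScalarTower B C Mq] (T : Submonoid C)
    (ℓ : M →ₗ[C] Mq) [IsLocalizedModule T ℓ] [CommRing Q] [Algebra B Q]
    [Algebra Q R] [IsScalarTower B Q R] (h : Module.Flat Q (Q ⊗[B] M)) :
    Module.Flat R (R ⊗[B] Mq) := by
  haveI := h
  rw [Module.Flat.iff_lTensor_preserves_injective_linearMap]
  intro N Y _ _ _ _ f hf
  let : Module Q N := Module.compHom N (algebraMap Q R)
  have : IsScalarTower Q R N := IsScalarTower.of_algebraMap_smul fun _ _ => rfl
  let : Module Q Y := Module.compHom Y (algebraMap Q R)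
  have : IsScalarTower Q R Y := IsScalarTower.of_algebraMap_smul fun _ _ => rfl
  let : Module B N := Module.compHom N (algebraMap B R)
  have : IsScalarTower B R N := IsScalarTower.of_algebraMap_smul fun _ _ => rfl
  let : Module B Y := Module.compHom Y (algebraMap B R)
  have : IsScalarTower B R Y := IsScalarTower.of_algebraMap_smul fun _ _ => rfl
  have : IsScalarTower B Q N := IsScalarTower.of_algebraMap_smul fun b m => by
    change algebraMap Q R (algebraMap B Q b) • m = algebraMap B R b • m
    rw [← IsScalarTower.algebraMap_apply]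
  have : IsScalarTower B Q Y := IsScalarTower.of_algebraMap_smul fun b m => by
    change algebraMap Q R (algebraMap B Q b) • m = algebraMap B R b • m
    rw [← IsScalarTower.algebraMap_apply]
  -- `M ⊗ f` is injective
  have hM : Function.Injective ((f.restrictScalars B).lTensor M) := by
    have hb := TensorProduct.isBaseChange B M Q
    rw [injective_iff_map_eq_zero]
    intro w hw
    have hnat : ∀ w, (baseChangeTensorEquiv hb Y).symm ((f.restrictScalars B).lTensor M w) =
        (f.restrictScalars Q).lTensor (Q ⊗[B] M) ((baseChangeTensorEquiv hb N).symm w) := by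
      intro w
      induction w with
      | zero => simp
      | tmul m j => simp [baseChangeTensorEquiv_symm_tmul]
      | add a b ha hb => simp only [map_add, ha, hb]
    refine (baseChangeTensorEquiv hb N).symm.injective ?_
    rw [map_zero]
    refine Module.Flat.lTensor_preserves_injective_linearMap (M := Q ⊗[B] M)
      (f.restrictScalars Q) hf ?_
    rw [map_zero, ← hnat, hw, map_zero]
  have hMq : Function.Injective ((f.restrictScalars B).lTensor Mq) := by
    have h1 := lTensor_localized_injective_of_killed (M := M) T (f.restrictScalars B)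
      fun z hz => ⟨1, T.one_mem, by rw [one_smul]; exact hM (hz.trans (map_zero _).symm)⟩
    let e := (IsLocalizedModule.linearEquiv T (LocalizedModule.mkLinearMap T M) ℓ).restrictScalars B
    have hnat : (f.restrictScalars B).lTensor Mq ∘ₗ (e.toLinearMap.rTensor N) =
        (e.toLinearMap.rTensor Y) ∘ₗ (f.restrictScalars B).lTensor (LocalizedModule T M) := by
      rw [LinearMap.lTensor_comp_rTensor, LinearMap.rTensor_comp_lTensor]
    have h2 : Function.Injective ((f.restrictScalars B).lTensor Mq ∘ₗ (e.toLinearMap.rTensor N)) := by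
      rw [hnat]
      exact ((e.rTensor Y).injective).comp h1
    exact (Function.Injective.of_comp_iff' _ (e.rTensor N).bijective).mp h2
  have hb := TensorProduct.isBaseChange B Mq R
  rw [injective_iff_map_eq_zero]
  intro z hz
  obtain ⟨w, rfl⟩ := (baseChangeTensorEquiv hb N).symm.surjective z
  have hnat : ∀ w, (baseChangeTensorEquiv hb Y).symm ((f.restrictScalars B).lTensor Mq w) =
      f.lTensor (R ⊗[B] Mq) ((baseChangeTensorEquiv hb N).symm w) := by
    intro w
    induction w with
    | zero => simp
    | tmul m j => simp [baseChangeTensorEquiv_symm_tmul]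
    | add a b ha hb => simp only [map_add, ha, hb]
  have hw : (f.restrictScalars B).lTensor Mq w = 0 :=
    (baseChangeTensorEquiv hb Y).symm.injective (by rw [hnat, map_zero]; exact hz)
  rw [hMq (hw.trans (map_zero _).symm), map_zero]

/-- A module flat over the base is flat over a finitely presented algebra iff its fibres are
projective. -/
theorem flat_iff_forall_projective (A B M : Type u) [CommRing A] [CommRing B] [Algebra A B]
    [Algebra.FinitePresentation A B] [AddCommGroup M] [Module B M] [Module A M]
    [IsScalarTower A B M] [Module.FinitePresentation B M] [Module.Flat A M] :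
    Module.Flat B M ↔ ∀ (p : Ideal A) [p.IsPrime],
      Module.Projective (B ⊗[A] p.ResidueField) ((B ⊗[A] p.ResidueField) ⊗[B] M) := by
  refine ⟨fun _ p _ => Module.Flat.projective_of_finitePresentation, fun h => ?_⟩
  refine flat_of_forall_flat_localized (R := B) (S := B) (M := M) fun q => ?_
  let Mq := LocalizedModule q.asIdeal.primeCompl M
  cases subsingleton_or_nontrivial Mq
  · haveI : Module.Free B Mq := Module.Free.of_subsingleton B Mq
    infer_instance
  haveI : Module.Flat A Mq := flat_localized_of_flat _
  haveI : q.asIdeal.LiesOver (q.asIdeal.under A) := ⟨rfl⟩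
  let p := q.asIdeal.under A
  let Br := Localization.AtPrime q.asIdeal
  let J := p.map (algebraMap A Br)
  obtain ⟨φ, hφ⟩ := exists_fibToQuot (C := B) Br p q.asIdeal
  letI : Algebra (B ⊗[A] p.ResidueField) (Br ⧸ J) :=
    (φ.comp (Algebra.TensorProduct.comm A B p.ResidueField).toAlgHom).toRingHom.toAlgebra
  haveI : IsScalarTower B (B ⊗[A] p.ResidueField) (Br ⧸ J) := IsScalarTower.of_algebraMap_eq fun b => by
    change _ = φ (Algebra.TensorProduct.comm A B p.ResidueField (b ⊗ₜ 1))
    rw [Algebra.TensorProduct.comm_tmul, hφ]
    rfl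
  haveI := h p
  haveI : Module.Flat (Br ⧸ J) ((Br ⧸ J) ⊗[B] Mq) :=
    flat_tensor_localized_algebra (Q := B ⊗[A] p.ResidueField) q.asIdeal.primeCompl
      (LocalizedModule.mkLinearMap _ M) inferInstance
  haveI : TensorProduct.CompatibleSMul B Br (Br ⧸ J) Mq :=
    IsLocalization.tensorProduct_compatibleSMul q.asIdeal.primeCompl Br _ _
  haveI : TensorProduct.CompatibleSMul Br B (Br ⧸ J) Mq :=
    TensorProduct.CompatibleSMul.isScalarTower
  let e : (Br ⧸ J) ⊗[B] Mq ≃ₗ[Br] (Br ⧸ J) ⊗[Br] Mq :=
    TensorProduct.equivOfCompatibleSMul Br B Br (Br ⧸ J) Mq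
  have hfib : Module.Flat (Br ⧸ J) (Mq ⧸ (J • ⊤ : Submodule Br Mq)) := by
    let e' := e.trans (quotTensorEquivQuotSMul Mq J)
    refine flat_of_addEquiv e'.toAddEquiv fun z m => ?_
    obtain ⟨z, rfl⟩ := Ideal.Quotient.mk_surjective z
    rw [← Ideal.Quotient.algebraMap_eq, algebraMap_smul, algebraMap_smul]
    exact map_smul e' z m
  haveI : IsLocalization.AtPrime Br (q.asIdeal.under B) :=
    inferInstanceAs (IsLocalization.AtPrime (Localization.AtPrime q.asIdeal) q.asIdeal)
  exact (criterion (A := A) (B := B) (C := B) (M := M) q.asIdeal (Br := Br) (Cq := Br) (Mq := Mq)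
    (LocalizedModule.mkLinearMap _ M) hfib).2

end Groth.FlatMor2.FibCrit
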