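import Mathlib
import Groth.Prelude.Def_Mor2

/-!
Regular closed immersions cut out by regular sequences on affine charts.
-/

universe u

open AlgebraicGeometry CategoryTheory Limits RingTheory.Sequence

namespace Groth.FlatMor2.FibCrit

set_option linter.style.haveILetI false

theorem isWeaklyRegular_map_ringEquiv {R S : Type u} [CommRing R] [CommRing S] (e : R ≃+* S)
    {rs : List R} (h : IsWeaklyRegular R rs) : IsWeaklyRegular S (rs.map e.toRingHom) := by
  refine (e.toAddEquiv.isWeaklyRegular_congr ?_).mp h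
  rw [List.forall₂_map_right_iff, List.forall₂_same]
  exact fun r _ x => map_mul e r x

/-- The kernel ideal on all of `Spec R` of `Spec` of a ring map. -/
theorem ker_ideal_top_SpecMap {R R' : CommRingCat.{u}} (φ : R ⟶ R')
    (hW : IsAffineOpen (⊤ : (Spec R).Opens)) :
    (Spec.map φ).ker.ideal ⟨⊤, hW⟩ = (RingHom.ker φ.hom).map (Scheme.ΓSpecIso R).inv.hom := by
  let e := (Scheme.ΓSpecIso R).commRingCatIsoToRingEquiv
  rw [Scheme.Hom.ker_apply]
  have h1 : (Scheme.ΓSpecIso R).inv ≫ (Spec.map φ).app ⊤ = φ ≫ (Scheme.ΓSpecIso R').inv :=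
    (Scheme.ΓSpecIso_inv_naturality φ).symm
  ext a
  constructor
  · intro ha
    have ha' : (Scheme.ΓSpecIso R).hom.hom a ∈ RingHom.ker φ.hom := by
      rw [RingHom.mem_ker] at ha ⊢
      apply (ConcreteCategory.bijective_of_isIso (Scheme.ΓSpecIso R').inv).1
      rw [map_zero]
      have h2 := congr($h1 ((Scheme.ΓSpecIso R).hom.hom a))
      simp only [CommRingCat.comp_apply] at h2
      rw [← h2, Iso.hom_inv_id_apply]
      exact ha
    have := Ideal.mem_map_of_mem (Scheme.ΓSpecIso R).inv.hom ha'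
    rwa [Iso.hom_inv_id_apply] at this
  · intro ha
    refine (Ideal.map_le_iff_le_comap.mpr fun r hr => ?_) ha
    rw [Ideal.mem_comap, RingHom.mem_ker]
    have h2 := congr($h1 r)
    simp only [CommRingCat.comp_apply] at h2
    rw [RingHom.mem_ker] at hr
    refine h2.trans ?_
    exact (congrArg _ hr).trans (map_zero _)

/-- A chart in which a closed immersion is cut out by a regular sequence gives an affine open with
the same property. -/
theorem exists_regular_affine_of_isPullback {Z X : Scheme.{u}} (i : Z ⟶ X) [IsClosedImmersion i]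
    {R R' : CommRingCat.{u}} [Nontrivial R'] (j : Spec R ⟶ X) [IsOpenImmersion j] (φ : R ⟶ R')
    (l : Spec R' ⟶ Z) (H : IsPullback (Spec.map φ) l j i) (rs : List R)
    (hrs : IsWeaklyRegular R rs) (hker : RingHom.ker φ.hom = Ideal.ofList rs) :
    ∃ (hU : IsAffineOpen (j ''ᵁ ⊤)) (rs' : List Γ(X, j ''ᵁ ⊤)),
      IsRegular Γ(X, j ''ᵁ ⊤) rs' ∧ i.ker.ideal ⟨j ''ᵁ ⊤, hU⟩ = Ideal.ofList rs' := by
  let e : R ≅ Γ(X, j ''ᵁ ⊤) := (Scheme.ΓSpecIso R).symm ≪≫ (j.appIso ⊤).symm
  let ee := e.commRingCatIsoToRingEquiv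
  refine ⟨(isAffineOpen_top (Spec R)).image_of_isOpenImmersion j, rs.map ee.toRingHom,
    ⟨isWeaklyRegular_map_ringEquiv ee hrs, ?_⟩, ?_⟩
  · rw [smul_eq_mul, Ideal.mul_top, ← Ideal.map_ofList, ← hker]
    intro h
    haveI : (RingHom.ker φ.hom).IsTwoSided := inferInstance
    have h' := congrArg (Ideal.comap ee.toRingHom) h
    rw [Ideal.comap_top, Ideal.comap_map_of_bijective ee.toRingHom ee.bijective] at h'
    exact RingHom.ker_ne_top _ h'.symm
  · have h1 := Scheme.ker_ideal_of_isPullback_of_isOpenImmersion i (Spec.map φ) l j H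
      ⟨⊤, isAffineOpen_top _⟩
    rw [ker_ideal_top_SpecMap] at h1
    have h2 := congrArg (Ideal.map (j.appIso ⊤).inv.hom) h1
    rw [Ideal.map_comap_of_surjective _ (ConcreteCategory.bijective_of_isIso (j.appIso ⊤).inv).2,
      Ideal.map_map] at h2
    rw [← Ideal.map_ofList, ← hker]
    exact h2.symm

/-- Being a regular closed immersion may be checked on charts. -/
theorem isRegularClosedImmersion_of_charts {Z X : Scheme.{u}} (i : Z ⟶ X) [IsClosedImmersion i]
    (h : ∀ z : Z, ∃ (R R' : CommRingCat.{u}) (j : Spec R ⟶ X) (φ : R ⟶ R') (l : Spec R' ⟶ Z)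
      (rs : List R), IsOpenImmersion j ∧ i z ∈ Set.range j ∧ IsPullback (Spec.map φ) l j i ∧
        IsWeaklyRegular R rs ∧ RingHom.ker φ.hom = Ideal.ofList rs) :
    Mor2.IsRegularClosedImmersion i := by
  refine ⟨inferInstance, fun z => ?_⟩
  obtain ⟨R, R', j, φ, l, rs, _, ⟨w, hw⟩, H, hrs, hker⟩ := h z
  obtain ⟨w', -, -⟩ := Scheme.exists_preimage_of_isPullback H w z hw
  haveI : Nontrivial R' := PrimeSpectrum.nonempty_iff_nontrivial.mp ⟨w'⟩
  obtain ⟨hU, rs', hrs', hker'⟩ := exists_regular_affine_of_isPullback i j φ l H rs hrs hker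
  exact ⟨_, hU, ⟨w, trivial, hw⟩, rs', hrs', hker'⟩

/-- The closed subscheme of an affine open cut out by a weakly regular sequence of sections is
regularly immersed. -/
theorem isRegularClosedImmersion_ofList {X : Scheme.{u}} {U : X.Opens} (hU : IsAffineOpen U)
    (hs : List Γ(X, U)) (hreg : IsWeaklyRegular Γ(X, U) hs) :
    Mor2.IsRegularClosedImmersion
      (Spec.map (CommRingCat.ofHom (Ideal.Quotient.mk (Ideal.ofList hs))) ≫ hU.isoSpec.inv) := by
  haveI : IsClosedImmersion (Spec.map (CommRingCat.ofHom (Ideal.Quotient.mk (Ideal.ofList hs)))) :=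
    IsClosedImmersion.spec_of_surjective _ Ideal.Quotient.mk_surjective
  refine isRegularClosedImmersion_of_charts _ fun z => ⟨Γ(X, U),
    CommRingCat.of (Γ(X, U) ⧸ Ideal.ofList hs), hU.isoSpec.inv,
    CommRingCat.ofHom (Ideal.Quotient.mk (Ideal.ofList hs)), 𝟙 _, hs, inferInstance, ⟨_, rfl⟩,
    IsPullback.of_vert_isIso ⟨by rw [Category.id_comp]⟩, hreg, Ideal.mk_ker⟩

open TensorProduct in
/-- If a sequence of sections stays weakly regular after every affine base change, the closed
subscheme it cuts out is universally regularly immersed relative to the base. -/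
theorem isRegularClosedImmersion_baseChange {X S : Scheme.{u}} (f : X ⟶ S) {U : X.Opens}
    (hU : IsAffineOpen U) {V : S.Opens} (hV : IsAffineOpen V) (e : U ≤ f ⁻¹ᵁ V) (hs : List Γ(X, U))
    (hreg : letI := (f.appLE V U e).hom.toAlgebra
      ∀ (A' : Type u) [CommRing A'] [Algebra Γ(S, V) A'], IsWeaklyRegular (Γ(X, U) ⊗[Γ(S, V)] A') hs)
    (S' : Scheme.{u}) (g : S' ⟶ S) :
    Mor2.IsRegularClosedImmersion
      (pullback.map (Spec.map (CommRingCat.ofHom (Ideal.Quotient.mk (Ideal.ofList hs))) ≫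
          hU.isoSpec.inv ≫ U.ι ≫ f) g (U.ι ≫ f) g
        (Spec.map (CommRingCat.ofHom (Ideal.Quotient.mk (Ideal.ofList hs))) ≫ hU.isoSpec.inv)
        (𝟙 S') (𝟙 S) (Category.comp_id _) ((Category.comp_id g).trans (Category.id_comp g).symm)) := by
  set i := Spec.map (CommRingCat.ofHom (Ideal.Quotient.mk (Ideal.ofList hs))) ≫ hU.isoSpec.inv
    with hi
  set b := U.ι ≫ f with hb
  set a := Spec.map (CommRingCat.ofHom (Ideal.Quotient.mk (Ideal.ofList hs))) ≫
    hU.isoSpec.inv ≫ U.ι ≫ f with ha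
  have hab : a = i ≫ b := by rw [ha, hi, hb, Category.assoc]
  set i' := pullback.map a g b g i (𝟙 S') (𝟙 S) (Category.comp_id _)
    ((Category.comp_id g).trans (Category.id_comp g).symm) with hi'
  haveI : IsClosedImmersion i := by
    haveI : IsClosedImmersion (Spec.map (CommRingCat.ofHom (Ideal.Quotient.mk (Ideal.ofList hs)))) :=
      IsClosedImmersion.spec_of_surjective _ Ideal.Quotient.mk_surjective
    rw [hi]; infer_instance
  have hsq : IsPullback i' (pullback.fst a g) (pullback.fst b g) i := by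
    have s : IsPullback (pullback.snd a g) (pullback.fst a g) g (i ≫ b) :=
      hab ▸ (IsPullback.of_hasPullback a g).flip
    have := IsPullback.of_right' s (IsPullback.of_hasPullback b g).flip
    convert this using 1
    exact (IsPullback.of_hasPullback b g).flip.hom_ext (by simp [hi', pullback.map]; exact pullback.lift_snd _ _ _)
      (by simp [hi', pullback.map]; exact pullback.lift_fst _ _ _)
  haveI : IsClosedImmersion i' := MorphismProperty.of_isPullback hsq.flip inferInstance
  refine isRegularClosedImmersion_of_charts _ fun z => ?_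
  set p := i' z with hp
  have hy : g (pullback.snd b g p) ∈ V := by
    rw [← Scheme.Hom.comp_apply, ← pullback.condition]
    exact e (pullback.fst b g p).2
  obtain ⟨O, hO, hyO, hOV⟩ := exists_isAffineOpen_mem_and_subset (x := pullback.snd b g p)
    (U := g ⁻¹ᵁ V) hy
  letI := (f.appLE V U e).hom.toAlgebra
  letI := (g.appLE V O hOV).hom.toAlgebra
  have e1 : Spec.map (CommRingCat.ofHom (algebraMap Γ(S, V) Γ(X, U))) ≫ hV.fromSpec =
      hU.isoSpec.inv ≫ b := by
    rw [hb, hU.isoSpec_inv_ι_assoc]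
    exact hV.SpecMap_appLE_fromSpec f hU e
  have e2 : Spec.map (CommRingCat.ofHom (algebraMap Γ(S, V) Γ(S', O))) ≫ hV.fromSpec =
      hO.fromSpec ≫ g :=
    hV.SpecMap_appLE_fromSpec g hO hOV
  let R := Γ(X, U) ⊗[Γ(S, V)] Γ(S', O)
  let R' := R ⊗[Γ(X, U)] (Γ(X, U) ⧸ Ideal.ofList hs)
  let j : Spec (CommRingCat.of R) ⟶ pullback b g :=
    (pullbackSpecIso Γ(S, V) Γ(X, U) Γ(S', O)).inv ≫
      pullback.map _ _ b g hU.isoSpec.inv hO.fromSpec hV.fromSpec e1 e2
  have hjfst : j ≫ pullback.fst b g =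
      Spec.map (CommRingCat.ofHom (algebraMap Γ(X, U) R)) ≫ hU.isoSpec.inv := by
    simp only [j, Category.assoc, pullback.lift_fst]
    rw [pullbackSpecIso_inv_fst_assoc]
  have hrange : p ∈ Set.range j := by
    simp only [j, Scheme.Hom.comp_base, TopCat.coe_comp]
    rw [Set.range_comp, Set.range_eq_univ.mpr ?_, Set.image_univ, Scheme.Pullback.range_map]
    · exact ⟨(Scheme.Hom.surjective hU.isoSpec.inv) _, by rw [hO.range_fromSpec]; exact hyO⟩
    · exact (pullbackSpecIso Γ(S, V) Γ(X, U) Γ(S', O)).inv.surjective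
  letI : Algebra (Γ(X, U) ⧸ Ideal.ofList hs) R' := Algebra.TensorProduct.rightAlgebra
  have H1 := isPullback_SpecMap_of_isPushout _ _ _ _ (CommRingCat.isPushout_of_isPushout
    Γ(X, U) R (Γ(X, U) ⧸ Ideal.ofList hs) R')
  have H2 : IsPullback (Spec.map (CommRingCat.ofHom (Ideal.Quotient.mk (Ideal.ofList hs)))) (𝟙 _)
      hU.isoSpec.inv i := IsPullback.of_vert_isIso ⟨by rw [Category.id_comp, hi]⟩
  have H3 := H1.paste_vert H2
  rw [← hjfst] at H3
  have H4 := IsPullback.of_bot' H3 hsq
  refine ⟨_, _, j, _, _, hs.map (algebraMap Γ(X, U) R), inferInstance, hrange, H4,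
    (isWeaklyRegular_map_algebraMap_iff R R hs).mpr (hreg Γ(S', O)), ?_⟩
  rw [← Ideal.map_ofList]
  let q := Algebra.TensorProduct.quotIdealMapEquivTensorQuot R (Ideal.ofList hs)
  have hq : algebraMap R R' = (q.toRingEquiv.toRingHom).comp
      (Ideal.Quotient.mk ((Ideal.ofList hs).map (algebraMap Γ(X, U) R))) :=
    RingHom.ext fun r => (q.commutes r).symm
  rw [CommRingCat.hom_ofHom, hq, RingHom.ker_comp_of_injective _ q.toRingEquiv.injective,
    Ideal.mk_ker]

end Groth.FlatMor2.FibCrit
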