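import Groth.Agent.FlatMor2.FibCrit.RegSeq
import Groth.Agent.FlatMor2.FibCrit.RegImmersion
import Groth.Agent.FlatMor2.FibCrit.SchemeCrit

/-!
Charts cut out by sequences which are regular on the fibre.
-/

universe u

open AlgebraicGeometry CategoryTheory IsLocalRing TopologicalSpace RingTheory.Sequence TensorProduct

namespace Groth.FlatMor2.FibCrit

set_option linter.style.haveILetI false
set_option synthInstance.maxHeartbeats 200000

/-- Finitely many germs come from sections on a common neighbourhood. -/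
theorem exists_lift_list {X : Scheme.{u}} (x : X) (hs : List (X.presheaf.stalk x)) (Ω : X.Opens)
    (hx : x ∈ Ω) : ∃ (O : X.Opens) (hxO : x ∈ O) (c : List Γ(X, O)),
      O ≤ Ω ∧ c.map (X.presheaf.germ O x hxO) = hs := by
  induction hs with
  | nil => exact ⟨Ω, hx, [], le_rfl, rfl⟩
  | cons h hs ih =>
    obtain ⟨O, hxO, c, hle, hc⟩ := ih
    obtain ⟨O₁, hxO₁, h₁, rfl⟩ := X.presheaf.exists_germ_eq h
    refine ⟨O ⊓ O₁, ⟨hxO, hxO₁⟩, X.presheaf.map (homOfLE (inf_le_right : O ⊓ O₁ ≤ O₁)).op h₁ ::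
      c.map (X.presheaf.map (homOfLE (inf_le_left : O ⊓ O₁ ≤ O)).op), inf_le_left.trans hle, ?_⟩
    rw [List.map_cons, List.map_map, ← hc]
    refine congrArg₂ _ (X.presheaf.germ_res_apply _ x _ h₁) (List.map_congr_left fun a _ => ?_)
    exact X.presheaf.germ_res_apply _ x _ a

/-- Around a point, a sequence which is regular on the fibre cuts out a closed subscheme which is flat
over the base and regularly immersed, universally so relative to the base. -/
theorem exists_regular_nhd {X S : Scheme.{u}} (f : X ⟶ S) [LocallyOfFinitePresentation f]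
    {V : S.Opens} (hV : IsAffineOpen V) {U : X.Opens} (hU : IsAffineOpen U) (e : U ≤ f ⁻¹ᵁ V) (x : X)
    (hx : x ∈ U) (hflat : (f.stalkMap x).hom.Flat) (c : List Γ(X, U))
    (hmem : ∀ a ∈ c, X.presheaf.germ U x hx a ∈ maximalIdeal (X.presheaf.stalk x))
    (hreg : IsWeaklyRegular (X.presheaf.stalk x ⧸ Ideal.map (f.stalkMap x).hom (maximalIdeal (S.presheaf.stalk (f x))))
      (c.map fun a => Ideal.Quotient.mk (Ideal.map (f.stalkMap x).hom (maximalIdeal (S.presheaf.stalk (f x))))
        (X.presheaf.germ U x hx a))) :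
    ∃ g : Γ(X, U), x ∈ X.basicOpen g ∧ ∀ g' : Γ(X, U), g ∣ g' →
      let c' := c.map (X.presheaf.map (homOfLE (X.basicOpen_le g')).op)
      Mor2.IsRegularClosedImmersion
          (Spec.map (CommRingCat.ofHom (Ideal.Quotient.mk (Ideal.ofList c'))) ≫ (hU.basicOpen g').isoSpec.inv) ∧
        Flat (Spec.map (CommRingCat.ofHom (Ideal.Quotient.mk (Ideal.ofList c'))) ≫ (hU.basicOpen g').fromSpec ≫ f) ∧
        LocallyOfFinitePresentation
          (Spec.map (CommRingCat.ofHom (Ideal.Quotient.mk (Ideal.ofList c'))) ≫ (hU.basicOpen g').fromSpec ≫ f) ∧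
        ∀ (S' : Scheme.{u}) (γ : S' ⟶ S), Mor2.IsRegularClosedImmersion
          (Limits.pullback.map (Spec.map (CommRingCat.ofHom (Ideal.Quotient.mk (Ideal.ofList c'))) ≫
              (hU.basicOpen g').isoSpec.inv ≫ (X.basicOpen g').ι ≫ f) γ ((X.basicOpen g').ι ≫ f) γ
            (Spec.map (CommRingCat.ofHom (Ideal.Quotient.mk (Ideal.ofList c'))) ≫ (hU.basicOpen g').isoSpec.inv)
            (𝟙 S') (𝟙 S) (Category.comp_id _) ((Category.comp_id γ).trans (Category.id_comp γ).symm)) := by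
  letI : Algebra Γ(S, V) Γ(X, U) := (f.appLE V U e).hom.toAlgebra
  haveI : Algebra.FinitePresentation Γ(S, V) Γ(X, U) := f.finitePresentation_appLE hV hU e
  letI := S.presheaf.algebra_section_stalk ⟨f x, e hx⟩
  letI := X.presheaf.algebra_section_stalk ⟨x, hx⟩
  let q := (hU.primeIdealOf ⟨x, hx⟩).asIdeal
  haveI : IsLocalization.AtPrime (X.presheaf.stalk x) q := hU.isLocalization_stalk ⟨x, hx⟩
  haveI : IsLocalization.AtPrime (S.presheaf.stalk (f x)) (q.under Γ(S, V)) :=
    isLocalization_stalk_under f hV hU e x hx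
  letI : Algebra (S.presheaf.stalk (f x)) (X.presheaf.stalk x) := (f.stalkMap x).hom.toAlgebra
  letI : Algebra Γ(S, V) (X.presheaf.stalk x) :=
    ((algebraMap Γ(X, U) (X.presheaf.stalk x)).comp (algebraMap Γ(S, V) Γ(X, U))).toAlgebra
  haveI : IsScalarTower Γ(S, V) Γ(X, U) (X.presheaf.stalk x) := IsScalarTower.of_algebraMap_eq' rfl
  haveI : IsScalarTower Γ(S, V) (S.presheaf.stalk (f x)) (X.presheaf.stalk x) :=
    IsScalarTower.of_algebraMap_eq fun a => (stalkMap_germ_appLE f e x hx a).symm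
  haveI : Module.Flat Γ(S, V) (X.presheaf.stalk x) :=
    (flat_base_iff_local (Br := S.presheaf.stalk (f x)) (q.under Γ(S, V))).mp
      (RingHom.flat_algebraMap_iff.mp hflat)
  have hmax : Ideal.map (f.stalkMap x).hom (maximalIdeal (S.presheaf.stalk (f x))) =
      (q.under Γ(S, V)).map (algebraMap Γ(S, V) (X.presheaf.stalk x)) := by
    rw [IsScalarTower.algebraMap_eq Γ(S, V) (S.presheaf.stalk (f x)) (X.presheaf.stalk x),
      ← Ideal.map_map, IsLocalization.AtPrime.map_eq_maximalIdeal (q.under Γ(S, V))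
        (S.presheaf.stalk (f x))]
    rfl
  have hcq : ∀ a ∈ c, a ∈ q := fun a ha =>
    (IsLocalization.AtPrime.to_map_mem_maximal_iff (X.presheaf.stalk x) q a).mp (hmem a ha)
  have hreg' : IsWeaklyRegular
      (X.presheaf.stalk x ⧸ (q.under Γ(S, V)).map (algebraMap Γ(S, V) (X.presheaf.stalk x))) c := by
    rw [← hmax]
    exact (isWeaklyRegular_map_algebraMap_iff
      (X.presheaf.stalk x ⧸ Ideal.map (f.stalkMap x).hom (maximalIdeal (S.presheaf.stalk (f x))))
      _ c).mp hreg
  obtain ⟨g, hg, hall⟩ := exists_nhd_weaklyRegular c q hcq (X.presheaf.stalk x) hreg'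
  refine ⟨g, (Groth.QCohMod.mem_basicOpen_iff_notMem_primeIdealOf hU g x hx).mpr hg, fun g' hgg' => ?_⟩
  intro c'
  let W := X.basicOpen g'
  have hW : IsAffineOpen W := hU.basicOpen g'
  have eW : W ≤ f ⁻¹ᵁ V := (X.basicOpen_le g').trans e
  haveI : IsLocalization.Away g' Γ(X, W) := hU.isLocalization_basicOpen g'
  letI : Algebra Γ(S, V) Γ(X, W) := (f.appLE V W eW).hom.toAlgebra
  haveI : IsScalarTower Γ(S, V) Γ(X, U) Γ(X, W) := IsScalarTower.of_algebraMap_eq fun a =>
    (congr($(f.appLE_map e (homOfLE (X.basicOpen_le g')).op) a)).symm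
  obtain ⟨hfl, hN⟩ := hall g' hgg' Γ(X, W)
  have hc' : c' = c.map (algebraMap Γ(X, U) Γ(X, W)) := rfl
  have hwr : ∀ (A' : Type u) [CommRing A'] [Algebra Γ(S, V) A'],
      IsWeaklyRegular (Γ(X, W) ⊗[Γ(S, V)] A') c' := fun A' _ _ =>
    hc' ▸ (isWeaklyRegular_map_algebraMap_iff Γ(X, W) _ c).mpr (hN A')
  refine ⟨isRegularClosedImmersion_ofList hW c'
    (((AlgebraTensorModule.rid Γ(S, V) Γ(X, W) Γ(X, W)).isWeaklyRegular_congr c').mp (hwr Γ(S, V))),
    ?_, ?_, isRegularClosedImmersion_baseChange f hW hV eW c' hwr⟩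
  · rw [← hV.SpecMap_appLE_fromSpec f hW eW, ← Spec.map_comp_assoc]
    refine MorphismProperty.comp_mem @Flat _ _ ?_ inferInstance
    rw [HasRingHomProperty.Spec_iff (P := @Flat)]
    refine RingHom.flat_algebraMap_iff.mpr ?_
    haveI := hfl
    exact Module.Flat.of_linearEquiv (((Submodule.Quotient.restrictScalarsEquiv Γ(X, U)
      (Ideal.ofList c')).symm.trans (Submodule.quotEquivOfEq _ (Ideal.ofList c • ⊤) (by
        rw [hc', ← Ideal.map_ofList, Ideal.smul_top_eq_map]))).restrictScalars Γ(S, V))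
  · rw [← hV.SpecMap_appLE_fromSpec f hW eW, ← Spec.map_comp_assoc]
    refine MorphismProperty.comp_mem @LocallyOfFinitePresentation _ _ ?_ inferInstance
    rw [HasRingHomProperty.Spec_iff (P := @LocallyOfFinitePresentation)]
    exact RingHom.FinitePresentation.comp
      (RingHom.FinitePresentation.of_surjective _ Ideal.Quotient.mk_surjective
        ((congrArg Ideal.FG Ideal.mk_ker).mpr (Submodule.fg_span (List.finite_toSet c'))))
      (f.finitePresentation_appLE hV hW eW)

end Groth.FlatMor2.FibCrit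

namespace Groth.FlatMor2.FibCrit

/-- A point lies on the closed subscheme cut out by sections whose germs at it are not units. -/
theorem mem_range_ofList {X : Scheme.{u}} {U : X.Opens} (hU : IsAffineOpen U) (c : List Γ(X, U))
    (x : X) (hx : x ∈ U) (hmem : ∀ a ∈ c, X.presheaf.germ U x hx a ∈ maximalIdeal (X.presheaf.stalk x)) :
    x ∈ Set.range (Spec.map (CommRingCat.ofHom (Ideal.Quotient.mk (Ideal.ofList c))) ≫ hU.fromSpec) := by
  have h : hU.primeIdealOf ⟨x, hx⟩ ∈ PrimeSpectrum.zeroLocus (RingHom.ker (Ideal.Quotient.mk (Ideal.ofList c)) : Set Γ(X, U)) := by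
    rw [Ideal.mk_ker, PrimeSpectrum.mem_zeroLocus, SetLike.coe_subset_coe]
    refine Ideal.span_le.mpr fun a ha => ?_
    letI := X.presheaf.algebra_section_stalk ⟨x, hx⟩
    haveI := hU.isLocalization_stalk ⟨x, hx⟩
    exact (IsLocalization.AtPrime.to_map_mem_maximal_iff (X.presheaf.stalk x)
      (hU.primeIdealOf ⟨x, hx⟩).asIdeal a).mp (hmem a ha)
  rw [← range_comap_of_surjective _ _ Ideal.Quotient.mk_surjective] at h
  obtain ⟨z, hz⟩ := h
  refine ⟨z, ?_⟩
  rw [Scheme.Hom.comp_apply]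
  exact (congrArg hU.fromSpec hz).trans (hU.fromSpec_primeIdealOf ⟨x, hx⟩)

end Groth.FlatMor2.FibCrit
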