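import Groth.Agent.FlatMor2.FibCrit.FP
import Groth.Agent.FlatMor2.FibCrit.Transfer

/-!
The fibrewise criterion of flatness when the middle algebra is only of finite type.
-/

universe u

open TensorProduct

namespace Groth.FlatMor2.FibCrit

set_option linter.style.haveILetI false
set_option synthInstance.maxHeartbeats 200000

attribute [local instance] Algebra.TensorProduct.rightAlgebra

/-- A finite type algebra is the quotient of a finitely presented one with the same fibre at a prime. -/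
theorem exists_fp_cover (A B : Type u) [CommRing A] [CommRing B] [Algebra A B]
    [Algebra.FiniteType A B] (p : Ideal A) [p.IsPrime] :
    ∃ (B₀ : Type u) (_ : CommRing B₀) (_ : Algebra A B₀) (_ : Algebra.FinitePresentation A B₀)
      (π : B₀ →ₐ[A] B), Function.Surjective π ∧
        ∀ b, π b = 0 → (1 : p.ResidueField) ⊗ₜ[A] b = 0 := by
  classical
  obtain ⟨n, π, hπ⟩ := Algebra.FiniteType.iff_quotient_mvPolynomial''.mp ‹Algebra.FiniteType A B›
  let P := MvPolynomial (Fin n) A
  let ι : P →ₐ[A] p.Fiber P := Algebra.TensorProduct.includeRight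
  haveI : IsNoetherianRing (p.Fiber P) :=
    Algebra.FiniteType.isNoetherianRing p.ResidueField (p.Fiber P)
  let J : Ideal P := RingHom.ker π
  have hfg : (Ideal.span (ι '' (J : Set P))).FG := IsNoetherian.noetherian _
  obtain ⟨t, htJ, ht⟩ := (Submodule.fg_span_iff_fg_span_finset_subset _).mp hfg
  obtain ⟨s, hsJ, rfl⟩ := Finset.subset_set_image_iff.mp htJ
  let J₀ : Ideal P := Ideal.span (s : Set P)
  have hJ₀ : J₀ ≤ J := Ideal.span_le.mpr hsJ
  refine ⟨P ⧸ J₀, inferInstance, inferInstance, Algebra.FinitePresentation.quotient ⟨s, rfl⟩,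
    Ideal.Quotient.liftₐ J₀ π (fun x hx => hJ₀ hx), ?_, fun b hb => ?_⟩
  · exact fun b => let ⟨x, hx⟩ := hπ b; ⟨Ideal.Quotient.mk J₀ x, hx⟩
  · obtain ⟨x, rfl⟩ := Ideal.Quotient.mk_surjective b
    let θ : p.Fiber P →ₐ[A] p.Fiber (P ⧸ J₀) :=
      Algebra.TensorProduct.map (AlgHom.id A _) (Ideal.Quotient.mkₐ A J₀)
    have hx : ι x ∈ Ideal.span (ι '' (s : Set P)) := by
      have := Ideal.subset_span (α := p.Fiber P) (Set.mem_image_of_mem ι (show x ∈ (J : Set P) from hb))
      rwa [← Finset.coe_image, Ideal.span, ← ht]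
    have hle : Ideal.span (ι '' (s : Set P)) ≤ RingHom.ker θ := by
      refine Ideal.span_le.mpr ?_
      rintro _ ⟨y, hy, rfl⟩
      simp only [SetLike.mem_coe, RingHom.mem_ker, θ, ι, Algebra.TensorProduct.includeRight_apply,
        Algebra.TensorProduct.map_tmul, Ideal.Quotient.mkₐ_eq_mk]
      have hy₀ : (Ideal.Quotient.mk J₀) y = 0 :=
        Ideal.Quotient.eq_zero_iff_mem.mpr (Ideal.subset_span hy)
      rw [hy₀, TensorProduct.tmul_zero]
    have h : θ ((1 : p.ResidueField) ⊗ₜ[A] x) = 0 := RingHom.mem_ker.mp (hle hx)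
    simpa [θ] using h

variable {A B C M : Type u} [CommRing A] [CommRing B] [CommRing C] [Algebra A B]
  [Algebra A C] [Algebra B C] [IsScalarTower A B C] [Algebra.FiniteType A B]
  [Algebra.FinitePresentation A C] [AddCommGroup M] [Module C M] [Module B M] [Module A M]
  [IsScalarTower B C M] [IsScalarTower A B M] [IsScalarTower A C M]
  [Module.FinitePresentation C M] (q : Ideal C) [q.IsPrime]
  {Br Cq Mq : Type u} [CommRing Br] [CommRing Cq] [Algebra B Br]
  [IsLocalization.AtPrime Br (q.under B)] [Algebra A Br] [IsScalarTower A B Br] [Algebra C Cq]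
  [IsLocalization.AtPrime Cq q] [Algebra Br Cq] [Algebra B Cq] [IsScalarTower B Br Cq]
  [IsScalarTower B C Cq] [Algebra A Cq] [IsScalarTower A C Cq]
  [AddCommGroup Mq] [Module C Mq] [Module Cq Mq] [IsScalarTower C Cq Mq]
  [Module B Mq] [IsScalarTower B C Mq] [Module Br Mq] [IsScalarTower Br Cq Mq]
  [IsScalarTower B Br Mq] [Module A Mq] [IsScalarTower A C Mq]
  (ℓ : M →ₗ[C] Mq) [IsLocalizedModule q.primeCompl ℓ]

include Cq ℓ in
/-- The criterion holds for a finitely presented cover of the middle algebra. -/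
theorem exists_cover_flat [Nontrivial Mq] [Module.Flat A Mq]
    (hfib : Module.Flat (Br ⧸ (q.under A).map (algebraMap A Br))
      (Mq ⧸ ((q.under A).map (algebraMap A Br) • ⊤ : Submodule Br Mq))) :
    ∃ (B₀ : Type u) (_ : CommRing B₀) (_ : Algebra A B₀) (_ : Algebra.FinitePresentation A B₀)
      (_ : Algebra B₀ B) (_ : Algebra B₀ C) (_ : IsScalarTower A B₀ B) (_ : IsScalarTower B₀ B C)
      (_ : IsScalarTower A B₀ C) (_ : Module B₀ Mq) (_ : IsScalarTower B₀ B Mq),
      Function.Surjective (algebraMap B₀ B) ∧ Module.Flat A (Localization.AtPrime (q.under B₀)) ∧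
        Module.Flat B₀ Mq := by
  classical
  let p := q.under A
  obtain ⟨B₀, _, _, _, π, hπ, hker⟩ := exists_fp_cover A B p
  letI : Algebra B₀ B := π.toRingHom.toAlgebra
  letI : Algebra B₀ C := ((algebraMap B C).comp π.toRingHom).toAlgebra
  haveI : IsScalarTower A B₀ B := IsScalarTower.of_algebraMap_eq fun a => (π.commutes a).symm
  haveI : IsScalarTower B₀ B C := IsScalarTower.of_algebraMap_eq' rfl
  haveI : IsScalarTower A B₀ C := IsScalarTower.of_algebraMap_eq fun a => by
    change _ = algebraMap B C (π (algebraMap A B₀ a))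
    rw [π.commutes, ← IsScalarTower.algebraMap_apply]
  letI : Module B₀ M := Module.compHom M (algebraMap B₀ C)
  haveI : IsScalarTower B₀ C M := IsScalarTower.of_algebraMap_smul fun _ _ => rfl
  haveI : IsScalarTower A B₀ M := IsScalarTower.of_algebraMap_smul fun a m => by
    change algebraMap B₀ C (algebraMap A B₀ a) • m = _
    rw [← IsScalarTower.algebraMap_apply A B₀ C, algebraMap_smul]
  letI : Algebra B₀ Cq := ((algebraMap C Cq).comp (algebraMap B₀ C)).toAlgebra
  haveI : IsScalarTower B₀ C Cq := IsScalarTower.of_algebraMap_eq' rfl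
  letI : Module B₀ Mq := Module.compHom Mq (algebraMap B₀ C)
  haveI : IsScalarTower B₀ C Mq := IsScalarTower.of_algebraMap_smul fun _ _ => rfl
  haveI : IsScalarTower B₀ B Mq := IsScalarTower.of_algebraMap_smul fun b m => by
    change π b • m = algebraMap B C (π b) • m
    rw [algebraMap_smul]
  let r₀ := q.under B₀
  let B₀r := Localization.AtPrime r₀
  have hcomap : (q.under B).comap π.toRingHom = r₀ := by
    simp only [r₀, Ideal.under, Ideal.comap_comap]
    rfl
  let ρ : B₀r →+* Br := IsLocalization.map Br π.toRingHom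
    (show r₀.primeCompl ≤ (q.under B).primeCompl.comap π.toRingHom from fun x hx h =>
      hx (hcomap ▸ (h : x ∈ (q.under B).comap π.toRingHom)))
  have hρ : ∀ b, ρ (algebraMap B₀ B₀r b) = algebraMap B Br (π b) := fun b =>
    IsLocalization.map_eq _ b
  letI : Algebra B₀r Br := ρ.toAlgebra
  letI : Algebra B₀r Cq := ((algebraMap Br Cq).comp ρ).toAlgebra
  haveI : IsScalarTower B₀r Br Cq := IsScalarTower.of_algebraMap_eq' rfl
  haveI : IsScalarTower B₀ B₀r Cq := IsScalarTower.of_algebraMap_eq fun b => by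
    change algebraMap C Cq (algebraMap B C (π b)) = algebraMap Br Cq (ρ (algebraMap B₀ B₀r b))
    rw [hρ, ← IsScalarTower.algebraMap_apply B Br Cq, ← IsScalarTower.algebraMap_apply B C Cq]
  letI : Module B₀r Mq := Module.compHom Mq ρ
  haveI : IsScalarTower B₀r Br Mq := IsScalarTower.of_algebraMap_smul fun _ _ => rfl
  haveI : IsScalarTower B₀r Cq Mq := IsScalarTower.of_algebraMap_smul fun z m => by
    change algebraMap Br Cq (ρ z) • m = ρ z • m
    rw [algebraMap_smul]
  haveI : IsScalarTower B₀ B₀r Mq := IsScalarTower.of_algebraMap_smul fun b m => by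
    change ρ (algebraMap B₀ B₀r b) • m = algebraMap B C (π b) • m
    rw [hρ, algebraMap_smul Br (π b) m, algebraMap_smul C (π b) m]
  haveI : IsScalarTower A B₀r Br := IsScalarTower.of_algebraMap_eq fun a => by
    change _ = ρ (algebraMap A B₀r a)
    rw [IsScalarTower.algebraMap_apply A B₀ B₀r, hρ, π.commutes, ← IsScalarTower.algebraMap_apply]
  -- the kernel of `B₀r → Br` dies in the fibre
  have hρs : Function.Surjective ρ := by
    intro z
    obtain ⟨b, ⟨s, hs⟩, rfl⟩ := IsLocalization.exists_mk'_eq (q.under B).primeCompl z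
    obtain ⟨b, rfl⟩ := hπ b
    obtain ⟨s, rfl⟩ := hπ s
    have hs' : s ∈ r₀.primeCompl := fun h => hs (show s ∈ (q.under B).comap π.toRingHom from hcomap ▸ h)
    refine ⟨IsLocalization.mk' B₀r b (⟨s, hs'⟩ : r₀.primeCompl), ?_⟩
    exact IsLocalization.map_mk' _ b ⟨s, hs'⟩
  obtain ⟨φ, hφ⟩ := exists_fibToQuot (C := B₀) B₀r p r₀
  have hρk : RingHom.ker ρ ≤ p.map (algebraMap A B₀r) := by
    intro z hz
    obtain ⟨b, ⟨s, hs⟩, rfl⟩ := IsLocalization.exists_mk'_eq r₀.primeCompl z
    have hb : algebraMap B Br (π b) = 0 := by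
      have h1 := congrArg ρ (IsLocalization.mk'_spec B₀r b (⟨s, hs⟩ : r₀.primeCompl))
      rwa [map_mul, RingHom.mem_ker.mp hz, zero_mul, hρ, eq_comm] at h1
    obtain ⟨⟨t, ht⟩, htb⟩ := (IsLocalization.map_eq_zero_iff (q.under B).primeCompl Br _).mp hb
    obtain ⟨t, rfl⟩ := hπ t
    have ht' : t ∈ r₀.primeCompl := fun h => ht (show t ∈ (q.under B).comap π.toRingHom from hcomap ▸ h)
    have h2 : Ideal.Quotient.mk (p.map (algebraMap A B₀r)) (algebraMap B₀ B₀r (t * b)) = 0 := by
      rw [← hφ, hker (t * b) (by rw [map_mul]; exact htb), map_zero]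
    rw [Ideal.Quotient.eq_zero_iff_mem, map_mul] at h2
    have h3 := (Ideal.unit_mul_mem_iff_mem _ (IsLocalization.map_units B₀r (⟨t, ht'⟩ : r₀.primeCompl))).mp h2
    rw [IsLocalization.mk'_eq_mul_mk'_one]
    exact Ideal.mul_mem_right _ _ h3
  have hJ : p.map (algebraMap A Br) = (p.map (algebraMap A B₀r)).map (algebraMap B₀r Br) := by
    rw [Ideal.map_map, ← IsScalarTower.algebraMap_eq]
  let σ : B₀r ⧸ p.map (algebraMap A B₀r) →+* Br ⧸ p.map (algebraMap A Br) :=
    Ideal.quotientMap _ (algebraMap B₀r Br) (Ideal.map_le_iff_le_comap.mp hJ.ge)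
  have hσ : Function.Bijective σ := by
    refine ⟨Ideal.quotientMap_injective' ?_, Ideal.quotientMap_surjective hρs⟩
    rw [hJ, Ideal.comap_map_of_surjective (algebraMap B₀r Br) hρs]
    exact sup_le le_rfl hρk
  letI : Algebra (B₀r ⧸ p.map (algebraMap A B₀r)) (Br ⧸ p.map (algebraMap A Br)) := σ.toAlgebra
  letI : Module (B₀r ⧸ p.map (algebraMap A B₀r))
      (Mq ⧸ (p.map (algebraMap A Br) • ⊤ : Submodule Br Mq)) := Module.compHom _ σ
  haveI : IsScalarTower (B₀r ⧸ p.map (algebraMap A B₀r)) (Br ⧸ p.map (algebraMap A Br))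
      (Mq ⧸ (p.map (algebraMap A Br) • ⊤ : Submodule Br Mq)) :=
    IsScalarTower.of_algebraMap_smul fun _ _ => rfl
  have hfib₀ : Module.Flat (B₀r ⧸ p.map (algebraMap A B₀r))
      (Mq ⧸ (p.map (algebraMap A B₀r) • ⊤ : Submodule B₀r Mq)) := by
    haveI : Module.Flat (B₀r ⧸ p.map (algebraMap A B₀r))
        (Mq ⧸ (p.map (algebraMap A Br) • ⊤ : Submodule Br Mq)) :=
      (flat_iff_of_bijective hσ).mpr hfib
    let e := (quotSmulEquiv (Br := B₀r) (Cq := Br) (Mq := Mq) _ _ hJ).symm
    refine flat_of_addEquiv e.toAddEquiv fun z m => ?_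
    obtain ⟨z, rfl⟩ := Ideal.Quotient.mk_surjective z
    change e (ρ z • m) = z • e m
    exact map_smul e z m
  obtain ⟨hflatB, hflatM⟩ := fp_criterion (A := A) (B := B₀) (C := C) (M := M) q (Br := B₀r) (Cq := Cq) (Mq := Mq) ℓ hfib₀
  exact ⟨B₀, _, _, inferInstance, inferInstance, inferInstance, inferInstance, inferInstance,
    inferInstance, inferInstance, inferInstance, hπ, hflatB, hflatM⟩

include Cq ℓ in
/-- Flatness for a cover of the middle algebra gives it for the algebra itself. -/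
theorem flat_of_cover {B₀ : Type u} [CommRing B₀] [Algebra A B₀] [Algebra B₀ B] [Algebra B₀ C]
    [IsScalarTower A B₀ B] [IsScalarTower B₀ B C] [IsScalarTower A B₀ C] [Module B₀ Mq]
    [IsScalarTower B₀ B Mq] [Nontrivial Mq] (hπ : Function.Surjective (algebraMap B₀ B))
    (hflatB : Module.Flat A (Localization.AtPrime (q.under B₀))) (hflatM : Module.Flat B₀ Mq) :
    Module.Flat A Br ∧ Module.Flat B Mq := by
  classical
  let π := IsScalarTower.toAlgHom A B₀ B
  letI : Algebra B₀ Cq := ((algebraMap C Cq).comp (algebraMap B₀ C)).toAlgebra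
  haveI : IsScalarTower B₀ C Cq := IsScalarTower.of_algebraMap_eq' rfl
  haveI : IsScalarTower B₀ C Mq := IsScalarTower.of_algebraMap_smul fun b m => by
    rw [IsScalarTower.algebraMap_apply B₀ B C, algebraMap_smul, algebraMap_smul]
  let r₀ := q.under B₀
  let B₀r := Localization.AtPrime r₀
  have hcomap : (q.under B).comap π.toRingHom = r₀ := by
    simp only [r₀, Ideal.under, Ideal.comap_comap, IsScalarTower.algebraMap_eq B₀ B C]
    rfl
  let ρ : B₀r →+* Br := IsLocalization.map Br π.toRingHom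
    (show r₀.primeCompl ≤ (q.under B).primeCompl.comap π.toRingHom from fun x hx h =>
      hx (hcomap ▸ (h : x ∈ (q.under B).comap π.toRingHom)))
  have hρ : ∀ b, ρ (algebraMap B₀ B₀r b) = algebraMap B Br (π b) := fun b =>
    IsLocalization.map_eq _ b
  letI : Algebra B₀r Br := ρ.toAlgebra
  letI : Algebra B₀r Cq := ((algebraMap Br Cq).comp ρ).toAlgebra
  haveI : IsScalarTower B₀r Br Cq := IsScalarTower.of_algebraMap_eq' rfl
  haveI : IsScalarTower B₀ B₀r Cq := IsScalarTower.of_algebraMap_eq fun b => by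
    change algebraMap C Cq (algebraMap B₀ C b) = algebraMap Br Cq (ρ (algebraMap B₀ B₀r b))
    rw [IsScalarTower.algebraMap_apply B₀ B C, show algebraMap B₀ B b = π b from rfl]
    rw [hρ, ← IsScalarTower.algebraMap_apply B Br Cq, ← IsScalarTower.algebraMap_apply B C Cq]
  letI : Module B₀r Mq := Module.compHom Mq ρ
  haveI : IsScalarTower B₀r Br Mq := IsScalarTower.of_algebraMap_smul fun _ _ => rfl
  haveI : IsScalarTower B₀r Cq Mq := IsScalarTower.of_algebraMap_smul fun z m => by
    change algebraMap Br Cq (ρ z) • m = ρ z • m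
    rw [algebraMap_smul]
  haveI : IsScalarTower B₀ B₀r Mq := IsScalarTower.of_algebraMap_smul fun b m => by
    change ρ (algebraMap B₀ B₀r b) • m = b • m
    rw [hρ, algebraMap_smul Br (π b) m]
    exact algebraMap_smul B b m
  haveI : IsScalarTower A B₀r Br := IsScalarTower.of_algebraMap_eq fun a => by
    change _ = ρ (algebraMap A B₀r a)
    rw [IsScalarTower.algebraMap_apply A B₀ B₀r, hρ, π.commutes, ← IsScalarTower.algebraMap_apply]
  have hρs : Function.Surjective ρ := by
    intro z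
    obtain ⟨b, ⟨s, hs⟩, rfl⟩ := IsLocalization.exists_mk'_eq (q.under B).primeCompl z
    obtain ⟨b, rfl⟩ := hπ b
    obtain ⟨s, rfl⟩ := hπ s
    have hs' : s ∈ r₀.primeCompl := fun h => hs (show s ∈ (q.under B).comap π.toRingHom from hcomap ▸ h)
    refine ⟨IsLocalization.mk' B₀r b (⟨s, hs'⟩ : r₀.primeCompl), ?_⟩
    exact IsLocalization.map_mk' _ b ⟨s, hs'⟩
  haveI : Module.Flat B₀r Mq := (flat_base_iff_local r₀).mpr hflatM
  haveI : IsLocalHom (algebraMap B₀r Cq) := ⟨fun z hz => by
    obtain ⟨b, ⟨s, hs⟩, rfl⟩ := IsLocalization.exists_mk'_eq r₀.primeCompl z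
    rw [IsLocalization.AtPrime.isUnit_mk'_iff B₀r r₀]
    intro hb
    have h1 : IsUnit (algebraMap B₀r Cq (algebraMap B₀ B₀r b)) := by
      rw [← IsLocalization.mk'_spec B₀r b (⟨s, hs⟩ : r₀.primeCompl), map_mul]
      exact hz.mul ((IsLocalization.map_units B₀r (⟨s, hs⟩ : r₀.primeCompl)).map _)
    rw [← IsScalarTower.algebraMap_apply, IsScalarTower.algebraMap_apply B₀ C Cq] at h1
    exact (IsLocalization.AtPrime.isUnit_to_map_iff Cq q _).mp h1 hb⟩
  haveI : IsLocalRing Cq := IsLocalization.AtPrime.isLocalRing Cq q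
  haveI : Module.Finite Cq Mq := Module.Finite.of_isLocalizedModule q.primeCompl ℓ
  haveI := faithfullyFlat_of_isLocalHom (S := B₀r) (S' := Cq) (M := Mq)
  have hρi : Function.Injective ρ := (injective_iff_map_eq_zero ρ).mpr fun z hz =>
    eq_zero_of_forall_smul_eq_zero (M := Mq) fun m => by
      change ρ z • m = 0
      rw [hz, zero_smul]
  refine ⟨Module.Flat.of_linearEquiv (AlgEquiv.ofBijective
    (IsScalarTower.toAlgHom A B₀r Br) ⟨hρi, hρs⟩).toLinearEquiv.symm, ?_⟩
  exact (flat_base_iff_local (q.under B)).mp ((flat_iff_of_bijective ⟨hρi, hρs⟩).mp inferInstance)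


include Cq ℓ in
/-- The fibrewise criterion of flatness (critère de platitude par fibres), affine local form. -/
theorem criterion [Nontrivial Mq] [Module.Flat A Mq]
    (hfib : Module.Flat (Br ⧸ (q.under A).map (algebraMap A Br))
      (Mq ⧸ ((q.under A).map (algebraMap A Br) • ⊤ : Submodule Br Mq))) :
    Module.Flat A Br ∧ Module.Flat B Mq := by
  obtain ⟨B₀, _, _, _, _, _, _, _, _, _, _, hπ, hB, hM⟩ := exists_cover_flat (A := A) (B := B) (C := C) q (Br := Br) (Cq := Cq) (Mq := Mq) ℓ hfib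
  exact flat_of_cover (A := A) (B := B) (C := C) q (Br := Br) (Cq := Cq) (Mq := Mq) ℓ hπ hB hM

end Groth.FlatMor2.FibCrit
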