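import Mathlib

/-!
The local ring of a fibre, written as `C_q / p C_q`.
-/

universe u

open TensorProduct

namespace Groth.FlatMor2.FibCrit

set_option linter.style.haveILetI false

variable {A C Cq : Type u} [CommRing A] [CommRing C] [Algebra A C] [CommRing Cq] [Algebra C Cq]
  [Algebra A Cq] [IsScalarTower A C Cq] (p : Ideal A) [p.IsPrime] (q : Ideal C) [q.IsPrime]
  [q.LiesOver p] [IsLocalization.AtPrime Cq q]

include q in
theorem isUnit_algebraMap_quot {a : A} (ha : a ∉ p) :
    IsUnit (algebraMap A (Cq ⧸ p.map (algebraMap A Cq)) a) := by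
  have : algebraMap A C a ∉ q := fun h => ha ((Ideal.mem_of_liesOver q p a).mpr h)
  have h := (IsLocalization.map_units (M := q.primeCompl) Cq ⟨_, this⟩).map
    (Ideal.Quotient.mk (p.map (algebraMap A Cq)))
  rwa [← IsScalarTower.algebraMap_apply] at h

variable (Cq) in
include q in
theorem exists_fibToQuot :
    ∃ φ : p.Fiber C →ₐ[A] Cq ⧸ p.map (algebraMap A Cq),
      ∀ c : C, φ (1 ⊗ₜ c) = Ideal.Quotient.mk _ (algebraMap C Cq c) := by
  let ρ : p.ResidueField →ₐ[A] Cq ⧸ p.map (algebraMap A Cq) :=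
    Ideal.ResidueField.liftₐ p (Algebra.ofId A _)
      (fun a ha => by
        change algebraMap A (Cq ⧸ p.map (algebraMap A Cq)) a = 0
        rw [IsScalarTower.algebraMap_apply A Cq (Cq ⧸ p.map (algebraMap A Cq))]
        exact Ideal.Quotient.eq_zero_iff_mem.mpr (Ideal.mem_map_of_mem _ ha))
      (fun a ha => isUnit_algebraMap_quot p q ha)
  refine ⟨Algebra.TensorProduct.lift ρ ((Ideal.Quotient.mkₐ A _).comp (IsScalarTower.toAlgHom A C Cq))
    fun _ _ => .all _ _, fun c => ?_⟩
  simp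

/-- `C_q / p C_q` is a localization of the fibre ring. -/
theorem exists_isLocalization_fib [Algebra (p.Fiber C) (Cq ⧸ p.map (algebraMap A Cq))]
    (hφ : ∀ c : C, algebraMap (p.Fiber C) (Cq ⧸ p.map (algebraMap A Cq)) (1 ⊗ₜ c) =
      Ideal.Quotient.mk _ (algebraMap C Cq c)) :
    IsLocalization (q.primeCompl.map (Algebra.TensorProduct.includeRight :
      C →ₐ[A] p.Fiber C)) (Cq ⧸ p.map (algebraMap A Cq)) := by
  let J := p.map (algebraMap A Cq)
  let φ := algebraMap (p.Fiber C) (Cq ⧸ J)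
  refine ⟨⟨?_, ?_, ?_⟩⟩
  · rintro ⟨_, s, hs, rfl⟩
    change IsUnit (φ (1 ⊗ₜ s))
    rw [show φ (1 ⊗ₜ s) = _ from hφ s]
    exact (IsLocalization.map_units (M := q.primeCompl) Cq ⟨s, hs⟩).map _
  · intro z
    obtain ⟨z, rfl⟩ := Ideal.Quotient.mk_surjective z
    obtain ⟨c, s, rfl⟩ := IsLocalization.exists_mk'_eq q.primeCompl z
    refine ⟨⟨1 ⊗ₜ c, ⟨1 ⊗ₜ (s : C), s, s.2, rfl⟩⟩, ?_⟩
    change Ideal.Quotient.mk J (IsLocalization.mk' Cq c s) * φ (1 ⊗ₜ (s : C)) = φ (1 ⊗ₜ c)
    rw [show φ (1 ⊗ₜ c) = _ from hφ c, show φ (1 ⊗ₜ (s : C)) = _ from hφ s, ← map_mul,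
      IsLocalization.mk'_spec]
  · intro x y h
    obtain ⟨r, hr, c, hc⟩ := Ideal.Fiber.exists_smul_eq_one_tmul p (x - y)
    have h0 : Ideal.Quotient.mk J (algebraMap C Cq c) = 0 := by
      rw [← hφ, ← hc, Algebra.smul_def, map_mul, map_sub, h, sub_self, mul_zero]
    rw [Ideal.Quotient.eq_zero_iff_mem, show J = (p.map (algebraMap A C)).map (algebraMap C Cq) by
      rw [Ideal.map_map, ← IsScalarTower.algebraMap_eq],
      IsLocalization.algebraMap_mem_map_algebraMap_iff q.primeCompl] at h0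
    obtain ⟨s, hs, hsc⟩ := h0
    have hzero : ∀ d ∈ p.map (algebraMap A C), (1 : p.ResidueField) ⊗ₜ[A] d = 0 := by
      intro d hd
      have hmem : d ∈ RingHom.ker (Algebra.TensorProduct.includeRight : C →ₐ[A] p.Fiber C) := by
        refine (Ideal.map_le_iff_le_comap.mpr fun a ha => ?_) hd
        change (1 : p.ResidueField) ⊗ₜ[A] algebraMap A C a = 0
        rw [← mul_one (algebraMap A C a), ← Algebra.smul_def, ← TensorProduct.smul_tmul,
          Algebra.smul_def, mul_one, Ideal.algebraMap_residueField_eq_zero.mpr ha,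
          TensorProduct.zero_tmul]
      exact hmem
    have hrs : (algebraMap A C r) * s ∈ q.primeCompl := q.primeCompl.mul_mem
      (fun h => hr ((Ideal.mem_of_liesOver q p r).mpr h)) hs
    refine ⟨⟨1 ⊗ₜ ((algebraMap A C r) * s), (algebraMap A C r) * s, hrs, rfl⟩, ?_⟩
    change ((1 : p.ResidueField) ⊗ₜ[A] ((algebraMap A C r) * s)) * x =
      ((1 : p.ResidueField) ⊗ₜ[A] ((algebraMap A C r) * s)) * y
    rw [← sub_eq_zero, ← mul_sub]
    have e : (1 : p.ResidueField) ⊗ₜ[A] ((algebraMap A C r) * s) =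
        r • ((1 : p.ResidueField) ⊗ₜ[A] s) := by
      rw [← Algebra.smul_def, TensorProduct.tmul_smul]
    rw [e, smul_mul_assoc, ← mul_smul_comm, hc, Algebra.TensorProduct.tmul_mul_tmul, one_mul]
    exact hzero _ hsc

include q in
/-- The local fibre rings form a flat extension under base change of algebras. -/
theorem flat_localQuotient {A' C' Cq' : Type u} [CommRing A'] [CommRing C'] [Algebra A' C']
    [Algebra A' A] [Algebra C' C] [Algebra A' C] [IsScalarTower A' A C] [IsScalarTower A' C' C]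
    [Algebra.IsPushout A' A C' C] [CommRing Cq'] [Algebra C' Cq'] [Algebra A' Cq']
    [IsScalarTower A' C' Cq'] (p' : Ideal A') [p'.IsPrime] [p.LiesOver p'] (q' : Ideal C')
    [q'.IsPrime] [q'.LiesOver p'] [IsLocalization.AtPrime Cq' q']
    (ψ : Cq' ⧸ p'.map (algebraMap A' Cq') →+* Cq ⧸ p.map (algebraMap A Cq))
    (hψ : ∀ c : C', ψ (Ideal.Quotient.mk _ (algebraMap C' Cq' c)) =
      Ideal.Quotient.mk _ (algebraMap C Cq (algebraMap C' C c))) :
    ψ.Flat := by
  classical
  let J := p.map (algebraMap A Cq)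
  let J' := p'.map (algebraMap A' Cq')
  obtain ⟨φ, hφ⟩ := exists_fibToQuot Cq p q
  obtain ⟨φ', hφ'⟩ := exists_fibToQuot Cq' p' q'
  let η : p'.ResidueField →+* p.ResidueField :=
    Ideal.ResidueField.map p' p (algebraMap A' A) (p.over_def p')
  have hη : ∀ a : A', η (algebraMap A' p'.ResidueField a) = algebraMap A' p.ResidueField a := by
    intro a
    simp [η, IsScalarTower.algebraMap_apply A' A p.ResidueField]
  let ηₐ : p'.ResidueField →ₐ[A'] p.ResidueField := { η with commutes' := hη }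
  let e1 : p.ResidueField ⊗[A] (A ⊗[A'] C') ≃ₐ[p.ResidueField] p.ResidueField ⊗[A] C :=
    Algebra.TensorProduct.congr AlgEquiv.refl (Algebra.IsPushout.equiv A' A C' C)
  let e2 : p.ResidueField ⊗[A] (A ⊗[A'] C') ≃ₐ[p.ResidueField] p.ResidueField ⊗[A'] C' :=
    Algebra.TensorProduct.cancelBaseChange A' A p.ResidueField p.ResidueField C'
  let e : p.ResidueField ⊗[A'] C' ≃ₐ[p.ResidueField] p.Fiber C := e2.symm.trans e1
  let ξ : p'.Fiber C' →+* p.Fiber C :=
    e.toRingEquiv.toRingHom.comp (Algebra.TensorProduct.map ηₐ (AlgHom.id A' C')).toRingHom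
  have hξ : ξ.Flat := by
    refine RingHom.Flat.comp ?_ (RingHom.Flat.of_bijective e.bijective)
    refine RingHom.Flat.tensorProductMap ?_ (RingHom.Flat.of_bijective Function.bijective_id)
    letI : Algebra p'.ResidueField p.ResidueField := η.toAlgebra
    exact RingHom.flat_algebraMap_iff.mpr inferInstance
  have hξ1 : ∀ c : C', ξ (1 ⊗ₜ c) = 1 ⊗ₜ algebraMap C' C c := by
    intro c
    simp [ξ, e, e1, e2, Algebra.IsPushout.equiv_tmul]
  letI : Algebra (p.Fiber C) (Cq ⧸ J) := φ.toRingHom.toAlgebra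
  letI : Algebra (p'.Fiber C') (Cq' ⧸ J') := φ'.toRingHom.toAlgebra
  have hloc := exists_isLocalization_fib (Cq := Cq) p q hφ
  have hloc' := exists_isLocalization_fib (Cq := Cq') p' q' hφ'
  have hsq : ∀ x, ψ (φ' x) = φ (ξ x) := by
    intro x
    obtain ⟨r, hr, c, hc⟩ := Ideal.Fiber.exists_smul_eq_one_tmul p' x
    have hψA : ∀ a : A', ψ (algebraMap A' (Cq' ⧸ J') a) =
        algebraMap A (Cq ⧸ J) (algebraMap A' A a) := by
      intro a
      have := hψ (algebraMap A' C' a)
      rw [← IsScalarTower.algebraMap_apply A' C' Cq', ← IsScalarTower.algebraMap_apply A' C' C,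
        IsScalarTower.algebraMap_apply A' A C, ← IsScalarTower.algebraMap_apply A C Cq] at this
      exact this
    have h1 := congrArg (fun z => ψ (φ' z)) hc
    have h2 := congrArg (fun z => φ (ξ z)) hc
    rw [hφ', hψ] at h1
    rw [hξ1, hφ] at h2
    have hξr : ξ (algebraMap A' (p'.Fiber C') r) = algebraMap A (p.Fiber C) (algebraMap A' A r) := by
      rw [IsScalarTower.algebraMap_apply A' C' C r |>.symm.trans
        (IsScalarTower.algebraMap_apply A' A C r) |> fun h =>
          show ξ (algebraMap A' (p'.Fiber C') r) = ξ (1 ⊗ₜ algebraMap A' C' r) by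
            rw [Algebra.TensorProduct.algebraMap_apply, ← mul_one (algebraMap A' C' r),
              ← Algebra.smul_def, ← TensorProduct.smul_tmul, Algebra.smul_def, mul_one],
        hξ1, ← IsScalarTower.algebraMap_apply, IsScalarTower.algebraMap_apply A' A C,
        Algebra.TensorProduct.algebraMap_apply, ← mul_one (algebraMap A C (algebraMap A' A r)),
        ← Algebra.smul_def, ← TensorProduct.smul_tmul, Algebra.smul_def, mul_one]
    simp only [Algebra.smul_def, map_mul, AlgHom.commutes, hξr] at h1 h2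
    exact (isUnit_algebraMap_quot p q (fun h => hr ((Ideal.mem_of_liesOver p p' r).mpr h))).mul_right_inj.mp
      ((congrArg (· * ψ (φ' x)) (hψA r)).symm.trans (h1.trans h2.symm))
  letI : Algebra (Cq' ⧸ J') (Cq ⧸ J) := ψ.toAlgebra
  letI : Algebra (p'.Fiber C') (Cq ⧸ J) := (φ.toRingHom.comp ξ).toAlgebra
  haveI : IsScalarTower (p'.Fiber C') (Cq' ⧸ J') (Cq ⧸ J) :=
    IsScalarTower.of_algebraMap_eq fun x => (hsq x).symm
  haveI : Module.Flat (p'.Fiber C') (Cq ⧸ J) := by
    have hflatφ : φ.toRingHom.Flat := RingHom.flat_algebraMap_iff.mpr (IsLocalization.flat _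
      (q.primeCompl.map (Algebra.TensorProduct.includeRight : C →ₐ[A] p.Fiber C)))
    exact RingHom.flat_algebraMap_iff.mp (RingHom.Flat.comp hξ hflatφ)
  exact RingHom.flat_algebraMap_iff.mpr ((Module.flat_iff_of_isLocalization (Cq' ⧸ J')
    (q'.primeCompl.map (Algebra.TensorProduct.includeRight : C' →ₐ[A'] p'.Fiber C')) (Cq ⧸ J)).mpr
      inferInstance)

end Groth.FlatMor2.FibCrit
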