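import Groth.Agent.FlatMor2.FibCrit.Slice
import Groth.Agent.Misc6.FlatInj

/-!
Slicing by a sequence which is regular on the fibre.
-/

universe u

open TensorProduct Groth.FlatMorOne RingTheory.Sequence Pointwise

namespace Groth.FlatMor2.FibCrit

set_option linter.style.haveILetI false
set_option synthInstance.maxHeartbeats 200000

/-- Reduction of a quotient by `h :: hs` in two steps. -/
theorem nonempty_quot_cons_equiv {C N N' : Type u} [CommRing C] [AddCommGroup N] [Module C N]
    [AddCommGroup N'] [Module C N'] (h : C) (I : Ideal C) (π : N →ₗ[C] N')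
    (hπ : Function.Surjective π) (hker : LinearMap.ker π = h • (⊤ : Submodule C N)) :
    Nonempty ((N' ⧸ (I • ⊤ : Submodule C N')) ≃ₗ[C]
      N ⧸ ((Ideal.span {h} ⊔ I) • ⊤ : Submodule C N)) := by
  let ρ := (I • ⊤ : Submodule C N').mkQ.comp π
  have hρ : Function.Surjective ρ := (Submodule.mkQ_surjective _).comp hπ
  have hk : LinearMap.ker ρ = (Ideal.span {h} ⊔ I) • ⊤ := by
    rw [LinearMap.ker_comp, Submodule.ker_mkQ, ← LinearMap.range_eq_top.mpr hπ,
      ← Submodule.map_top, ← Submodule.map_smul'', Submodule.comap_map_eq, hker,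
      Submodule.sup_smul, Submodule.ideal_span_singleton_smul, sup_comm]
  exact ⟨(ρ.quotKerEquivOfSurjective hρ).symm.trans (Submodule.quotEquivOfEq _ _ hk)⟩

/-- Multiplication stays injective after tensoring when the quotient is flat, and the quotient
commutes with tensoring. -/
theorem tensor_quotient_data {A C D D₁ : Type u} [CommRing A] [CommRing C] [Algebra A C]
    [AddCommGroup D] [Module C D] [Module A D] [IsScalarTower A C D]
    [AddCommGroup D₁] [Module C D₁] [Module A D₁] [IsScalarTower A C D₁] [Module.Flat A D₁]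
    (π : D →ₗ[C] D₁) (hπ : Function.Surjective π) (h : C) (hh : IsSMulRegular D h)
    (hker : LinearMap.ker π = h • (⊤ : Submodule C D))
    (N : Type u) [AddCommGroup N] [Module A N] :
    IsSMulRegular (D ⊗[A] N) h ∧ Nonempty (QuotSMulTop h (D ⊗[A] N) ≃ₗ[C] D₁ ⊗[A] N) := by
  let μ : D →ₗ[C] D := LinearMap.lsmul C D h
  have hex : Function.Exact μ π := by
    intro x
    rw [← LinearMap.mem_ker, hker, Submodule.mem_smul_pointwise_iff_exists]
    exact ⟨fun ⟨y, _, hy⟩ => ⟨y, hy⟩, fun ⟨y, hy⟩ => ⟨y, trivial, hy⟩⟩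
  let μN : D ⊗[A] N →ₗ[C] D ⊗[A] N := AlgebraTensorModule.map μ LinearMap.id
  let πN : D ⊗[A] N →ₗ[C] D₁ ⊗[A] N := AlgebraTensorModule.map π LinearMap.id
  have hμN : ∀ z, μN z = h • z := by
    intro z
    induction z with
    | zero => simp
    | tmul d n => simp [μN, μ, smul_tmul']
    | add a b ha hb => simp only [map_add, smul_add, ha, hb]
  have hμN' : ∀ z, (μ.restrictScalars A).rTensor N z = μN z := by
    intro z
    induction z with
    | zero => simp
    | tmul d n => simp [μN]
    | add a b ha hb => simp only [map_add, ha, hb]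
  have hπN' : ∀ z, (π.restrictScalars A).rTensor N z = πN z := by
    intro z
    induction z with
    | zero => simp
    | tmul d n => simp [πN]
    | add a b ha hb => simp only [map_add, ha, hb]
  have hinj : Function.Injective ((μ.restrictScalars A).lTensor N) :=
    Groth.Misc6.flatInj N (μ.restrictScalars A) (π.restrictScalars A) hh hex hπ
  refine ⟨fun a b hab => ?_, ?_⟩
  · refine (LinearMap.lTensor_inj_iff_rTensor_inj _ _).mp hinj ?_
    rw [hμN', hμN', hμN, hμN]
    exact hab
  · have hπs : Function.Surjective πN := fun z => by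
      obtain ⟨w, hw⟩ := LinearMap.rTensor_surjective N (g := π.restrictScalars A) hπ z
      exact ⟨w, (hπN' w).symm.trans hw⟩
    have hk : h • (⊤ : Submodule C (D ⊗[A] N)) = LinearMap.ker πN := by
      ext z
      rw [Submodule.mem_smul_pointwise_iff_exists, LinearMap.mem_ker, ← hπN',
        (rTensor_exact (f := μ.restrictScalars A) (g := π.restrictScalars A) N hex hπ) z]
      constructor
      · rintro ⟨y, -, rfl⟩; exact ⟨y, (hμN' y).trans (hμN y)⟩
      · rintro ⟨y, hy⟩; exact ⟨y, trivial, (hμN y).symm.trans ((hμN' y).symm.trans hy)⟩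
    exact ⟨(Submodule.quotEquivOfEq _ _ hk).trans (πN.quotKerEquivOfSurjective hπs)⟩

/-- The kernel of the reduction modulo a principal ideal. -/
theorem ker_mk_span_singleton {C D : Type u} [CommRing C] [CommRing D] [Algebra C D] (h : C) :
    LinearMap.ker (Ideal.Quotient.mkₐ C (Ideal.span {algebraMap C D h})).toLinearMap =
      h • (⊤ : Submodule C D) := by
  ext z
  rw [LinearMap.mem_ker, AlgHom.toLinearMap_apply, Ideal.Quotient.mkₐ_eq_mk,
    Ideal.Quotient.eq_zero_iff_mem, Ideal.mem_span_singleton', Submodule.mem_smul_pointwise_iff_exists]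
  constructor
  · rintro ⟨a, rfl⟩; exact ⟨a, trivial, by rw [Algebra.smul_def, mul_comm]⟩
  · rintro ⟨a, -, rfl⟩; exact ⟨a, by rw [Algebra.smul_def, mul_comm]⟩

/-- Near a point where a flat finitely presented algebra has a sequence regular on its fibre, the
sequence is universally regular and cuts out a flat quotient. -/
theorem exists_nhd_weaklyRegular_aux {A : Type u} [CommRing A] : ∀ (n : ℕ)
    (C : Type u) [CommRing C] [Algebra A C] [Algebra.FinitePresentation A C] (hs : List C)
    (_ : hs.length = n) (q : Ideal C) [q.IsPrime] (_ : ∀ h ∈ hs, h ∈ q)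
    (Cq : Type u) [CommRing Cq] [Algebra C Cq] [IsLocalization.AtPrime Cq q] [Algebra A Cq]
    [IsScalarTower A C Cq] [Module.Flat A Cq]
    (_ : IsWeaklyRegular (Cq ⧸ (q.under A).map (algebraMap A Cq)) hs),
    ∃ g : C, g ∉ q ∧ ∀ g' : C, g ∣ g' → ∀ (Cg : Type u) [CommRing Cg] [Algebra C Cg]
      [IsLocalization.Away g' Cg] [Algebra A Cg] [IsScalarTower A C Cg],
      Module.Flat A (Cg ⧸ (Ideal.ofList hs • ⊤ : Submodule C Cg)) ∧
        ∀ (N : Type u) [AddCommGroup N] [Module A N], IsWeaklyRegular (Cg ⊗[A] N) hs := by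
  intro n
  induction n with
  | zero =>
    intro C _ _ _ hs hlen q _ _ Cq _ _ _ _ _ hflat _
    obtain rfl : hs = [] := List.length_eq_zero_iff.mp hlen
    haveI : Module.Flat A (LocalizedModule q.primeCompl C) :=
      flat_of_isLocalizedModule_iso (C := C) q.primeCompl (Algebra.linearMap C Cq)
        (LocalizedModule.mkLinearMap q.primeCompl C)
    obtain ⟨g, hg, hall⟩ := exists_nhd_flat (B := A) q inferInstance
    refine ⟨g, hg, fun g' hgg' Cg _ _ _ _ _ => ⟨?_, fun N _ _ => IsWeaklyRegular.nil C _⟩⟩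
    haveI := hall g' hgg' Cg
    exact Module.Flat.of_linearEquiv ((Submodule.quotEquivOfEqBot _ (by simp)).restrictScalars A)
  | succ n ih =>
    intro C _ _ _ hs hlen q _ hq Cq _ _ _ _ _ _ hreg
    obtain ⟨h, hs, rfl⟩ : ∃ h t, hs = h :: t := List.exists_cons_of_length_eq_add_one hlen
    let p := q.under A
    let J := p.map (algebraMap A Cq)
    rw [isWeaklyRegular_cons_iff] at hreg
    obtain ⟨hreg₁, hreg₂⟩ := hreg
    have hhq : h ∈ q := hq h (List.mem_cons_self ..)
    obtain ⟨g₀, hg₀, hflat₁, hall⟩ := exists_nhd_slice q h hhq (Cq := Cq) (by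
      rw [mem_nonZeroDivisors_iff_right]
      intro z hz
      refine hreg₁ (show h • z = h • 0 from ?_)
      rw [smul_zero, Algebra.smul_def, mul_comm]
      exact hz)
    let I : Ideal C := Ideal.span {h}
    let C₁ := C ⧸ I
    haveI : Algebra.FinitePresentation A C₁ :=
      Algebra.FinitePresentation.quotient (Submodule.fg_span_singleton h)
    have hIq : I ≤ q := by rw [Ideal.span_le, Set.singleton_subset_iff]; exact hhq
    let q₁ : Ideal C₁ := q.map (Ideal.Quotient.mk I)
    haveI : q₁.IsPrime := Ideal.map_isPrime_of_surjective Ideal.Quotient.mk_surjective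
      (by rwa [Ideal.mk_ker])
    have hq₁ : ∀ c, Ideal.Quotient.mk I c ∈ q₁ ↔ c ∈ q := fun c => by
      rw [← Ideal.mem_comap, Ideal.comap_map_of_surjective _ Ideal.Quotient.mk_surjective,
        ← RingHom.ker_eq_comap_bot, Ideal.mk_ker, sup_eq_left.mpr hIq]
    have hq₁c : q₁.primeCompl = Algebra.algebraMapSubmonoid C₁ q.primeCompl := by
      ext z
      obtain ⟨c, rfl⟩ := Ideal.Quotient.mk_surjective z
      exact ⟨fun hc => ⟨c, fun h' => hc ((hq₁ c).mpr h'), rfl⟩,
        fun ⟨d, hd, hdc⟩ hc => hd ((hq₁ d).mp (hdc ▸ hc))⟩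
    let Cq₁ := Cq ⧸ I.map (algebraMap C Cq)
    haveI : IsLocalization.AtPrime Cq₁ q₁ := by
      rw [IsLocalization.AtPrime, hq₁c]
      infer_instance
    have hImap : I.map (algebraMap C Cq) = Ideal.span {algebraMap C Cq h} := by
      rw [Ideal.map_span, Set.image_singleton]
    haveI : IsScalarTower A C₁ Cq₁ := IsScalarTower.of_algebraMap_eq fun a => by
      rw [IsScalarTower.algebraMap_apply A C Cq₁, IsScalarTower.algebraMap_apply A C C₁,
        ← IsScalarTower.algebraMap_apply C C₁ Cq₁]
    haveI : Module.Flat A Cq₁ := by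
      haveI := hflat₁
      exact Module.Flat.of_linearEquiv (Ideal.quotientEquivAlgOfEq A hImap).toLinearEquiv
    have hp₁ : q₁.under A = p := by
      ext a
      rw [Ideal.under, Ideal.mem_comap, IsScalarTower.algebraMap_apply A C C₁]
      exact hq₁ _
    let hs₁ : List C₁ := hs.map (Ideal.Quotient.mk I)
    have hreg₁' : IsWeaklyRegular (Cq₁ ⧸ (q₁.under A).map (algebraMap A Cq₁)) hs₁ := by
      rw [hp₁]
      rw [show hs₁ = hs.map (algebraMap C C₁) from rfl, isWeaklyRegular_map_algebraMap_iff]
      -- both are quotients of `Cq` by `(h) + p Cq`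
      let πL : Cq →ₗ[C] QuotSMulTop h (Cq ⧸ J) :=
        (h • (⊤ : Submodule C (Cq ⧸ J))).mkQ.comp (Ideal.Quotient.mkₐ C J).toLinearMap
      let πR : Cq →ₗ[C] Cq₁ ⧸ p.map (algebraMap A Cq₁) :=
        (Ideal.Quotient.mkₐ C (p.map (algebraMap A Cq₁))).toLinearMap.comp
          (Ideal.Quotient.mkₐ C (I.map (algebraMap C Cq))).toLinearMap
      have hL : Function.Surjective πL :=
        (Submodule.mkQ_surjective _).comp Ideal.Quotient.mk_surjective
      have hR : Function.Surjective πR :=
        Ideal.Quotient.mk_surjective.comp Ideal.Quotient.mk_surjective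
      have hpJ : p.map (algebraMap A Cq₁) = J.map (Ideal.Quotient.mk (I.map (algebraMap C Cq))) := by
        rw [Ideal.map_map]; rfl
      have hker : LinearMap.ker πL = LinearMap.ker πR := by
        ext z
        simp only [πL, πR, LinearMap.mem_ker, LinearMap.comp_apply, AlgHom.toLinearMap_apply,
          Ideal.Quotient.mkₐ_eq_mk, Submodule.mkQ_apply, Submodule.Quotient.mk_eq_zero,
          Submodule.mem_smul_pointwise_iff_exists, Ideal.Quotient.eq_zero_iff_mem, hpJ]
        rw [← Ideal.mem_comap, Ideal.comap_map_of_surjective _ Ideal.Quotient.mk_surjective,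
          ← RingHom.ker_eq_comap_bot, Ideal.mk_ker, hImap]
        constructor
        · rintro ⟨y, -, hy⟩
          obtain ⟨y, rfl⟩ := Ideal.Quotient.mk_surjective y
          have hy' : Ideal.Quotient.mk J (algebraMap C Cq h * y) = Ideal.Quotient.mk J z := by
            rw [← hy, Algebra.smul_def]; rfl
          rw [Ideal.Quotient.eq] at hy'
          have : z = algebraMap C Cq h * y + -(algebraMap C Cq h * y - z) := by ring
          rw [this]
          exact add_mem (Ideal.mem_sup_right (Ideal.mem_span_singleton'.mpr ⟨y, mul_comm _ _⟩))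
            (Ideal.mem_sup_left (neg_mem hy'))
        · intro hz
          obtain ⟨a, ha, b, hb, rfl⟩ := Submodule.mem_sup.mp hz
          obtain ⟨y, rfl⟩ := Ideal.mem_span_singleton'.mp hb
          refine ⟨Ideal.Quotient.mk J y, trivial, ?_⟩
          rw [map_add, Ideal.Quotient.eq_zero_iff_mem.mpr ha, zero_add, map_mul, mul_comm,
            Algebra.smul_def]
          rfl
      exact ((((πL.quotKerEquivOfSurjective hL).symm.trans (Submodule.quotEquivOfEq _ _ hker)).trans
        (πR.quotKerEquivOfSurjective hR)).isWeaklyRegular_congr hs).mp hreg₂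
    obtain ⟨g₁, hg₁, hall₁⟩ := ih C₁ hs₁ (by simpa [hs₁] using hlen) q₁
      (fun z hz => by
        obtain ⟨c, hc, rfl⟩ := List.mem_map.mp hz
        exact (hq₁ c).mpr (hq c (List.mem_cons_of_mem _ hc))) Cq₁ hreg₁'
    obtain ⟨g₁, rfl⟩ := Ideal.Quotient.mk_surjective g₁
    refine ⟨g₀ * g₁, fun hg => (Ideal.IsPrime.mem_or_mem ‹_› hg).elim hg₀
      fun h' => hg₁ ((hq₁ g₁).mpr h'), fun g' hgg' Cg _ _ _ _ _ => ?_⟩
    obtain ⟨hnzd, hflat, -⟩ := hall g' ((dvd_mul_right g₀ g₁).trans hgg') Cg
    let D₁ := Cg ⧸ I.map (algebraMap C Cg)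
    have hImap' : I.map (algebraMap C Cg) = Ideal.span {algebraMap C Cg h} := by
      rw [Ideal.map_span, Set.image_singleton]
    haveI : Module.Flat A D₁ := by
      haveI := hflat
      exact Module.Flat.of_linearEquiv (Ideal.quotientEquivAlgOfEq A hImap').toLinearEquiv
    haveI : IsLocalization.Away (Ideal.Quotient.mk I g') D₁ := by
      have : Submonoid.powers (Ideal.Quotient.mk I g') =
          Algebra.algebraMapSubmonoid C₁ (Submonoid.powers g') := by
        simp only [Algebra.algebraMapSubmonoid, Submonoid.map_powers]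
        rfl
      rw [IsLocalization.Away, this]
      infer_instance
    haveI : IsScalarTower A C₁ D₁ := IsScalarTower.of_algebraMap_eq fun a => by
      rw [IsScalarTower.algebraMap_apply A C D₁, IsScalarTower.algebraMap_apply A C C₁,
        ← IsScalarTower.algebraMap_apply C C₁ D₁]
    obtain ⟨hflat', hreg'⟩ := hall₁ (Ideal.Quotient.mk I g')
      (map_dvd _ ((dvd_mul_left g₁ g₀).trans hgg')) D₁
    let π : Cg →ₗ[C] D₁ := (Ideal.Quotient.mkₐ C (I.map (algebraMap C Cg))).toLinearMap
    have hπ : Function.Surjective π := Ideal.Quotient.mk_surjective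
    have hker : LinearMap.ker π = h • (⊤ : Submodule C Cg) := by
      rw [← ker_mk_span_singleton (D := Cg) h]
      ext z
      rw [LinearMap.mem_ker, LinearMap.mem_ker]
      change Ideal.Quotient.mk (I.map (algebraMap C Cg)) z = 0 ↔
        Ideal.Quotient.mk (Ideal.span {algebraMap C Cg h}) z = 0
      rw [Ideal.Quotient.eq_zero_iff_mem, Ideal.Quotient.eq_zero_iff_mem, hImap']
    refine ⟨?_, fun N _ _ => ?_⟩
    · obtain ⟨e⟩ := nonempty_quot_cons_equiv h (Ideal.ofList hs) π hπ hker
      haveI := hflat'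
      have heq : (Ideal.ofList hs • ⊤ : Submodule C D₁) =
          (Ideal.ofList hs₁ • ⊤ : Submodule C₁ D₁).restrictScalars C :=
        smul_top_eq_restrictScalars _ _ (by rw [Ideal.map_ofList]; rfl)
      haveI : Module.Flat A (D₁ ⧸ (Ideal.ofList hs • ⊤ : Submodule C D₁)) :=
        Module.Flat.of_linearEquiv (((Submodule.quotEquivOfEq _ _ heq).trans
          (Submodule.Quotient.restrictScalarsEquiv C _)).restrictScalars A)
      rw [Ideal.ofList_cons]
      exact Module.Flat.of_linearEquiv (e.restrictScalars A).symm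
    · obtain ⟨hr, ⟨e⟩⟩ := tensor_quotient_data (A := A) π hπ h (fun a b hab => by
        have : (a - b) * algebraMap C Cg h = 0 := by
          rw [mul_comm, ← Algebra.smul_def, smul_sub, sub_eq_zero]; exact hab
        exact sub_eq_zero.mp ((mem_nonZeroDivisors_iff_right.mp hnzd) _ this)) hker N
      rw [isWeaklyRegular_cons_iff]
      refine ⟨hr, (e.isWeaklyRegular_congr hs).mpr ?_⟩
      exact (isWeaklyRegular_map_algebraMap_iff C₁ (D₁ ⊗[A] N) hs).mp (hreg' N)

end Groth.FlatMor2.FibCrit

namespace Groth.FlatMor2.FibCrit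

/-- Near a point where a flat finitely presented algebra has a sequence regular on its fibre, the
sequence is universally regular and cuts out a flat quotient (wrapper without the length). -/
theorem exists_nhd_weaklyRegular {A C : Type u} [CommRing A] [CommRing C] [Algebra A C]
    [Algebra.FinitePresentation A C] (hs : List C) (q : Ideal C) [q.IsPrime] (hq : ∀ h ∈ hs, h ∈ q)
    (Cq : Type u) [CommRing Cq] [Algebra C Cq] [IsLocalization.AtPrime Cq q] [Algebra A Cq]
    [IsScalarTower A C Cq] [Module.Flat A Cq]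
    (hreg : RingTheory.Sequence.IsWeaklyRegular (Cq ⧸ (q.under A).map (algebraMap A Cq)) hs) :
    ∃ g : C, g ∉ q ∧ ∀ g' : C, g ∣ g' → ∀ (Cg : Type u) [CommRing Cg] [Algebra C Cg]
      [IsLocalization.Away g' Cg] [Algebra A Cg] [IsScalarTower A C Cg],
      Module.Flat A (Cg ⧸ (Ideal.ofList hs • ⊤ : Submodule C Cg)) ∧
        ∀ (N : Type u) [AddCommGroup N] [Module A N],
          RingTheory.Sequence.IsWeaklyRegular (TensorProduct A Cg N) hs :=
  exists_nhd_weaklyRegular_aux hs.length C hs rfl q hq Cq hreg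

end Groth.FlatMor2.FibCrit
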