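import Groth.Agent.FlatMor2.FibCrit.Slice
import Groth.Agent.FlatMor2.FibCrit.SchemeCrit

/-!
Slicing a flat morphism by an element regular on the fibre.
-/

universe u

open AlgebraicGeometry CategoryTheory IsLocalRing TopologicalSpace

namespace Groth.FlatMor2.FibCrit

set_option linter.style.haveILetI false
set_option synthInstance.maxHeartbeats 200000

theorem exists_slice {X S : Scheme.{u}} (f : X ⟶ S) [LocallyOfFinitePresentation f] (x : X)
    (hflat : (f.stalkMap x).hom.Flat) (h : X.presheaf.stalk x) (hm : h ∈ IsLocalRing.maximalIdeal (X.presheaf.stalk x))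
    (hreg : Ideal.Quotient.mk (Ideal.map (f.stalkMap x).hom (IsLocalRing.maximalIdeal (S.presheaf.stalk (f x)))) h ∈
      nonZeroDivisors (X.presheaf.stalk x ⧸ Ideal.map (f.stalkMap x).hom (IsLocalRing.maximalIdeal (S.presheaf.stalk (f x))))) :
    ∃ (U : X.Opens) (hU : IsAffineOpen U) (hx : x ∈ U) (h' : Γ(X, U)), X.presheaf.germ U x hx h' = h ∧ h' ∈ nonZeroDivisors Γ(X, U) ∧
      Flat (Spec.map (CommRingCat.ofHom (Ideal.Quotient.mk (Ideal.span {h'}))) ≫ hU.fromSpec ≫ f) ∧
      LocallyOfFinitePresentation (Spec.map (CommRingCat.ofHom (Ideal.Quotient.mk (Ideal.span {h'}))) ≫ hU.fromSpec ≫ f) := by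
  obtain ⟨U, hU, hxU, -⟩ :=
    exists_isAffineOpen_mem_and_subset (x := f x) (Opens.mem_top (f x))
  obtain ⟨O, hxO, h₀, rfl⟩ := X.presheaf.exists_germ_eq h
  obtain ⟨W, hW, hxW, hWO⟩ := exists_isAffineOpen_mem_and_subset (x := x) (U := f ⁻¹ᵁ U ⊓ O)
    ⟨hxU, hxO⟩
  have eWU : W ≤ f ⁻¹ᵁ U := fun w hw => (hWO hw).1
  have eWO : W ≤ O := fun w hw => (hWO hw).2
  let c : Γ(X, W) := X.presheaf.map (homOfLE eWO).op h₀
  have hc : X.presheaf.germ W x hxW c = X.presheaf.germ O x hxO h₀ :=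
    X.presheaf.germ_res_apply (homOfLE eWO) x hxW h₀
  letI : Algebra Γ(S, U) Γ(X, W) := (f.appLE U W eWU).hom.toAlgebra
  haveI : Algebra.FinitePresentation Γ(S, U) Γ(X, W) := f.finitePresentation_appLE hU hW eWU
  letI := S.presheaf.algebra_section_stalk ⟨f x, eWU hxW⟩
  letI := X.presheaf.algebra_section_stalk ⟨x, hxW⟩
  let q := (hW.primeIdealOf ⟨x, hxW⟩).asIdeal
  haveI : IsLocalization.AtPrime (X.presheaf.stalk x) q := hW.isLocalization_stalk ⟨x, hxW⟩
  haveI : IsLocalization.AtPrime (S.presheaf.stalk (f x)) (q.under Γ(S, U)) :=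
    isLocalization_stalk_under f hU hW eWU x hxW
  letI : Algebra (S.presheaf.stalk (f x)) (X.presheaf.stalk x) := (f.stalkMap x).hom.toAlgebra
  letI : Algebra Γ(S, U) (X.presheaf.stalk x) :=
    ((algebraMap Γ(X, W) (X.presheaf.stalk x)).comp (algebraMap Γ(S, U) Γ(X, W))).toAlgebra
  haveI : IsScalarTower Γ(S, U) Γ(X, W) (X.presheaf.stalk x) := IsScalarTower.of_algebraMap_eq' rfl
  haveI : IsScalarTower Γ(S, U) (S.presheaf.stalk (f x)) (X.presheaf.stalk x) :=
    IsScalarTower.of_algebraMap_eq fun a => (stalkMap_germ_appLE f eWU x hxW a).symm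
  haveI : Module.Flat Γ(S, U) (X.presheaf.stalk x) :=
    (flat_base_iff_local (Br := S.presheaf.stalk (f x)) (q.under Γ(S, U))).mp
      (RingHom.flat_algebraMap_iff.mp hflat)
  have hmax : Ideal.map (f.stalkMap x).hom (maximalIdeal (S.presheaf.stalk (f x))) =
      (q.under Γ(S, U)).map (algebraMap Γ(S, U) (X.presheaf.stalk x)) := by
    rw [IsScalarTower.algebraMap_eq Γ(S, U) (S.presheaf.stalk (f x)) (X.presheaf.stalk x),
      ← Ideal.map_map, IsLocalization.AtPrime.map_eq_maximalIdeal (q.under Γ(S, U))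
        (S.presheaf.stalk (f x))]
    rfl
  have hcq : c ∈ q := (IsLocalization.AtPrime.to_map_mem_maximal_iff (X.presheaf.stalk x) q c).mp
    (show X.presheaf.germ W x hxW c ∈ _ by rw [hc]; exact hm)
  have hreg' : Ideal.Quotient.mk ((q.under Γ(S, U)).map (algebraMap Γ(S, U) (X.presheaf.stalk x)))
      (algebraMap Γ(X, W) (X.presheaf.stalk x) c) ∈ nonZeroDivisors
        (X.presheaf.stalk x ⧸ (q.under Γ(S, U)).map (algebraMap Γ(S, U) (X.presheaf.stalk x))) := by
    rw [← hmax, show algebraMap Γ(X, W) (X.presheaf.stalk x) c = _ from hc]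
    exact hreg
  obtain ⟨g, hg, -, hall⟩ := exists_nhd_slice q c hcq (Cq := X.presheaf.stalk x) hreg'
  let W' := X.basicOpen g
  have hW'W : W' ≤ W := X.basicOpen_le g
  have eW'U : W' ≤ f ⁻¹ᵁ U := hW'W.trans eWU
  have hxW' : x ∈ W' := (Groth.QCohMod.mem_basicOpen_iff_notMem_primeIdealOf hW g x hxW).mpr hg
  haveI : IsLocalization.Away g Γ(X, W') := hW.isLocalization_basicOpen g
  letI : Algebra Γ(S, U) Γ(X, W') := (f.appLE U W' eW'U).hom.toAlgebra
  haveI : IsScalarTower Γ(S, U) Γ(X, W) Γ(X, W') := IsScalarTower.of_algebraMap_eq fun a =>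
    (congr($(f.appLE_map eWU (homOfLE hW'W).op) a)).symm
  obtain ⟨hnzd, hfl, -⟩ := hall g dvd_rfl Γ(X, W')
  refine ⟨W', hW.basicOpen g, hxW', algebraMap Γ(X, W) Γ(X, W') c, ?_, hnzd, ?_, ?_⟩
  · exact (X.presheaf.germ_res_apply (homOfLE hW'W) x hxW' c).trans hc
  · rw [← hU.SpecMap_appLE_fromSpec f (hW.basicOpen g) eW'U, ← Spec.map_comp_assoc]
    refine MorphismProperty.comp_mem @Flat _ _ ?_ inferInstance
    rw [HasRingHomProperty.Spec_iff (P := @Flat)]
    exact RingHom.flat_algebraMap_iff.mpr hfl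
  · rw [← hU.SpecMap_appLE_fromSpec f (hW.basicOpen g) eW'U, ← Spec.map_comp_assoc]
    refine MorphismProperty.comp_mem @LocallyOfFinitePresentation _ _ ?_ inferInstance
    rw [HasRingHomProperty.Spec_iff (P := @LocallyOfFinitePresentation)]
    exact RingHom.FinitePresentation.comp
      (RingHom.FinitePresentation.of_surjective _ Ideal.Quotient.mk_surjective
        ((congrArg Ideal.FG Ideal.mk_ker).mpr (Submodule.fg_span_singleton _)))
      (f.finitePresentation_appLE hU (hW.basicOpen g) eW'U)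

end Groth.FlatMor2.FibCrit
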