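import Groth.Agent.FlatMor2.FibCrit.RegSeq
import Groth.Agent.Calg4.QuasiFiniteSection
import Groth.Agent.Calg6.CMSop

/-!
Algebra for slicing a morphism at a Cohen-Macaulay point of a fibre down to a quasi-finite one.
-/

universe u

open TensorProduct RingTheory.Sequence

namespace Groth.FlatMor2.FibCrit

set_option linter.style.haveILetI false

/-- A point of a finite type algebra which is maximal and minimal in its fibre has a neighbourhood on
which the algebra is quasi-finite and which contains no other point of the fibre. -/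
theorem exists_nhd_quasiFinite {A C : Type u} [CommRing A] [CommRing C] [Algebra A C]
    [Algebra.FiniteType A C] (q : Ideal C) [q.IsPrime]
    (hmax : ∀ q' : Ideal C, q'.IsPrime → q'.under A = q.under A → q ≤ q' → q' = q)
    (hmin : ∀ q' : Ideal C, q'.IsPrime → q'.under A = q.under A → q' ≤ q → q' = q) :
    ∃ d : C, d ∉ q ∧ ∀ d' : C, d ∣ d' → Algebra.QuasiFinite A (Localization.Away d') ∧
      ∀ q' : Ideal C, q'.IsPrime → q' ≠ q → q'.under A = q.under A → d' ∈ q' := by
  let q₀ : PrimeSpectrum C := ⟨q, inferInstance⟩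
  let p := q₀.comap (algebraMap A C)
  let e := PrimeSpectrum.preimageOrderIsoFiber A C p
  let x₀ : PrimeSpectrum.comap (algebraMap A C) ⁻¹' {p} := ⟨q₀, rfl⟩
  haveI : IsNoetherianRing (p.asIdeal.Fiber C) :=
    Algebra.FiniteType.isNoetherianRing p.asIdeal.ResidueField _
  have hext : ∀ x : PrimeSpectrum.comap (algebraMap A C) ⁻¹' {p}, x.1.asIdeal.under A = q.under A :=
    fun x => congrArg PrimeSpectrum.asIdeal x.2
  have hopen : IsOpen ({x₀} : Set (PrimeSpectrum.comap (algebraMap A C) ⁻¹' {p})) := by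
    let h := PrimeSpectrum.preimageHomeomorphFiber A C p
    rw [← h.isOpen_image, Set.image_singleton, ← isClosed_compl_iff]
    let y₀ := h x₀
    have hy : ({y₀} : Set (PrimeSpectrum (p.asIdeal.Fiber C)))ᶜ =
        ⋃ P ∈ minimalPrimes (p.asIdeal.Fiber C) \ {y₀.asIdeal}, PrimeSpectrum.zeroLocus (P : Set _) := by
      ext y
      simp only [Set.mem_compl_iff, Set.mem_singleton_iff, Set.mem_iUnion, Set.mem_sdiff, exists_prop,
        PrimeSpectrum.mem_zeroLocus, SetLike.coe_subset_coe]
      constructor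
      · intro hne
        obtain ⟨P, hP, hle⟩ := Ideal.exists_minimalPrimes_le (I := (⊥ : Ideal (p.asIdeal.Fiber C)))
          (J := y.asIdeal) bot_le
        refine ⟨P, ⟨hP, fun heq => hne ?_⟩, hle⟩
        have hle' : e x₀ ≤ y := by
          show y₀.asIdeal ≤ y.asIdeal
          exact heq ▸ hle
        obtain ⟨x, rfl⟩ := e.surjective y
        have := hmax x.1.asIdeal inferInstance (hext x) (e.le_iff_le.mp hle')
        exact congrArg e (Subtype.ext (PrimeSpectrum.ext this))
      · rintro ⟨P, ⟨hP, hne⟩, hle⟩ rfl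
        haveI := Ideal.minimalPrimes_isPrime hP
        obtain ⟨x, hx⟩ := e.surjective ⟨P, inferInstance⟩
        have hle' : e x ≤ e x₀ := by
          rw [hx]; exact hle
        have := hmin x.1.asIdeal inferInstance (hext x) (e.le_iff_le.mp hle')
        apply hne
        have hx0 : x = x₀ := Subtype.ext (PrimeSpectrum.ext this)
        exact (congrArg PrimeSpectrum.asIdeal ((hx0 ▸ hx : e x₀ = ⟨P, inferInstance⟩))).symm
    rw [hy]
    exact ((minimalPrimes.finite_of_isNoetherianRing _).subset Set.sdiff_subset).isClosed_biUnion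
      fun P _ => PrimeSpectrum.isClosed_zeroLocus _
  haveI hqf : Algebra.QuasiFiniteAt A q₀.asIdeal :=
    (Algebra.quasiFiniteAt_iff_isOpen_singleton_fiber q₀).mpr hopen
  obtain ⟨_, ⟨g, rfl⟩, hqg, hgsub⟩ :=
    PrimeSpectrum.isTopologicalBasis_basic_opens.isOpen_iff.mp
      (Groth.FibreDim.isOpen_setOf_quasiFiniteAt A C) q₀ hqf
  haveI : q.LiesOver (q.under A) := ⟨rfl⟩
  haveI : Algebra.QuasiFiniteAt A q := hqf
  obtain ⟨s, hsq, hs⟩ := (q.under A).exists_not_mem_forall_mem_of_ne_of_liesOver q
  refine ⟨g * s, ‹q.IsPrime›.mul_notMem hqg hsq, fun d' hd' => ⟨?_, fun q' _ hne hu => ?_⟩⟩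
  · refine Groth.Calg4.quasiFinite_of_forall_quasiFiniteAt _ fun P => ?_
    have hP : P.comap (algebraMap C (Localization.Away d')) ∈ PrimeSpectrum.basicOpen d' :=
      (PrimeSpectrum.localization_away_comap_range (Localization.Away d') d').le ⟨P, rfl⟩
    have hPg : P.comap (algebraMap C (Localization.Away d')) ∈ PrimeSpectrum.basicOpen g := by
      intro hg
      obtain ⟨c, rfl⟩ := (dvd_mul_right g s).trans hd'
      exact hP (Ideal.mul_mem_right _ _ hg)
    have : Algebra.QuasiFiniteAt A (P.comap (algebraMap C (Localization.Away d'))).asIdeal :=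
      hgsub hPg
    exact Algebra.QuasiFiniteAt.of_surjectiveOnStalks
      (P.comap (algebraMap C (Localization.Away d'))).asIdeal
      (IsScalarTower.toAlgHom A C (Localization.Away d'))
      (RingHom.surjectiveOnStalks_of_isLocalization (.powers d') _) _ rfl
  · obtain ⟨c, rfl⟩ := (dvd_mul_left s g).trans hd'
    exact Ideal.mul_mem_right _ _ (hs q' inferInstance hne ⟨hu.symm⟩)

open IsLocalRing in
/-- Numerators of a maximal regular sequence of a Cohen-Macaulay fibre: a weakly regular sequence on
the fibre cutting `q` down to a minimal prime of its fibre. -/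
theorem exists_regular_numerators {A C : Type u} [CommRing A] [CommRing C] [Algebra A C]
    (q : Ideal C) [q.IsPrime] (Cq : Type u) [CommRing Cq] [Algebra C Cq]
    [IsLocalization.AtPrime Cq q] [Algebra A Cq] [IsScalarTower A C Cq]
    (hcm : LocCoh.IsCohenMacaulayLocalRing (Cq ⧸ (q.under A).map (algebraMap A Cq))) :
    ∃ hs : List C, (∀ h ∈ hs, h ∈ q) ∧
      IsWeaklyRegular (Cq ⧸ (q.under A).map (algebraMap A Cq)) hs ∧
      ∀ q' : Ideal C, q'.IsPrime → q'.under A = q.under A → q' ≤ q → Ideal.ofList hs ≤ q' →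
        q' = q := by
  classical
  haveI : IsLocalRing Cq := IsLocalization.AtPrime.isLocalRing Cq q
  set J := (q.under A).map (algebraMap A Cq) with hJ
  haveI := hcm
  let R := Cq ⧸ J
  obtain ⟨d, hd⟩ := Groth.LocCohBase.exists_depth_eq (R := R) R
  have hne : maximalIdeal R • (⊤ : Submodule R R) ≠ ⊤ := by
    rw [smul_eq_mul, Ideal.mul_top]
    exact (maximalIdeal.isMaximal R).ne_top
  obtain ⟨l, hlen, hl, hlm⟩ :=
    (Groth.LocCohBase.le_idealDepth_iff_exists (maximalIdeal R) (M := R) hne d).mp hd.ge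
  have hdimR : Module.supportDim R R = (d : WithBot ℕ∞) := by
    rw [hcm.supportDim_eq_depth, hd]; rfl
  have hdim := Module.supportDim_add_length_eq_supportDim_of_isRegular (M := R) l
    (Groth.LocCohBase.isRegular_of_isWeaklyRegular_of_mem hne hl hlm)
  let φ : C →+* R := (Ideal.Quotient.mk J).comp (algebraMap C Cq)
  have hnum : ∀ r : R, ∃ c : C, ∃ u : Rˣ, φ c = r * u := by
    intro r
    obtain ⟨y, rfl⟩ := Ideal.Quotient.mk_surjective r
    obtain ⟨⟨c, t⟩, hc⟩ := IsLocalization.surj q.primeCompl y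
    refine ⟨c, ((IsLocalization.map_units Cq t).map (Ideal.Quotient.mk J)).unit, ?_⟩
    rw [IsUnit.unit_spec]
    exact (congrArg (Ideal.Quotient.mk J) hc.symm).trans (map_mul _ _ _)
  choose num u hu using hnum
  let hs := l.map num
  have hspan : Ideal.ofList (hs.map φ) = Ideal.ofList l := by
    apply le_antisymm <;> rw [Ideal.ofList, Ideal.span_le]
    · intro r hr
      simp only [hs, List.map_map, Set.mem_ofPred_eq, List.mem_map, Function.comp_apply] at hr
      obtain ⟨r', hr', rfl⟩ := hr
      rw [hu]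
      exact Ideal.mul_mem_right _ _ (Ideal.subset_span hr')
    · intro r hr
      have h : φ (num r) ∈ Ideal.ofList (hs.map φ) := Ideal.subset_span (by
        simp only [hs, List.map_map, Set.mem_ofPred_eq, List.mem_map, Function.comp_apply]
        exact ⟨r, hr, rfl⟩)
      rw [hu] at h
      exact (Ideal.mul_unit_mem_iff_mem _ (u r).isUnit).mp h
  have hmemq : ∀ h ∈ hs, h ∈ q := by
    intro h hh
    obtain ⟨r, hr, rfl⟩ := List.mem_map.mp hh
    refine (IsLocalization.AtPrime.to_map_mem_maximal_iff Cq q (num r)).mp ?_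
    intro hu'
    refine (show r ∈ nonunits R from hlm r hr) ?_
    exact isUnit_of_mul_isUnit_left (show IsUnit (r * u r) from hu r ▸ hu'.map (Ideal.Quotient.mk J))
  have hmem' : ∀ r ∈ hs.map φ, r ∈ maximalIdeal R := by
    intro r hr
    have h : r ∈ Ideal.ofList (hs.map φ) := Ideal.subset_span hr
    rw [hspan] at h
    exact (Ideal.span_le.2 fun x hx => hlm x hx : Ideal.ofList l ≤ maximalIdeal R) h
  have hwr : IsWeaklyRegular R (hs.map φ) := by
    refine Groth.Calg6.isWeaklyRegular_of_supportDim_add_length_le _ R hcm.supportDim_eq_depth hmem' ?_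
    rw [hspan, List.length_map, List.length_map]
    exact hdim.le
  refine ⟨hs, hmemq, (isWeaklyRegular_map_algebraMap_iff R R hs).mp hwr, ?_⟩
  intro q' hq' hu' hle hI
  have hdis : Disjoint (q.primeCompl : Set C) (q' : Set C) :=
    Set.disjoint_left.mpr fun c hc hc' => hc (hle hc')
  haveI hP : (q'.map (algebraMap C Cq)).IsPrime :=
    IsLocalization.isPrime_of_isPrime_disjoint q.primeCompl Cq q' hq' hdis
  have hJle : J ≤ q'.map (algebraMap C Cq) := by
    rw [hJ, IsScalarTower.algebraMap_eq A C Cq, ← Ideal.map_map, ← hu']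
    exact Ideal.map_mono Ideal.map_comap_le
  haveI : ((q'.map (algebraMap C Cq)).map (Ideal.Quotient.mk J)).IsPrime :=
    Ideal.map_isPrime_of_surjective Ideal.Quotient.mk_surjective (by rwa [Ideal.mk_ker])
  have hlP : Ideal.ofList l ≤ (q'.map (algebraMap C Cq)).map (Ideal.Quotient.mk J) := by
    rw [← hspan, ← Ideal.map_ofList, Ideal.map_map]
    exact Ideal.map_mono hI
  have hPmax : (q'.map (algebraMap C Cq)).map (Ideal.Quotient.mk J) = maximalIdeal R := by
    have h0 : ringKrullDim (R ⧸ Ideal.ofList l) ≤ 0 := by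
      rw [← Module.supportDim_quotient_eq_ringKrullDim,
        Module.supportDim_eq_of_equiv (Submodule.quotEquivOfEq (Ideal.ofList l)
          (Ideal.ofList l • (⊤ : Submodule R R)) (by rw [smul_eq_mul, Ideal.mul_top]))]
      rw [hdimR, hlen] at hdim
      generalize Module.supportDim R (R ⧸ (Ideal.ofList l • (⊤ : Submodule R R))) = e at hdim ⊢
      induction e with
      | bot => exact bot_le
      | coe e =>
        induction e with
        | top => exact absurd (WithBot.coe_inj.mp hdim) (by simp)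
        | coe e =>
          change ((e + d : ℕ) : WithBot ℕ∞) = (d : WithBot ℕ∞) at hdim
          change (e : WithBot ℕ∞) ≤ ((0 : ℕ) : WithBot ℕ∞)
          norm_cast at hdim ⊢
          omega
    haveI : Ring.KrullDimLE 0 (R ⧸ Ideal.ofList l) := Ring.krullDimLE_iff.mpr h0
    haveI : (((q'.map (algebraMap C Cq)).map (Ideal.Quotient.mk J)).map
        (Ideal.Quotient.mk (Ideal.ofList l))).IsPrime :=
      Ideal.map_isPrime_of_surjective Ideal.Quotient.mk_surjective (by rwa [Ideal.mk_ker])
    have hm := Ideal.IsPrime.isMaximal' (I := ((q'.map (algebraMap C Cq)).map (Ideal.Quotient.mk J)).map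
        (Ideal.Quotient.mk (Ideal.ofList l))) inferInstance
    refine IsLocalRing.eq_maximalIdeal ?_
    have := Ideal.comap_isMaximal_of_surjective (Ideal.Quotient.mk (Ideal.ofList l))
      Ideal.Quotient.mk_surjective (K := _) (H := hm)
    rwa [Ideal.comap_map_of_surjective _ Ideal.Quotient.mk_surjective, ← RingHom.ker_eq_comap_bot,
      Ideal.mk_ker, sup_eq_left.mpr hlP] at this
  refine le_antisymm hle fun c hc => ?_
  have h1 : φ c ∈ maximalIdeal R := by
    rw [← map_maximalIdeal_of_surjective (Ideal.Quotient.mk J) Ideal.Quotient.mk_surjective]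
    exact Ideal.mem_map_of_mem _ ((IsLocalization.AtPrime.to_map_mem_maximal_iff Cq q c).mpr hc)
  rw [← hPmax, ← Ideal.mem_comap (f := φ), ← Ideal.comap_comap,
    Ideal.comap_map_of_surjective _ Ideal.Quotient.mk_surjective, ← RingHom.ker_eq_comap_bot,
    Ideal.mk_ker, sup_eq_left.mpr hJle] at h1
  exact (IsLocalization.under_map_of_isPrime_disjoint q.primeCompl Cq hq' hdis).le h1

/-- The quotient of a localisation is quasi-finite if the localised quotient is. -/
theorem quasiFinite_quotient_away {A C : Type u} [CommRing A] [CommRing C] [Algebra A C] (I : Ideal C)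
    (g : C) (Cg : Type u) [CommRing Cg] [Algebra C Cg] [IsLocalization.Away g Cg] [Algebra A Cg]
    [IsScalarTower A C Cg] (h : Algebra.QuasiFinite A (Localization.Away (Ideal.Quotient.mk I g))) :
    Algebra.QuasiFinite A (Cg ⧸ I.map (algebraMap C Cg)) := by
  let φ₀ : C ⧸ I →ₐ[A] Cg ⧸ I.map (algebraMap C Cg) :=
    Ideal.quotientMapₐ _ (IsScalarTower.toAlgHom A C Cg) Ideal.le_comap_map
  have hu : IsUnit (φ₀ (Ideal.Quotient.mk I g)) := by
    have : φ₀ (Ideal.Quotient.mk I g) = Ideal.Quotient.mk _ (algebraMap C Cg g) := rfl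
    rw [this]
    exact (IsLocalization.Away.algebraMap_isUnit g).map _
  let φ : Localization.Away (Ideal.Quotient.mk I g) →ₐ[A] Cg ⧸ I.map (algebraMap C Cg) :=
    IsLocalization.Away.liftAlgHom (Ideal.Quotient.mk I g) hu
  refine Algebra.QuasiFinite.of_surjective_algHom φ fun y => ?_
  obtain ⟨y, rfl⟩ := Ideal.Quotient.mk_surjective y
  obtain ⟨n, c, hc⟩ := IsLocalization.Away.surj g y
  refine ⟨algebraMap _ _ (Ideal.Quotient.mk I c) *
    IsLocalization.Away.invSelf (Ideal.Quotient.mk I g) ^ n, (hu.pow n).mul_right_cancel ?_⟩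
  have h1 : ∀ z, φ (algebraMap _ _ z) = φ₀ z := fun z => IsLocalization.Away.lift_eq _ hu z
  rw [← h1 (Ideal.Quotient.mk I g), ← map_pow, ← map_mul, mul_assoc, ← mul_pow,
    mul_comm (IsLocalization.Away.invSelf _), IsLocalization.Away.mul_invSelf, one_pow, mul_one, h1,
    map_pow, h1]
  calc φ₀ (Ideal.Quotient.mk I c) = Ideal.Quotient.mk _ (algebraMap C Cg c) := rfl
    _ = Ideal.Quotient.mk _ (y * algebraMap C Cg g ^ n) := by rw [hc]
    _ = _ := by rw [map_mul, map_pow]; rfl

end Groth.FlatMor2.FibCrit
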