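import Groth.Agent.FlatMor2.FibCrit.Stage
import Groth.Agent.FlatMorOne.FlatLocusModelFlat

/-!
The fibrewise flatness criterion for finitely presented algebras.
-/

universe u

open TensorProduct Groth.FlatMorOne

namespace Groth.FlatMor2.FibCrit

set_option linter.style.haveILetI false
set_option synthInstance.maxHeartbeats 200000

attribute [local instance] Algebra.TensorProduct.rightAlgebra

/-- Elements of the base change and relations between them descend to a finitely generated stage. -/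
theorem exists_stage_solution {R₀ S₀ R : Type u} [CommRing R₀] [CommRing S₀] [Algebra R₀ S₀]
    [CommRing R] [Algebra R₀ R] {n : ℕ} {σ : Type} [Finite σ] (x : Fin n → SOf R₀ S₀ R)
    (A₁ : Subalgebra R₀ R) (hA₁ : A₁.FG) (h : σ → MvPolynomial (Fin n) A₁)
    (hx : ∀ k, MvPolynomial.eval₂
      ((algebraMap R (SOf R₀ S₀ R)).comp A₁.val.toRingHom) x (h k) = 0) :
    ∃ (A₂ : Subalgebra R₀ R) (_ : A₂.FG) (_ : A₁ ≤ A₂), ∀ (A' : Subalgebra R₀ R) (_ : A₂ ≤ A')
      (hle₁ : A₁ ≤ A'), ∃ y : Fin n → SOf R₀ S₀ A',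
        (∀ i, sMap R₀ S₀ A'.val (y i) = x i) ∧ ∀ k, MvPolynomial.eval₂
          ((algebraMap A' (SOf R₀ S₀ A')).comp (Subalgebra.inclusion hle₁).toRingHom) y (h k) = 0 := by
  classical
  cases nonempty_fintype σ
  choose B hB z hz using fun i => exists_sMap_eq R₀ S₀ (x i)
  let A₀ : Subalgebra R₀ R := A₁ ⊔ Finset.univ.sup B
  have hA₀ : A₀.FG := hA₁.sup (Finset.sup_induction Subalgebra.fg_bot (fun _ h _ h' => h.sup h')
    fun i _ => hB i)
  have hle₀ : A₁ ≤ A₀ := le_sup_left
  have hBi : ∀ i, B i ≤ A₀ := fun i => le_trans (Finset.le_sup (Finset.mem_univ i)) le_sup_right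
  let y₀ : Fin n → SOf R₀ S₀ A₀ := fun i => sMap R₀ S₀ (Subalgebra.inclusion (hBi i)) (z i)
  have hy₀ : ∀ i, sMap R₀ S₀ A₀.val (y₀ i) = x i := fun i => by
    rw [← hz i, sMap_sMap]
    rfl
  let w : σ → SOf R₀ S₀ A₀ := fun k => MvPolynomial.eval₂
    ((algebraMap A₀ (SOf R₀ S₀ A₀)).comp (Subalgebra.inclusion hle₀).toRingHom) y₀ (h k)
  -- evaluation commutes with the stage maps
  have hnat : ∀ {P Q : Type u} [CommRing P] [Algebra R₀ P] [CommRing Q] [Algebra R₀ Q]
      (φ : P →ₐ[R₀] Q) (ι : A₁ →+* P) (v : Fin n → SOf R₀ S₀ P) (F : MvPolynomial (Fin n) A₁),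
      sMap R₀ S₀ φ (MvPolynomial.eval₂ ((algebraMap P (SOf R₀ S₀ P)).comp ι) v F) =
        MvPolynomial.eval₂ ((algebraMap Q (SOf R₀ S₀ Q)).comp (φ.toRingHom.comp ι))
          (fun i => sMap R₀ S₀ φ (v i)) F := by
    intro P Q _ _ _ _ φ ι v F
    change (sMap R₀ S₀ φ).toRingHom (MvPolynomial.eval₂Hom _ v F) = _
    rw [← RingHom.comp_apply, MvPolynomial.comp_eval₂Hom (f := (algebraMap P (SOf R₀ S₀ P)).comp ι)]
    refine congrArg (fun g => MvPolynomial.eval₂Hom g (fun i => sMap R₀ S₀ φ (v i)) F) ?_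
    refine RingHom.ext fun a => ?_
    change sMap R₀ S₀ φ (ι a ⊗ₜ[R₀] (1 : S₀)) = φ (ι a) ⊗ₜ[R₀] (1 : S₀)
    rw [sMap_tmul]
  have hw : ∀ k, sMap R₀ S₀ A₀.val (w k) = 0 := by
    intro k
    rw [hnat, funext hy₀]
    exact hx k
  choose C hC₀ hC hCw using fun k => exists_sMap_eq_zero hA₀ (hw k)
  refine ⟨A₀ ⊔ Finset.univ.sup C, hA₀.sup (Finset.sup_induction Subalgebra.fg_bot
    (fun _ h _ h' => h.sup h') fun k _ => hC k), hle₀.trans le_sup_left, fun A' hle hle₁ => ?_⟩
  have hA₀' : A₀ ≤ A' := le_sup_left.trans hle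
  refine ⟨fun i => sMap R₀ S₀ (Subalgebra.inclusion hA₀') (y₀ i), fun i => ?_, fun k => ?_⟩
  · rw [sMap_sMap, ← hy₀ i]
    rfl
  · have hCk : C k ≤ A' := (le_trans (Finset.le_sup (Finset.mem_univ k)) le_sup_right).trans hle
    have h1 := congrArg (sMap R₀ S₀ (Subalgebra.inclusion hCk)) (hCw k)
    rw [sMap_sMap, map_zero] at h1
    have h2 := hnat (Subalgebra.inclusion hA₀') (Subalgebra.inclusion hle₀).toRingHom y₀ (h k)
    exact h2.symm.trans h1

/-- The fibrewise criterion of flatness for finitely presented data. -/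
theorem fp_criterion {A B C M : Type u} [CommRing A] [CommRing B] [CommRing C] [Algebra A B]
    [Algebra A C] [Algebra B C] [IsScalarTower A B C] [Algebra.FinitePresentation A B]
    [Algebra.FinitePresentation A C] [AddCommGroup M] [Module C M] [Module B M] [Module A M]
    [IsScalarTower B C M] [IsScalarTower A B M] [IsScalarTower A C M]
    [Module.FinitePresentation C M] (q : Ideal C) [q.IsPrime]
    {Br Cq Mq : Type u} [CommRing Br] [CommRing Cq] [Algebra B Br]
    [IsLocalization.AtPrime Br (q.under B)] [Algebra A Br] [IsScalarTower A B Br] [Algebra C Cq]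
    [IsLocalization.AtPrime Cq q] [Algebra Br Cq] [Algebra B Cq] [IsScalarTower B Br Cq]
    [IsScalarTower B C Cq] [Algebra A Cq] [IsScalarTower A C Cq]
    [AddCommGroup Mq] [Module C Mq] [Module Cq Mq] [IsScalarTower C Cq Mq]
    [Module B Mq] [IsScalarTower B C Mq] [Module Br Mq] [IsScalarTower Br Cq Mq]
    [IsScalarTower B Br Mq] [Module A Mq] [IsScalarTower A C Mq]
    (ℓ : M →ₗ[C] Mq) [IsLocalizedModule q.primeCompl ℓ] [Nontrivial Mq] [Module.Flat A Mq]
    (hfib : Module.Flat (Br ⧸ (q.under A).map (algebraMap A Br))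
      (Mq ⧸ ((q.under A).map (algebraMap A Br) • ⊤ : Submodule Br Mq))) :
    Module.Flat A Br ∧ Module.Flat B Mq := by
  classical
  obtain ⟨R₀, hR₀, S₀, _, _, _, _, hS₀, hpush, M₀, _, _, _, _, _, _, f₀, hM₀, hf₀⟩ :=
    exists_models A C M
  have : IsNoetherianRing R₀ := Algebra.FiniteType.isNoetherianRing ℤ R₀
  let P := Algebra.Presentation.ofFinitePresentation A B
  let A₁ : Subalgebra R₀ A := Algebra.adjoin R₀ P.coeffs
  have hA₁ : A₁.FG := Subalgebra.fg_def.mpr ⟨P.coeffs, P.finite_coeffs, rfl⟩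
  have hP₁ : P.HasCoeffs A₁ := ⟨fun a ha => ⟨⟨a, Algebra.subset_adjoin ha⟩, rfl⟩⟩
  let e := pushoutAlgEquiv R₀ A S₀ C
  let x : Fin _ → SOf R₀ S₀ A := fun i => e.symm (algebraMap B C (P.val i))
  have hxrel : ∀ k, MvPolynomial.eval₂ ((algebraMap A (SOf R₀ S₀ A)).comp A₁.val.toRingHom) x
      (P.relationOfHasCoeffs A₁ k) = 0 := by
    intro k
    refine e.injective ?_
    rw [map_zero]
    change e.toRingEquiv.toRingHom (MvPolynomial.eval₂Hom _ x _) = 0
    rw [← RingHom.comp_apply, MvPolynomial.comp_eval₂Hom]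
    have h2 : e.toRingEquiv.toRingHom.comp
        ((algebraMap A (SOf R₀ S₀ A)).comp A₁.val.toRingHom) =
        (algebraMap A C).comp (algebraMap A₁ A) := by
      refine RingHom.ext fun a => ?_
      exact pushoutAlgEquiv_algebraMap (R₀ := R₀) (S₀ := S₀) (S := C) (a : A)
    have h3 : (fun i => e.toRingEquiv.toRingHom (x i)) = fun i => algebraMap B C (P.val i) :=
      funext fun i => e.apply_symm_apply _
    rw [h2, h3]
    have h4 : (algebraMap A C).comp (algebraMap A₁ A) =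
        (algebraMap B C).comp ((algebraMap A B).comp (algebraMap A₁ A)) := by
      rw [← RingHom.comp_assoc, ← IsScalarTower.algebraMap_eq A B C]
    rw [h4, ← MvPolynomial.comp_eval₂Hom, RingHom.comp_apply, MvPolynomial.coe_eval₂Hom,
      ← MvPolynomial.eval₂_map, P.map_relationOfHasCoeffs A₁ k, ← MvPolynomial.aeval_def,
      Algebra.Presentation.aeval_val_relation, map_zero]
  obtain ⟨A₂, hA₂, hA₁₂, hsol⟩ := exists_stage_solution x A₁ hA₁ (P.relationOfHasCoeffs A₁) hxrel
  haveI : Module.Flat A (LocalizedModule q.primeCompl M) :=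
    flat_of_isLocalizedModule_iso q.primeCompl ℓ (LocalizedModule.mkLinearMap q.primeCompl M)
  obtain ⟨A₃, hA₃, hflat⟩ := exists_stage_flat_at (R₀ := R₀) (R := A) hf₀ ⟨q, inferInstance⟩
    inferInstance
  let A' : Subalgebra R₀ A := A₂ ⊔ A₃
  have hA' : A'.FG := hA₂.sup hA₃
  have hflat' := hflat A' hA' le_sup_right
  haveI : IsNoetherianRing A' := isNoetherianRing_of_fg hA'
  have hle₁ : A₁ ≤ A' := hA₁₂.trans le_sup_left
  obtain ⟨y, hy, hyrel⟩ := hsol A' le_sup_left hle₁
  -- the model of `C`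
  letI : Algebra (SOf R₀ S₀ A') C := (stageAlgHom R₀ A S₀ C A').toRingHom.toAlgebra
  letI : Module (SOf R₀ S₀ A') M := Module.compHom M (algebraMap (SOf R₀ S₀ A') C)
  haveI : IsScalarTower (SOf R₀ S₀ A') C M := IsScalarTower.of_algebraMap_smul fun _ _ => rfl
  haveI : IsScalarTower A' (SOf R₀ S₀ A') C := IsScalarTower.of_algebraMap_eq fun a => by
    change _ = stageAlgHom R₀ A S₀ C A' (a ⊗ₜ 1)
    simp only [stageAlgHom, AlgHom.comp_apply, sMap_tmul, AlgEquiv.coe_toAlgHom,
      pushoutAlgEquiv_tmul, map_one, mul_one]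
    rfl
  obtain ⟨g, hg⟩ := exists_model_isBaseChange (R₀ := R₀) (R := A) hf₀ A' (fun _ => rfl)
  haveI hpushC : Algebra.IsPushout A' A (SOf R₀ S₀ A') C :=
    isPushout_stage (R₀ := R₀) (R := A) A' (fun _ => rfl)
  -- the model of `B`
  haveI hP' : P.HasCoeffs A' :=
    ⟨fun a ha => ⟨⟨a, hle₁ (Algebra.subset_adjoin ha)⟩, rfl⟩⟩
  let B' := P.ModelOfHasCoeffs A'
  let j : B' →ₐ[A'] B := (((P.tensorModelOfHasCoeffsEquiv A').toAlgHom).restrictScalars A').comp
    (Algebra.TensorProduct.includeRight : B' →ₐ[A'] A ⊗[A'] B')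
  letI : Algebra B' B := j.toRingHom.toAlgebra
  haveI : IsScalarTower A' B' B := IsScalarTower.of_algebraMap_eq fun r => (j.commutes r).symm
  haveI hpushB : Algebra.IsPushout A' A B' B := isPushout_modelOfHasCoeffs P fun _ => rfl
  have hrel' : ∀ k, MvPolynomial.aeval y (P.relationOfHasCoeffs A' k) = 0 := by
    intro k
    have he : P.relationOfHasCoeffs A' k =
        MvPolynomial.map (Subalgebra.inclusion hle₁).toRingHom (P.relationOfHasCoeffs A₁ k) := by
      refine MvPolynomial.map_injective (algebraMap A' A) Subtype.val_injective ?_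
      rw [MvPolynomial.map_map, P.map_relationOfHasCoeffs A' k]
      exact (P.map_relationOfHasCoeffs A₁ k).symm
    rw [MvPolynomial.aeval_def, he, MvPolynomial.eval₂_map]
    exact hyrel k
  let φ : B' →ₐ[A'] SOf R₀ S₀ A' := Ideal.Quotient.liftₐ _ (MvPolynomial.aeval y) (by
    intro F hF
    rw [← RingHom.mem_ker]
    refine (Ideal.span_le.mpr ?_ : Ideal.span (Set.range (P.relationOfHasCoeffs A')) ≤
      RingHom.ker (MvPolynomial.aeval y)) hF
    rintro _ ⟨k, rfl⟩
    exact hrel' k)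
  letI : Algebra B' (SOf R₀ S₀ A') := φ.toRingHom.toAlgebra
  haveI : IsScalarTower A' B' (SOf R₀ S₀ A') :=
    IsScalarTower.of_algebraMap_eq fun r => (φ.commutes r).symm
  letI : Algebra B' C := ((algebraMap B C).comp (algebraMap B' B)).toAlgebra
  haveI : IsScalarTower B' B C := IsScalarTower.of_algebraMap_eq' rfl
  haveI : IsScalarTower B' (SOf R₀ S₀ A') C := by
    have : (IsScalarTower.toAlgHom A' B C).comp j =
        (IsScalarTower.toAlgHom A' (SOf R₀ S₀ A') C).comp φ := by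
      refine Ideal.Quotient.algHom_ext _ (MvPolynomial.algHom_ext fun i => ?_)
      have h1 : φ (Ideal.Quotient.mk _ (MvPolynomial.X i)) = y i := MvPolynomial.aeval_X y i
      have h2 : j (Ideal.Quotient.mk _ (MvPolynomial.X i)) = P.val i := by
        change P.tensorModelOfHasCoeffsEquiv A' (1 ⊗ₜ Ideal.Quotient.mk _ _) = _
        rw [Algebra.Presentation.tensorModelOfHasCoeffsEquiv_tmul, map_one, one_mul,
          MvPolynomial.aeval_X]
      simp only [AlgHom.comp_apply, Ideal.Quotient.mkₐ_eq_mk, h1, h2]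
      change algebraMap B C (P.val i) = e (sMap R₀ S₀ A'.val (y i))
      rw [hy i]
      exact (e.apply_symm_apply _).symm
    exact IsScalarTower.of_algebraMap_eq fun b => AlgHom.congr_fun this b
  -- the modules
  let C' := SOf R₀ S₀ A'
  let M' := MOf R₀ S₀ M₀ A'
  haveI : IsScalarTower A' B' M' := inferInstance
  exact stage_criterion (A' := A') (B' := B') (C' := C') (M' := M') hg q hflat' (Br := Br) (Cq := Cq) (Mq := Mq) ℓ hfib

end Groth.FlatMor2.FibCrit
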