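import Groth.Agent.FlatMor2.FibCrit.SchemeCrit
import Groth.Agent.LocFree.Affine

/-!
A finitely presented module flat over the base and fibrewise flat is free near the point.
-/

universe u

open AlgebraicGeometry CategoryTheory IsLocalRing TopologicalSpace

namespace Groth.FlatMor2.FibCrit

set_option linter.style.haveILetI false
set_option synthInstance.maxHeartbeats 200000

theorem exists_free_near {X S : Scheme.{u}} (f : X ⟶ S) [LocallyOfFinitePresentation f]
    (F : X.Modules) [F.IsQuasicoherent] (hFp : CohB1.IsFP F) (x : X)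
    (h1 : FlatMod.IsFlatOverAt f F x)
    (h2 : Module.Flat (↑(X.presheaf.stalk x) ⧸ Ideal.map (f.stalkMap x).hom (IsLocalRing.maximalIdeal ↑(S.presheaf.stalk (f x))))
      (↑(F.presheaf.stalk x) ⧸ (Ideal.map (f.stalkMap x).hom (IsLocalRing.maximalIdeal ↑(S.presheaf.stalk (f x))) • (⊤ : Submodule ↑(X.presheaf.stalk x) ↑(F.presheaf.stalk x))))) :
    ∃ (U : X.Opens) (n : ℕ), x ∈ U ∧ Nonempty (F.restrict U.ι ≅ FlatMod.freeMod (↑U) n) := by
  obtain ⟨U, hU, hxU, -⟩ :=
    exists_isAffineOpen_mem_and_subset (x := f x) (Opens.mem_top (f x))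
  obtain ⟨W, hW, hxW, eWU⟩ := exists_isAffineOpen_mem_and_subset (x := x)
    (show x ∈ f ⁻¹ᵁ U from hxU)
  haveI : Module.FinitePresentation Γ(X, W) Γ(F, W) :=
    Groth.PropsBasic.FPSections.finitePresentation_sections F hFp hW
  haveI : Module.Flat (X.presheaf.stalk x) (F.presheaf.stalk x) := by
    cases subsingleton_or_nontrivial (F.presheaf.stalk x)
    · haveI : Module.Free (X.presheaf.stalk x) (F.presheaf.stalk x) := Module.Free.of_subsingleton _ _
      infer_instance
    letI : Algebra Γ(S, U) Γ(X, W) := (f.appLE U W eWU).hom.toAlgebra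
    haveI : Algebra.FinitePresentation Γ(S, U) Γ(X, W) := f.finitePresentation_appLE hU hW eWU
    haveI : Algebra.FiniteType Γ(S, U) Γ(X, W) := inferInstance
    letI := S.presheaf.algebra_section_stalk ⟨f x, eWU hxW⟩
    letI := X.presheaf.algebra_section_stalk ⟨x, hxW⟩
    let q := (hW.primeIdealOf ⟨x, hxW⟩).asIdeal
    haveI : IsLocalization.AtPrime (X.presheaf.stalk x) q := hW.isLocalization_stalk ⟨x, hxW⟩
    haveI : IsLocalization.AtPrime (X.presheaf.stalk x) (q.under Γ(X, W)) :=
      hW.isLocalization_stalk ⟨x, hxW⟩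
    haveI : IsLocalization.AtPrime (S.presheaf.stalk (f x)) (q.under Γ(S, U)) :=
      isLocalization_stalk_under f hU hW eWU x hxW
    letI : Algebra (S.presheaf.stalk (f x)) (X.presheaf.stalk x) := (f.stalkMap x).hom.toAlgebra
    letI := Groth.QCohMod.stalkModule F x hxW
    haveI : IsScalarTower Γ(X, W) (X.presheaf.stalk x) (F.presheaf.stalk x) :=
      IsScalarTower.of_algebraMap_smul fun _ _ => rfl
    haveI := Groth.QCohMod.isLocalizedModule_germ F hW x hxW
    letI : Module (S.presheaf.stalk (f x)) (F.presheaf.stalk x) := FlatMod.moduleStalkOver f F x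
    haveI : IsScalarTower (S.presheaf.stalk (f x)) (X.presheaf.stalk x) (F.presheaf.stalk x) :=
      IsScalarTower.of_algebraMap_smul fun _ _ => rfl
    exact ((local_iff (A := Γ(S, U)) (B := Γ(X, W)) (C := Γ(X, W)) (M := Γ(F, W)) q
      (As := S.presheaf.stalk (f x)) (Br := X.presheaf.stalk x) (Cq := X.presheaf.stalk x)
      (Mq := F.presheaf.stalk x) (fun a => stalkMap_germ_appLE f eWU x hxW a) (fun _ => rfl)
      (Groth.QCohMod.germₗ F x hxW)).mp ⟨h1, h2⟩).2
  haveI : Module.Free (X.presheaf.stalk x) (F.presheaf.stalk x) :=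
    Groth.LocFree.free_stalk_of_flat hW hxW
  obtain ⟨g, n, m, hxg, -, hb⟩ := Groth.LocFree.exists_basis_of_free_stalk (M := F) hW hxW
  exact ⟨X.basicOpen g, n, hxg, Groth.LocFree.nonempty_iso_of_basis hb⟩

end Groth.FlatMor2.FibCrit
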