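import Groth.Agent.FlatMor2.FibCrit.Open

/-!
The fibrewise criterion phrased with local rings.
-/

universe u

open TensorProduct IsLocalRing

namespace Groth.FlatMor2.FibCrit

set_option linter.style.haveILetI false
set_option synthInstance.maxHeartbeats 200000

/-- The fibrewise criterion for localizations of finitely presented data. -/
theorem local_iff {A B C M : Type u} [CommRing A] [CommRing B] [CommRing C] [Algebra A B]
    [Algebra A C] [Algebra B C] [IsScalarTower A B C] [Algebra.FiniteType A B]
    [Algebra.FinitePresentation A C] [AddCommGroup M] [Module C M]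
    [Module.FinitePresentation C M] (q : Ideal C) [q.IsPrime]
    {As Br Cq Mq : Type u} [CommRing As] [CommRing Br] [CommRing Cq] [Algebra A As] [Algebra B Br]
    [Algebra C Cq] [IsLocalRing As] [IsLocalization.AtPrime As (q.under A)]
    [IsLocalization.AtPrime Br (q.under B)] [IsLocalization.AtPrime Cq q]
    [Algebra As Br] [Algebra Br Cq]
    (hAB : ∀ a, algebraMap As Br (algebraMap A As a) = algebraMap B Br (algebraMap A B a))
    (hBC : ∀ b, algebraMap Br Cq (algebraMap B Br b) = algebraMap C Cq (algebraMap B C b))
    [AddCommGroup Mq] [Module C Mq] [Module Cq Mq] [IsScalarTower C Cq Mq]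
    [Module Br Mq] [IsScalarTower Br Cq Mq] [Module As Mq] [IsScalarTower As Br Mq]
    (ℓ : M →ₗ[C] Mq) [IsLocalizedModule q.primeCompl ℓ] [Nontrivial Mq] :
    (Module.Flat As Mq ∧ Module.Flat (Br ⧸ (maximalIdeal As).map (algebraMap As Br))
        (Mq ⧸ ((maximalIdeal As).map (algebraMap As Br) • ⊤ : Submodule Br Mq))) ↔
      (Module.Flat As Br ∧ Module.Flat Br Mq) := by
  letI : Algebra A Br := ((algebraMap B Br).comp (algebraMap A B)).toAlgebra
  haveI : IsScalarTower A B Br := IsScalarTower.of_algebraMap_eq' rfl
  haveI : IsScalarTower A As Br := IsScalarTower.of_algebraMap_eq fun a => (hAB a).symm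
  letI : Algebra B Cq := ((algebraMap C Cq).comp (algebraMap B C)).toAlgebra
  haveI : IsScalarTower B C Cq := IsScalarTower.of_algebraMap_eq' rfl
  haveI : IsScalarTower B Br Cq := IsScalarTower.of_algebraMap_eq fun b => (hBC b).symm
  letI : Algebra A Cq := ((algebraMap C Cq).comp (algebraMap A C)).toAlgebra
  haveI : IsScalarTower A C Cq := IsScalarTower.of_algebraMap_eq' rfl
  letI : Module A Mq := Module.compHom Mq (algebraMap A C)
  haveI : IsScalarTower A C Mq := IsScalarTower.of_algebraMap_smul fun _ _ => rfl
  letI : Module B Mq := Module.compHom Mq (algebraMap B C)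
  haveI : IsScalarTower B C Mq := IsScalarTower.of_algebraMap_smul fun _ _ => rfl
  haveI : IsScalarTower B Br Mq := IsScalarTower.of_algebraMap_smul fun b m => by
    change algebraMap B Br b • m = algebraMap B C b • m
    rw [← algebraMap_smul Cq (algebraMap B Br b) m, hBC, algebraMap_smul]
  haveI : IsScalarTower A As Mq := IsScalarTower.of_algebraMap_smul fun a m => by
    change algebraMap A As a • m = algebraMap A C a • m
    rw [← algebraMap_smul Br (algebraMap A As a) m, hAB, algebraMap_smul,
      IsScalarTower.algebraMap_apply A B C]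
    rfl
  letI : Module B M := Module.compHom M (algebraMap B C)
  haveI : IsScalarTower B C M := IsScalarTower.of_algebraMap_smul fun _ _ => rfl
  letI : Module A M := Module.compHom M (algebraMap A C)
  haveI : IsScalarTower A C M := IsScalarTower.of_algebraMap_smul fun _ _ => rfl
  haveI : IsScalarTower A B M := IsScalarTower.of_algebraMap_smul fun a m => by
    change algebraMap B C (algebraMap A B a) • m = algebraMap A C a • m
    rw [← IsScalarTower.algebraMap_apply]
  have hmax : (maximalIdeal As).map (algebraMap As Br) = (q.under A).map (algebraMap A Br) := by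
    rw [IsScalarTower.algebraMap_eq A As Br, ← Ideal.map_map,
      IsLocalization.AtPrime.map_eq_maximalIdeal (q.under A) As]
  constructor
  · rintro ⟨h1, h2⟩
    haveI : Module.Flat A Mq := (flat_base_iff_local (q.under A)).mp h1
    rw [hmax] at h2
    obtain ⟨h3, h4⟩ := criterion (A := A) (B := B) (C := C) (M := M) q (Br := Br) (Cq := Cq)
      (Mq := Mq) ℓ h2
    exact ⟨(flat_base_iff_local (q.under A)).mpr h3, (flat_base_iff_local (q.under B)).mpr h4⟩
  · rintro ⟨h1, h2⟩
    haveI : Module.Flat A Br := (flat_base_iff_local (q.under A)).mp h1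
    haveI : Module.Flat B Mq := (flat_base_iff_local (q.under B)).mp h2
    haveI : IsScalarTower A Br Mq := IsScalarTower.of_algebraMap_smul fun a m => by
      rw [IsScalarTower.algebraMap_apply A As Br, algebraMap_smul, algebraMap_smul]
    exact ⟨Module.Flat.trans As Br Mq,
      (converse (A := A) (q.under B) ((maximalIdeal As).map (algebraMap As Br))).2⟩

end Groth.FlatMor2.FibCrit
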