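import Groth.Agent.FlatMor2.FibCrit.General

/-!
The converse of the fibrewise criterion and openness of the locus where both flatness statements hold.
-/

universe u

open TensorProduct Groth.FlatMorOne

namespace Groth.FlatMor2.FibCrit

set_option linter.style.haveILetI false
set_option synthInstance.maxHeartbeats 200000

/-- Flatness of both steps gives flatness of the composite and of the fibre. -/
theorem converse {A B Br Mq : Type u} [CommRing A] [CommRing B] [CommRing Br] [Algebra B Br]
    [Algebra A Br] [AddCommGroup Mq] [Module Br Mq] [Module B Mq] [Module A Mq]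
    [IsScalarTower B Br Mq] [IsScalarTower A Br Mq] (r : Ideal B) [r.IsPrime]
    [IsLocalization.AtPrime Br r] [Module.Flat A Br] [Module.Flat B Mq] (J : Ideal Br) :
    Module.Flat A Mq ∧ Module.Flat (Br ⧸ J) (Mq ⧸ (J • ⊤ : Submodule Br Mq)) := by
  haveI : Module.Flat Br Mq := (flat_base_iff_local r).mpr inferInstance
  refine ⟨Module.Flat.trans A Br Mq, ?_⟩
  refine flat_of_addEquiv (quotTensorEquivQuotSMul Mq J).toAddEquiv fun z m => ?_
  obtain ⟨z, rfl⟩ := Ideal.Quotient.mk_surjective z
  rw [← Ideal.Quotient.algebraMap_eq, algebraMap_smul, algebraMap_smul]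
  exact map_smul (quotTensorEquivQuotSMul Mq J) z m

/-- A flat localization of an algebra gives flatness of the localized module. -/
theorem flat_localizedModule_of_flat {A B C N : Type u} [CommRing A] [CommRing B] [CommRing C]
    [Algebra A B] [Algebra B C] [Algebra A C] [IsScalarTower A B C] [AddCommGroup N] [Module A N]
    [Module B N] [Module C N] (S : Submonoid C) (f : C →ₗ[C] N) [IsLocalizedModule S f]
    (h : Module.Flat A N) [IsScalarTower A B N] [IsScalarTower B C N] :
    Module.Flat A (LocalizedModule S C) := by
  haveI : IsScalarTower A C N := IsScalarTower.of_algebraMap_smul fun a m => by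
    rw [IsScalarTower.algebraMap_apply A B C, algebraMap_smul, algebraMap_smul]
  exact flat_of_isLocalizedModule_iso (C := C) S f (LocalizedModule.mkLinearMap S C)

/-- The flat locus of both steps is open. -/
theorem isOpen_both (A B C : Type u) [CommRing A] [CommRing B] [CommRing C] [Algebra A B]
    [Algebra A C] [Algebra B C] [IsScalarTower A B C] [Algebra.FiniteType A B]
    [Algebra.FinitePresentation A C] :
    IsOpen {q : PrimeSpectrum C | Module.Flat A (Localization.AtPrime (q.asIdeal.under B)) ∧
      Module.Flat B (Localization.AtPrime q.asIdeal)} := by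
  rw [isOpen_iff_forall_mem_open]
  rintro q ⟨hA, hB⟩
  let Br := Localization.AtPrime (q.asIdeal.under B)
  let Cq := Localization.AtPrime q.asIdeal
  let σ : Br →+* Cq := Localization.localRingHom _ q.asIdeal (algebraMap B C) rfl
  letI : Algebra Br Cq := σ.toAlgebra
  haveI : IsScalarTower B Br Cq := IsScalarTower.of_algebraMap_eq fun b => by
    rw [IsScalarTower.algebraMap_apply B C Cq]
    exact (Localization.localRingHom_to_map _ q.asIdeal (algebraMap B C) rfl b).symm
  haveI : IsScalarTower A Br Cq := IsScalarTower.of_algebraMap_eq fun a => by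
    rw [IsScalarTower.algebraMap_apply A B Br, ← IsScalarTower.algebraMap_apply B Br Cq,
      ← IsScalarTower.algebraMap_apply]
  obtain ⟨hC, hfib⟩ := converse (A := A) (Mq := Cq) (q.asIdeal.under B)
    ((q.asIdeal.under A).map (algebraMap A Br))
  obtain ⟨B₀, _, _, _, _, _, _, _, _, m₀, _, hπ, h0A, h0B⟩ := exists_cover_flat (A := A) (B := B)
    (C := C) (M := C) q.asIdeal (Br := Br) (Cq := Cq) (Mq := Cq) (Algebra.linearMap C Cq) hfib
  haveI : Algebra.FinitePresentation B₀ C :=
    Algebra.FinitePresentation.of_restrict_scalars_finitePresentation A B₀ C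
  refine ⟨{p | Module.Flat B₀ (LocalizedModule p.asIdeal.primeCompl C)} ∩
    PrimeSpectrum.comap (algebraMap B₀ C) ⁻¹'
      {r | Module.Flat A (LocalizedModule r.asIdeal.primeCompl B₀)}, fun p hp => ?_,
    (isOpen_flatLocus B₀ C C).inter ((isOpen_flatLocus A B₀ B₀).preimage
      (PrimeSpectrum.continuous_comap _)), ?_, ?_⟩
  · obtain ⟨h1, h2⟩ := hp
    change Module.Flat B₀ (LocalizedModule p.asIdeal.primeCompl C) at h1
    change Module.Flat A (LocalizedModule (p.asIdeal.under B₀).primeCompl B₀) at h2
    haveI : Module.Flat A (Localization.AtPrime (p.asIdeal.under B₀)) :=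
      flat_of_isLocalizedModule_iso (C := B₀) (p.asIdeal.under B₀).primeCompl
        (LocalizedModule.mkLinearMap (p.asIdeal.under B₀).primeCompl B₀)
        (Algebra.linearMap B₀ (Localization.AtPrime (p.asIdeal.under B₀)))
    haveI : IsScalarTower B₀ B (Localization.AtPrime p.asIdeal) :=
      IsScalarTower.of_algebraMap_eq fun b => by
        rw [IsScalarTower.algebraMap_apply B₀ C (Localization.AtPrime p.asIdeal),
          IsScalarTower.algebraMap_apply B₀ B C,
          ← IsScalarTower.algebraMap_apply B C (Localization.AtPrime p.asIdeal)]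
    haveI : Module.Flat B₀ (Localization.AtPrime p.asIdeal) :=
      flat_of_isLocalizedModule_iso (C := C) p.asIdeal.primeCompl
        (LocalizedModule.mkLinearMap p.asIdeal.primeCompl C)
        (Algebra.linearMap C (Localization.AtPrime p.asIdeal))
    let σ' : Localization.AtPrime (p.asIdeal.under B) →+* Localization.AtPrime p.asIdeal :=
      Localization.localRingHom _ p.asIdeal (algebraMap B C) rfl
    letI : Algebra (Localization.AtPrime (p.asIdeal.under B)) (Localization.AtPrime p.asIdeal) :=
      σ'.toAlgebra
    haveI : IsScalarTower B (Localization.AtPrime (p.asIdeal.under B))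
        (Localization.AtPrime p.asIdeal) := IsScalarTower.of_algebraMap_eq fun b => by
      rw [IsScalarTower.algebraMap_apply B C (Localization.AtPrime p.asIdeal)]
      exact (Localization.localRingHom_to_map _ p.asIdeal (algebraMap B C) rfl b).symm
    exact flat_of_cover (A := A) (B := B) (C := C) (M := C) p.asIdeal
      (Br := Localization.AtPrime (p.asIdeal.under B)) (Cq := Localization.AtPrime p.asIdeal)
      (Mq := Localization.AtPrime p.asIdeal) (Algebra.linearMap C (Localization.AtPrime p.asIdeal))
      hπ inferInstance inferInstance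
  · exact flat_localizedModule_of_flat (B := B) _ (Algebra.linearMap C Cq) h0B
  · change Module.Flat A (LocalizedModule (q.asIdeal.under B₀).primeCompl B₀)
    exact flat_of_isLocalizedModule_iso (C := B₀) (q.asIdeal.under B₀).primeCompl
      (Algebra.linearMap B₀ (Localization.AtPrime (q.asIdeal.under B₀)))
      (LocalizedModule.mkLinearMap (q.asIdeal.under B₀).primeCompl B₀)

end Groth.FlatMor2.FibCrit
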