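import Groth.Agent.FlatMor2.FibCrit.General

/-!
Slicing by an element which is a nonzerodivisor on the fibre.
-/

universe u

open TensorProduct Groth.FlatMorOne Polynomial

namespace Groth.FlatMor2.FibCrit

set_option linter.style.haveILetI false
set_option synthInstance.maxHeartbeats 200000

/-- Over the local ring of the affine line over a field at the origin a module on which the
coordinate is a nonzerodivisor is flat. -/
theorem flat_fibre_line {A : Type u} [CommRing A] (p : Ideal A) [p.IsPrime] (r : Ideal A[X]) [r.IsPrime]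
    [r.LiesOver p] (hX : (X : A[X]) ∈ r) {N : Type u} [AddCommGroup N]
    [Module (Localization.AtPrime r ⧸ p.map (algebraMap A (Localization.AtPrime r))) N]
    (hN : ∀ n : N, Ideal.Quotient.mk (p.map (algebraMap A (Localization.AtPrime r)))
      (algebraMap A[X] (Localization.AtPrime r) X) • n = 0 → n = 0) :
    Module.Flat (Localization.AtPrime r ⧸ p.map (algebraMap A (Localization.AtPrime r))) N := by
  let L := Localization.AtPrime r
  let J := p.map (algebraMap A L)
  obtain ⟨φ, hφ⟩ := exists_fibToQuot (C := A[X]) L p r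
  letI : Algebra (p.Fiber A[X]) (L ⧸ J) := φ.toRingHom.toAlgebra
  haveI hloc := exists_isLocalization_fib (Cq := L) p r hφ
  let M₀ : Submonoid (p.Fiber A[X]) := r.primeCompl.map (Algebra.TensorProduct.includeRight : A[X] →ₐ[A] p.Fiber A[X])
  haveI : IsLocalization M₀ (L ⧸ J) := hloc
  let e : p.ResidueField[X] ≃ₐ[p.ResidueField] p.Fiber A[X] := polyEquivTensor' A p.ResidueField
  haveI : IsDomain (p.Fiber A[X]) := e.symm.toRingEquiv.toMulEquiv.isDomain p.ResidueField[X]
  haveI : IsPrincipalIdealRing (p.Fiber A[X]) :=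
    IsPrincipalIdealRing.of_surjective e.toRingEquiv.toRingHom e.surjective
  have hJne : J ≠ ⊤ := by
    refine ne_top_of_le_ne_top (IsLocalRing.maximalIdeal.isMaximal L).ne_top ?_
    rw [Ideal.map_le_iff_le_comap]
    intro a ha
    rw [Ideal.mem_comap, IsScalarTower.algebraMap_apply A A[X] L]
    exact (IsLocalization.AtPrime.to_map_mem_maximal_iff L r _).mpr
      ((Ideal.mem_of_liesOver r p a).mp ha)
  haveI : Nontrivial (L ⧸ J) := Ideal.Quotient.nontrivial_iff.mpr hJne
  haveI : IsLocalRing (L ⧸ J) := IsLocalRing.of_surjective' _ Ideal.Quotient.mk_surjective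
  have hM₀ : (0 : p.Fiber A[X]) ∉ M₀ := fun h0 => by
    have := IsLocalization.map_units (L ⧸ J) (⟨0, h0⟩ : M₀)
    rw [map_zero] at this
    exact not_isUnit_zero this
  have hle : M₀ ≤ nonZeroDivisors (p.Fiber A[X]) := fun z hz =>
    mem_nonZeroDivisors_of_ne_zero fun h => hM₀ (h ▸ hz)
  haveI : IsDomain (L ⧸ J) := IsLocalization.isDomain_of_le_nonZeroDivisors (L ⧸ J) hle
  haveI : IsPrincipalIdealRing (L ⧸ J) := ⟨fun I => by
    obtain ⟨a, ha⟩ := IsPrincipalIdealRing.principal (I.comap (algebraMap (p.Fiber A[X]) (L ⧸ J)))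
    refine ⟨algebraMap (p.Fiber A[X]) (L ⧸ J) a, ?_⟩
    rw [Ideal.submodule_span_eq, ← Set.image_singleton, ← Ideal.map_span, ← Ideal.submodule_span_eq,
      ← ha, IsLocalization.map_under M₀]⟩
  let ψ : p.ResidueField[X] →+* L ⧸ J := φ.toRingHom.comp e.toRingEquiv.toRingHom
  let t : L ⧸ J := Ideal.Quotient.mk J (algebraMap A[X] L X)
  have hψX : ψ X = t := by
    change φ (e X) = t
    rw [show e X = (1 : p.ResidueField) ⊗ₜ[A] (X : A[X]) by simp [e, polyEquivTensor'], hφ]
  have ht : t ∈ IsLocalRing.maximalIdeal (L ⧸ J) := by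
    haveI : IsLocalHom (Ideal.Quotient.mk J) := IsLocalHom.of_surjective _ Ideal.Quotient.mk_surjective
    rw [IsLocalRing.mem_maximalIdeal, mem_nonunits_iff]
    intro hu
    exact ((IsLocalization.AtPrime.isUnit_to_map_iff L r _).mp
      (isUnit_of_map_unit (Ideal.Quotient.mk J) _ hu)) hX
  refine (Module.Flat.flat_iff_torsion_eq_bot_of_isBezout (R := L ⧸ J) (M := N)).mpr (eq_bot_iff.mpr ?_)
  rintro n ⟨⟨z, hz⟩, hzn⟩
  obtain ⟨⟨F, s⟩, hFs⟩ := IsLocalization.surj M₀ z
  have hz0 : z ≠ 0 := nonZeroDivisors.ne_zero hz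
  have hF : ψ (e.symm F) = z * algebraMap _ (L ⧸ J) (s : p.Fiber A[X]) := by
    change φ (e (e.symm F)) = _
    rw [e.apply_symm_apply]
    exact hFs.symm
  have hF0 : e.symm F ≠ 0 := fun h => hz0 (by
    rw [h, map_zero] at hF
    exact ((IsLocalization.map_units (L ⧸ J) s).mul_left_eq_zero).mp hF.symm)
  obtain ⟨G, hG, hG0⟩ := exists_eq_pow_rootMultiplicity_mul_and_not_dvd (e.symm F) hF0 0
  rw [map_zero, sub_zero] at hG hG0
  have hGu : IsUnit (ψ G) := by
    rw [← X_mul_divX_add G, map_add, map_mul, hψX]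
    by_contra hu
    refine (IsLocalRing.mem_maximalIdeal (ψ (C (G.coeff 0)))).mp ?_ ((IsUnit.mk0 _ fun h => hG0 ?_).map
      (ψ.comp C))
    · have := sub_mem ((IsLocalRing.mem_maximalIdeal _).mpr hu)
        (Ideal.mul_mem_right (ψ G.divX) _ ht)
      rwa [add_sub_cancel_left] at this
    · exact X_dvd_iff.mpr h
  have key : ∀ (k : ℕ) (m : N), t ^ k • m = 0 → m = 0 := by
    intro k
    induction k with
    | zero => intro m hm; rwa [pow_zero, one_smul] at hm
    | succ k ih =>
      intro m hm
      rw [pow_succ, mul_smul] at hm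
      exact hN m (ih _ hm)
  have h0 : ψ (e.symm F) • n = 0 := by
    rw [hF]
    refine (congrArg (· • n) (mul_comm z _)).trans ((mul_smul _ z n).trans ?_)
    rw [show z • n = 0 from hzn, smul_zero]
  rw [hG, map_mul, map_pow, hψX, mul_smul] at h0
  exact (Submodule.mem_bot _).mpr (hGu.smul_eq_zero.mp (key _ _ h0))

/-- Flatness over the affine line cuts out a flat slice. -/
theorem flat_quotient_of_flat_line {A D : Type u} [CommRing A] [CommRing D] [Algebra A[X] D]
    [Algebra A D] [IsScalarTower A A[X] D] (hf : Module.Flat A[X] D) {h : D}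
    (hXg : algebraMap A[X] D X = h) :
    h ∈ nonZeroDivisors D ∧ Module.Flat A (D ⧸ Ideal.span {h}) := by
  haveI := hf
  constructor
  · rw [mem_nonZeroDivisors_iff_right]
    intro c hc
    have hinj := Module.Flat.lTensor_preserves_injective_linearMap (M := D)
      (LinearMap.mulLeft A[X] (X : A[X])) (fun a b hab => monic_X.isRegular.left hab)
    have hzero : (LinearMap.mulLeft A[X] (X : A[X])).lTensor D (c ⊗ₜ[A[X]] (1 : A[X])) = 0 := by
      refine (TensorProduct.rid A[X] D).injective ?_
      simpa [Algebra.smul_def, hXg, mul_comm h c] using hc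
    have h1 := congrArg (TensorProduct.rid A[X] D) (hinj (hzero.trans (map_zero _).symm))
    simpa using h1
  · let K : Ideal A[X] := Ideal.span {X}
    have hK : (K • ⊤ : Submodule A[X] D) = (Ideal.span {h}).restrictScalars A[X] := by
      rw [Ideal.smul_top_eq_map, Ideal.map_span, Set.image_singleton, hXg]
    have hb : Function.Bijective (algebraMap A (A[X] ⧸ K)) := by
      refine ⟨(injective_iff_map_eq_zero _).mpr fun a ha => ?_, fun z => ?_⟩
      · rw [IsScalarTower.algebraMap_apply A A[X] (A[X] ⧸ K), Ideal.Quotient.algebraMap_eq,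
          Ideal.Quotient.eq_zero_iff_mem, Ideal.mem_span_singleton, X_dvd_iff] at ha
        simpa using ha
      · obtain ⟨F, rfl⟩ := Ideal.Quotient.mk_surjective z
        refine ⟨F.coeff 0, ?_⟩
        rw [IsScalarTower.algebraMap_apply A A[X] (A[X] ⧸ K), Ideal.Quotient.algebraMap_eq,
          Ideal.Quotient.eq, Ideal.mem_span_singleton, X_dvd_iff]
        simp
    haveI : Module.Flat A ((A[X] ⧸ K) ⊗[A[X]] D) :=
      (flat_iff_of_bijective hb).mpr inferInstance
    let e := (quotTensorEquivQuotSMul D K).trans ((Submodule.quotEquivOfEq _ _ hK).trans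
      (Submodule.Quotient.restrictScalarsEquiv A[X] _))
    exact Module.Flat.of_linearEquiv (e.restrictScalars A).symm

/-- The flat locus contains a basic neighbourhood on which localizations are flat. -/
theorem exists_nhd_flat {B C : Type u} [CommRing B] [CommRing C] [Algebra B C]
    [Algebra.FinitePresentation B C] (q : Ideal C) [q.IsPrime]
    (hflat : Module.Flat B (LocalizedModule q.primeCompl C)) :
    ∃ g : C, g ∉ q ∧ ∀ g' : C, g ∣ g' → ∀ (Cg : Type u) [CommRing Cg] [Algebra C Cg]
      [IsLocalization.Away g' Cg] [Algebra B Cg] [IsScalarTower B C Cg], Module.Flat B Cg := by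
  obtain ⟨_, ⟨g, rfl⟩, hqg, hgU⟩ :=
    PrimeSpectrum.isTopologicalBasis_basic_opens.exists_subset_of_mem_open
      (show (⟨q, inferInstance⟩ : PrimeSpectrum C) ∈ _ from hflat) (isOpen_flatLocus B C C)
  refine ⟨g, hqg, fun g' hgg' Cg _ _ _ _ _ => ?_⟩
  refine flat_of_forall_flat_localized (R := B) (S := Cg) (M := Cg) fun q' => ?_
  let q₀ := q'.asIdeal.under C
  have hq₀ : g ∉ q₀ := fun hg => q'.isPrime.ne_top
    (Ideal.eq_top_of_isUnit_mem _ hg
      (isUnit_of_dvd_unit (map_dvd _ hgg') (IsLocalization.Away.algebraMap_isUnit g')))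
  haveI : Module.Flat B (LocalizedModule q₀.primeCompl C) :=
    hgU (show (⟨q₀, inferInstance⟩ : PrimeSpectrum C) ∈ PrimeSpectrum.basicOpen g from hq₀)
  haveI : IsLocalization.AtPrime (Localization.AtPrime q'.asIdeal) q₀ :=
    IsLocalization.isLocalization_isLocalization_atPrime_isLocalization (Submonoid.powers g') _
      q'.asIdeal
  haveI : Module.Flat B (Localization.AtPrime q'.asIdeal) :=
    flat_of_isLocalizedModule_iso (C := C) q₀.primeCompl (LocalizedModule.mkLinearMap q₀.primeCompl C)
      (Algebra.linearMap C (Localization.AtPrime q'.asIdeal))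
  exact flat_of_isLocalizedModule_iso (C := Cg) q'.asIdeal.primeCompl
    (Algebra.linearMap Cg (Localization.AtPrime q'.asIdeal))
    (LocalizedModule.mkLinearMap q'.asIdeal.primeCompl Cg)

/-- Near a point where `h` is a nonzerodivisor on the fibre of a flat algebra, `h` is a
nonzerodivisor and the quotient by it is flat. -/
theorem exists_nhd_slice {A C : Type u} [CommRing A] [CommRing C] [Algebra A C]
    [Algebra.FinitePresentation A C] (q : Ideal C) [q.IsPrime] (h : C) (hq : h ∈ q)
    {Cq : Type u} [CommRing Cq] [Algebra C Cq] [IsLocalization.AtPrime Cq q] [Algebra A Cq]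
    [IsScalarTower A C Cq] [Module.Flat A Cq]
    (hreg : Ideal.Quotient.mk ((q.under A).map (algebraMap A Cq)) (algebraMap C Cq h) ∈
      nonZeroDivisors (Cq ⧸ (q.under A).map (algebraMap A Cq))) :
    ∃ g : C, g ∉ q ∧ Module.Flat A (Cq ⧸ Ideal.span {algebraMap C Cq h}) ∧
      ∀ g' : C, g ∣ g' → ∀ (Cg : Type u) [CommRing Cg] [Algebra C Cg] [IsLocalization.Away g' Cg]
      [Algebra A Cg] [IsScalarTower A C Cg],
      algebraMap C Cg h ∈ nonZeroDivisors Cg ∧
        Module.Flat A (Cg ⧸ Ideal.span {algebraMap C Cg h}) ∧ Module.Flat A Cg := by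
  classical
  let p := q.under A
  letI aXC : Algebra A[X] C := (aeval (R := A) h).toRingHom.toAlgebra
  haveI : IsScalarTower A A[X] C :=
    IsScalarTower.of_algebraMap_eq fun a => ((aeval (R := A) h).commutes a).symm
  haveI : Algebra.FinitePresentation A[X] C :=
    Algebra.FinitePresentation.of_restrict_scalars_finitePresentation A A[X] C
  have hXh : algebraMap A[X] C X = h := aeval_X h
  let r := q.under A[X]
  let L := Localization.AtPrime r
  let σ : L →+* Cq := IsLocalization.map Cq (algebraMap A[X] C)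
    (show r.primeCompl ≤ q.primeCompl.comap (algebraMap A[X] C) from fun x hx => hx)
  letI : Algebra L Cq := σ.toAlgebra
  letI : Algebra A[X] Cq := ((algebraMap C Cq).comp (algebraMap A[X] C)).toAlgebra
  haveI : IsScalarTower A[X] C Cq := IsScalarTower.of_algebraMap_eq' rfl
  haveI : IsScalarTower A[X] L Cq := IsScalarTower.of_algebraMap_eq fun b =>
    (IsLocalization.map_eq (S := L) (Q := Cq) (show r.primeCompl ≤ q.primeCompl.comap
      (algebraMap A[X] C) from fun x hx => hx) b).symm
  haveI : IsScalarTower A L Cq := IsScalarTower.of_algebraMap_eq fun a => by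
    rw [IsScalarTower.algebraMap_apply A A[X] L, ← IsScalarTower.algebraMap_apply A[X] L Cq,
      IsScalarTower.algebraMap_apply A[X] C Cq, ← IsScalarTower.algebraMap_apply A A[X] C,
      ← IsScalarTower.algebraMap_apply A C Cq]
  haveI : r.LiesOver p := ⟨by
    simp only [p, r, Ideal.under, Ideal.comap_comap, ← IsScalarTower.algebraMap_eq]⟩
  have hfib : Module.Flat (L ⧸ p.map (algebraMap A L))
      (Cq ⧸ (p.map (algebraMap A L) • ⊤ : Submodule L Cq)) := by
    refine flat_fibre_line p r (show algebraMap A[X] C X ∈ q from hXh ▸ hq) fun n hn => ?_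
    obtain ⟨c, rfl⟩ := Submodule.Quotient.mk_surjective _ n
    change Submodule.Quotient.mk (algebraMap A[X] L X • c) = 0 at hn
    rw [Submodule.Quotient.mk_eq_zero, algebraMap_smul, Algebra.smul_def,
      IsScalarTower.algebraMap_apply A[X] C Cq, hXh] at hn
    rw [Submodule.Quotient.mk_eq_zero]
    have hmem : ∀ x : Cq, x ∈ (p.map (algebraMap A L) • ⊤ : Submodule L Cq) ↔
        x ∈ p.map (algebraMap A Cq) := fun x => by
      rw [Ideal.smul_top_eq_map, Submodule.restrictScalars_mem, Ideal.map_map,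
        ← IsScalarTower.algebraMap_eq]
    rw [hmem] at hn ⊢
    rw [← Ideal.Quotient.eq_zero_iff_mem] at hn ⊢
    rw [map_mul] at hn
    exact (mem_nonZeroDivisors_iff.mp hreg).1 _ hn
  haveI : Nontrivial Cq := (IsLocalization.AtPrime.isLocalRing Cq q).toNontrivial
  obtain ⟨-, hflat⟩ := criterion (A := A) (B := A[X]) (C := C) (M := C) q
    (Br := L) (Cq := Cq) (Mq := Cq) (Algebra.linearMap C Cq) hfib
  haveI : Module.Flat A[X] (LocalizedModule q.primeCompl C) :=
    flat_of_isLocalizedModule_iso (C := C) q.primeCompl (Algebra.linearMap C Cq)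
      (LocalizedModule.mkLinearMap q.primeCompl C)
  obtain ⟨g, hqg, hall⟩ := exists_nhd_flat (B := A[X]) q inferInstance
  haveI : IsScalarTower A A[X] Cq := IsScalarTower.of_algebraMap_eq fun a => by
    rw [IsScalarTower.algebraMap_apply A[X] C Cq, ← IsScalarTower.algebraMap_apply A A[X] C,
      ← IsScalarTower.algebraMap_apply]
  refine ⟨g, hqg, (flat_quotient_of_flat_line hflat (by
    rw [IsScalarTower.algebraMap_apply A[X] C Cq, hXh])).2, fun g' hgg' Cg _ _ _ _ _ => ?_⟩
  letI : Algebra A[X] Cg := ((algebraMap C Cg).comp (algebraMap A[X] C)).toAlgebra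
  haveI : IsScalarTower A[X] C Cg := IsScalarTower.of_algebraMap_eq' rfl
  haveI : IsScalarTower A A[X] Cg := IsScalarTower.of_algebraMap_eq fun a => by
    rw [IsScalarTower.algebraMap_apply A[X] C Cg, ← IsScalarTower.algebraMap_apply A A[X] C,
      ← IsScalarTower.algebraMap_apply]
  haveI := hall g' hgg' Cg
  obtain ⟨h1, h2⟩ := flat_quotient_of_flat_line (inferInstanceAs (Module.Flat A[X] Cg))
    (show algebraMap A[X] Cg X = algebraMap C Cg h by
      rw [IsScalarTower.algebraMap_apply A[X] C Cg, hXh])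
  exact ⟨h1, h2, Module.Flat.trans A A[X] Cg⟩

end Groth.FlatMor2.FibCrit
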