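import Mathlib
import Groth.Agent.FlatMor2.FibCrit.LocalQuotient
import Groth.Agent.FlatMor2.FibCrit.Core
import Groth.Agent.FlatMorOne.FlatLocusBaseChange

/-!
The fibrewise flatness criterion, descended from a Noetherian stage.
-/

universe u

open TensorProduct

namespace Groth.FlatMor2.FibCrit

set_option linter.style.haveILetI false
set_option synthInstance.maxHeartbeats 200000

theorem isBaseChange_iff_of_isPushout {A' A B' B M' M : Type u} [CommRing A'] [CommRing A]
    [CommRing B'] [CommRing B] [Algebra A' A] [Algebra A' B'] [Algebra A B] [Algebra B' B]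
    [Algebra A' B] [IsScalarTower A' A B] [IsScalarTower A' B' B] [Algebra.IsPushout A' A B' B]
    [AddCommGroup M'] [Module B' M'] [Module A' M'] [IsScalarTower A' B' M']
    [AddCommGroup M] [Module B M] [Module A M] [IsScalarTower A B M] [Module B' M]
    [IsScalarTower B' B M] [Module A' M] [IsScalarTower A' B' M] [IsScalarTower A' A M]
    (g : M' →ₗ[B'] M) :
    IsBaseChange B g ↔ IsBaseChange A (g.restrictScalars A') := by
  let κ := (Algebra.IsPushout.cancelBaseChange A' A B' B M').symm
  let Φ : B ⊗[B'] M' →ₗ[B] M := LinearMap.liftBaseChange B g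
  let Ψ : A ⊗[A'] M' →ₗ[A] M := LinearMap.liftBaseChange A (g.restrictScalars A')
  have hcomp : ∀ z, Φ (κ z) = Ψ z := by
    intro z
    induction z using TensorProduct.induction_on with
    | zero => simp
    | add x y hx hy => simp only [map_add, hx, hy]
    | tmul a m =>
      simp only [κ, Φ, Ψ, Algebra.IsPushout.cancelBaseChange_symm_tmul, LinearMap.liftBaseChange_tmul,
        LinearMap.restrictScalars_apply]
      rw [algebraMap_smul]
  have h1 : Function.Bijective Φ ↔ Function.Bijective Ψ := by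
    rw [← Function.Bijective.of_comp_iff Φ κ.bijective,
      show (Φ : _ → _) ∘ κ = (Ψ : _ → _) from funext hcomp]
  constructor
  · intro h
    refine IsBaseChange.of_equiv (LinearEquiv.ofBijective Ψ (h1.mp ?_)) fun m => by simp [Ψ]
    have he : (Φ : _ → _) = h.equiv := funext fun z => by
      induction z using TensorProduct.induction_on with
      | zero => simp
      | add x y hx hy => simp only [map_add, hx, hy]
      | tmul b m => simp [Φ, IsBaseChange.equiv_tmul]
    rw [he]
    exact h.equiv.bijective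
  · intro h
    refine IsBaseChange.of_equiv (LinearEquiv.ofBijective Φ (h1.mpr ?_)) fun m => by simp [Φ]
    have he : (Ψ : _ → _) = h.equiv := funext fun z => by
      induction z using TensorProduct.induction_on with
      | zero => simp
      | add x y hx hy => simp only [map_add, hx, hy]
      | tmul b m => simp [Ψ, IsBaseChange.equiv_tmul]
    rw [he]
    exact h.equiv.bijective

/-- Two localizations of a module have the same flatness. -/
theorem flat_of_isLocalizedModule_iso {A C M N₁ N₂ : Type u} [CommRing A] [CommRing C] [Algebra A C]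
    [AddCommGroup M] [Module C M] [AddCommGroup N₁] [Module C N₁] [Module A N₁] [IsScalarTower A C N₁]
    [AddCommGroup N₂] [Module C N₂] [Module A N₂] [IsScalarTower A C N₂] (S : Submonoid C)
    (f₁ : M →ₗ[C] N₁) [IsLocalizedModule S f₁] (f₂ : M →ₗ[C] N₂) [IsLocalizedModule S f₂]
    [Module.Flat A N₁] : Module.Flat A N₂ :=
  Module.Flat.of_linearEquiv ((IsLocalizedModule.linearEquiv S f₁ f₂).restrictScalars A).symm

theorem flat_localized_congr {A C M : Type u} [CommRing A] [CommRing C] [Algebra A C]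
    [AddCommGroup M] [Module C M] [Module A M] [IsScalarTower A C M] {q q' : Ideal C} [q.IsPrime]
    [q'.IsPrime] (h : q = q') [hf : Module.Flat A (LocalizedModule q.primeCompl M)] :
    Module.Flat A (LocalizedModule q'.primeCompl M) := by
  subst h
  exact hf

/-- Flatness over the base ring and over its localization agree for modules over the localization. -/
theorem flat_base_iff_local {B Br Mq : Type u} [CommRing B] [CommRing Br] [Algebra B Br]
    [AddCommGroup Mq] [Module Br Mq] [Module B Mq] [IsScalarTower B Br Mq] (r : Ideal B) [r.IsPrime]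
    [IsLocalization.AtPrime Br r] : Module.Flat Br Mq ↔ Module.Flat B Mq :=
  Module.flat_iff_of_isLocalization Br r.primeCompl Mq

section

variable {A B C : Type u} [CommRing A] [CommRing B] [CommRing C] [Algebra A B] [Algebra A C]
  [Algebra B C] [IsScalarTower A B C]
  {A' B' C' : Type u} [CommRing A'] [CommRing B'] [CommRing C'] [Algebra A' B'] [Algebra A' C']
  [Algebra B' C'] [IsScalarTower A' B' C']
  [Algebra A' A] [Algebra B' B] [Algebra C' C] [Algebra A' B] [Algebra A' C] [Algebra B' C]
  [IsScalarTower A' A B] [IsScalarTower A' B' B] [IsScalarTower A' A C] [IsScalarTower A' C' C]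
  [IsScalarTower B' B C] [IsScalarTower B' C' C]
  {M' M : Type u} [AddCommGroup M'] [Module C' M'] [Module B' M'] [Module A' M']
  [IsScalarTower B' C' M'] [IsScalarTower A' B' M'] [IsScalarTower A' C' M']
  [AddCommGroup M] [Module C M] [Module B M] [Module A M] [IsScalarTower B C M] [IsScalarTower A B M]
  [IsScalarTower A C M]
  [Module C' M] [IsScalarTower C' C M]

/-- The fibrewise criterion from a Noetherian stage. -/
theorem stage_criterion [IsNoetherianRing A'] [Algebra.FiniteType A' B'] [Algebra.FiniteType A' C']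
    [Module.Finite C' M'] [Algebra.IsPushout A' A B' B] [Algebra.IsPushout A' A C' C]
    {g : M' →ₗ[C'] M} (hg : IsBaseChange C g) (q : Ideal C) [q.IsPrime]
    (hflat' : Module.Flat A' (LocalizedModule (q.comap (algebraMap C' C)).primeCompl M'))
    {Br Cq Mq : Type u} [CommRing Br] [CommRing Cq] [Algebra B Br]
    [IsLocalization.AtPrime Br (q.under B)] [Algebra A Br] [IsScalarTower A B Br] [Algebra C Cq]
    [IsLocalization.AtPrime Cq q] [Algebra Br Cq] [Algebra B Cq] [IsScalarTower B Br Cq]
    [IsScalarTower B C Cq] [Algebra A Cq] [IsScalarTower A C Cq]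
    [AddCommGroup Mq] [Module C Mq] [Module Cq Mq] [IsScalarTower C Cq Mq]
    [Module B Mq] [IsScalarTower B C Mq] [Module Br Mq] [IsScalarTower Br Cq Mq]
    [IsScalarTower B Br Mq]
    (ℓ : M →ₗ[C] Mq) [IsLocalizedModule q.primeCompl ℓ] [Nontrivial Mq]
    (hfib : Module.Flat (Br ⧸ (q.under A).map (algebraMap A Br))
      (Mq ⧸ ((q.under A).map (algebraMap A Br) • ⊤ : Submodule Br Mq))) :
    Module.Flat A Br ∧ Module.Flat B Mq := by
  classical
  let p : Ideal A := q.under A
  let r : Ideal B := q.under B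
  let q' : Ideal C' := q.comap (algebraMap C' C)
  let r' : Ideal B' := q'.under B'
  let p' : Ideal A' := q'.under A'
  have hpp' : p' = p.under A' := by
    simp only [p, p', q', Ideal.under, Ideal.comap_comap, ← IsScalarTower.algebraMap_eq]
  haveI : p.LiesOver p' := ⟨hpp'⟩
  have hrr' : r' = r.comap (algebraMap B' B) := by
    simp only [r, r', q', Ideal.under, Ideal.comap_comap, ← IsScalarTower.algebraMap_eq]
  haveI hqp : q.LiesOver p := ⟨rfl⟩
  haveI hrp : r.LiesOver p := ⟨(Ideal.under_under q).symm⟩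
  haveI hq'p' : q'.LiesOver p' := ⟨rfl⟩
  haveI hr'p' : r'.LiesOver p' := ⟨(Ideal.under_under q').symm⟩
  haveI : q'.LiesOver r' := ⟨rfl⟩
  haveI : IsNoetherianRing B' := Algebra.FiniteType.isNoetherianRing A' B'
  haveI : IsNoetherianRing C' := Algebra.FiniteType.isNoetherianRing A' C'
  let Br' := Localization.AtPrime r'
  let Cq' := Localization.AtPrime q'
  let Mq' := LocalizedModule q'.primeCompl M'
  haveI : IsNoetherianRing Br' := IsLocalization.isNoetherianRing r'.primeCompl Br' inferInstance
  haveI : IsNoetherianRing Cq' := IsLocalization.isNoetherianRing q'.primeCompl Cq' inferInstance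
  haveI : IsLocalRing Br := IsLocalization.AtPrime.isLocalRing Br r
  haveI : IsLocalRing Cq := IsLocalization.AtPrime.isLocalRing Cq q
  -- maps of local rings
  letI : Algebra Br' Cq' := (Localization.localRingHom r' q' (algebraMap B' C') rfl).toAlgebra
  haveI : IsScalarTower B' Br' Cq' := IsScalarTower.of_algebraMap_eq fun b =>
    (IsScalarTower.algebraMap_apply B' C' Cq' b).trans
      (Localization.localRingHom_to_map r' q' (algebraMap B' C') rfl b).symm
  haveI : IsLocalHom (algebraMap Br' Cq') :=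
    Localization.isLocalHom_localRingHom r' q' (algebraMap B' C') rfl
  haveI : IsScalarTower A' Br' Cq' := IsScalarTower.of_algebraMap_eq fun a => by
    rw [IsScalarTower.algebraMap_apply A' B' Br', ← IsScalarTower.algebraMap_apply B' Br' Cq',
      ← IsScalarTower.algebraMap_apply A' B' Cq']
  have huB : ∀ y : r'.primeCompl, IsUnit (((algebraMap B Br).comp (algebraMap B' B)) y) := fun y =>
    IsLocalization.map_units (M := r.primeCompl) Br ⟨_, fun h => y.2 (hrr'.ge h)⟩
  let fB : Br' →+* Br := IsLocalization.lift (M := r'.primeCompl) huB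
  have hfB : ∀ b, fB (algebraMap B' Br' b) = algebraMap B Br (algebraMap B' B b) :=
    fun b => IsLocalization.lift_eq huB b
  have huC : ∀ y : q'.primeCompl, IsUnit (((algebraMap C Cq).comp (algebraMap C' C)) y) := fun y =>
    IsLocalization.map_units (M := q.primeCompl) Cq ⟨_, fun h => y.2 h⟩
  let fC : Cq' →+* Cq := IsLocalization.lift (M := q'.primeCompl) huC
  have hfC : ∀ c, fC (algebraMap C' Cq' c) = algebraMap C Cq (algebraMap C' C c) :=
    fun c => IsLocalization.lift_eq huC c
  haveI : IsLocalHom fC := ⟨fun z hz => by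
    obtain ⟨c, s, rfl⟩ := IsLocalization.exists_mk'_eq q'.primeCompl z
    rw [IsLocalization.AtPrime.isUnit_mk'_iff Cq' q']
    intro hc
    have : IsUnit (algebraMap C Cq (algebraMap C' C c)) := by
      rw [← hfC, ← IsLocalization.mk'_spec Cq' c s, map_mul]
      exact hz.mul ((IsLocalization.map_units Cq' s).map fC)
    exact (IsLocalization.AtPrime.isUnit_to_map_iff Cq q _).mp this hc⟩
  have hsq : (algebraMap Br Cq).comp fB = fC.comp (algebraMap Br' Cq') := by
    refine IsLocalization.ringHom_ext r'.primeCompl (RingHom.ext fun b => ?_)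
    simp only [RingHom.comp_apply, hfB]
    rw [← IsScalarTower.algebraMap_apply B' Br' Cq', IsScalarTower.algebraMap_apply B' C' Cq', hfC,
      ← IsScalarTower.algebraMap_apply B Br Cq, IsScalarTower.algebraMap_apply B C Cq,
      ← IsScalarTower.algebraMap_apply B' B C, ← IsScalarTower.algebraMap_apply B' C' C]
  -- ideals and quotients
  let JB' : Ideal Br' := p'.map (algebraMap A' Br')
  let JC' : Ideal Cq' := p'.map (algebraMap A' Cq')
  let JB : Ideal Br := p.map (algebraMap A Br)
  let JC : Ideal Cq := p.map (algebraMap A Cq)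
  haveI : IsScalarTower A Br Cq := IsScalarTower.of_algebraMap_eq fun a => by
    rw [IsScalarTower.algebraMap_apply A B Br, ← IsScalarTower.algebraMap_apply B Br Cq,
      IsScalarTower.algebraMap_apply B C Cq, ← IsScalarTower.algebraMap_apply A B C,
      ← IsScalarTower.algebraMap_apply A C Cq]
  have hJC' : JC' = JB'.map (algebraMap Br' Cq') := by
    simp only [JC', JB', Ideal.map_map, ← IsScalarTower.algebraMap_eq]
  have hJC : JC = JB.map (algebraMap Br Cq) := by
    simp only [JC, JB, Ideal.map_map, ← IsScalarTower.algebraMap_eq]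
  have hmB : JB' ≤ JB.comap fB := by
    rw [Ideal.map_le_iff_le_comap]
    intro a ha
    simp only [Ideal.mem_comap]
    rw [IsScalarTower.algebraMap_apply A' B' Br', hfB, ← IsScalarTower.algebraMap_apply A' B' B,
      IsScalarTower.algebraMap_apply A' A B, ← IsScalarTower.algebraMap_apply A B Br]
    exact Ideal.mem_map_of_mem _ (hpp' ▸ ha : a ∈ p.under A')
  have hmC : JC' ≤ JC.comap fC := by
    rw [Ideal.map_le_iff_le_comap]
    intro a ha
    simp only [Ideal.mem_comap]
    rw [IsScalarTower.algebraMap_apply A' C' Cq', hfC, ← IsScalarTower.algebraMap_apply A' C' C,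
      IsScalarTower.algebraMap_apply A' A C, ← IsScalarTower.algebraMap_apply A C Cq]
    exact Ideal.mem_map_of_mem _ (hpp' ▸ ha : a ∈ p.under A')
  let ψB : Br' ⧸ JB' →+* Br ⧸ JB := Ideal.quotientMap JB fB hmB
  let ψC : Cq' ⧸ JC' →+* Cq ⧸ JC := Ideal.quotientMap JC fC hmC
  have hψB : ψB.Flat := flat_localQuotient (C := B) p r p' r' ψB fun b =>
    (Ideal.quotientMap_mk (f := fB)).trans (congrArg _ (hfB b))
  have hψC : ψC.Flat := flat_localQuotient (C := C) p q p' q' ψC fun c =>
    (Ideal.quotientMap_mk (f := fC)).trans (congrArg _ (hfC c))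
  letI : Algebra (Br' ⧸ JB') (Cq' ⧸ JC') :=
    (Ideal.quotientMap JC' (algebraMap Br' Cq') (Ideal.map_le_iff_le_comap.mp hJC'.ge)).toAlgebra
  letI : Algebra (Br ⧸ JB) (Cq ⧸ JC) :=
    (Ideal.quotientMap JC (algebraMap Br Cq) (Ideal.map_le_iff_le_comap.mp hJC.ge)).toAlgebra
  letI : Algebra (Br' ⧸ JB') (Br ⧸ JB) := ψB.toAlgebra
  letI : Algebra (Cq' ⧸ JC') (Cq ⧸ JC) := ψC.toAlgebra
  letI : Algebra (Br' ⧸ JB') (Cq ⧸ JC) :=
    ((algebraMap (Cq' ⧸ JC') (Cq ⧸ JC)).comp (algebraMap (Br' ⧸ JB') (Cq' ⧸ JC'))).toAlgebra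
  haveI : IsScalarTower (Br' ⧸ JB') (Cq' ⧸ JC') (Cq ⧸ JC) := IsScalarTower.of_algebraMap_eq' rfl
  haveI : IsScalarTower (Br' ⧸ JB') (Br ⧸ JB) (Cq ⧸ JC) := IsScalarTower.of_algebraMap_eq fun x => by
    obtain ⟨x, rfl⟩ := Ideal.Quotient.mk_surjective x
    exact congrArg (Ideal.Quotient.mk JC) (RingHom.congr_fun hsq x).symm
  haveI : Module.Flat (Br' ⧸ JB') (Br ⧸ JB) := hψB
  haveI : Module.Flat (Cq' ⧸ JC') (Cq ⧸ JC) := hψC
  -- local rings
  have hJC'ne : JC' ≠ ⊤ := by
    refine ne_top_of_le_ne_top (IsLocalRing.maximalIdeal.isMaximal Cq').ne_top ?_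
    rw [Ideal.map_le_iff_le_comap]
    intro a ha
    simp only [Ideal.mem_comap]
    rw [IsScalarTower.algebraMap_apply A' C' Cq']
    exact (IsLocalization.AtPrime.to_map_mem_maximal_iff Cq' q' (algebraMap A' C' a)).mpr ha
  have hJCne : JC ≠ ⊤ := by
    refine ne_top_of_le_ne_top (IsLocalRing.maximalIdeal.isMaximal Cq).ne_top ?_
    rw [Ideal.map_le_iff_le_comap]
    intro a ha
    simp only [Ideal.mem_comap]
    rw [IsScalarTower.algebraMap_apply A C Cq]
    exact (IsLocalization.AtPrime.to_map_mem_maximal_iff Cq q (algebraMap A C a)).mpr ha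
  haveI : Nontrivial (Cq ⧸ JC) := Ideal.Quotient.nontrivial_iff.mpr hJCne
  haveI : Nontrivial (Cq' ⧸ JC') := Ideal.Quotient.nontrivial_iff.mpr hJC'ne
  haveI : IsLocalRing (Cq ⧸ JC) :=
    IsLocalRing.of_surjective' (Ideal.Quotient.mk JC) Ideal.Quotient.mk_surjective
  haveI : IsLocalRing (Cq' ⧸ JC') :=
    IsLocalRing.of_surjective' (Ideal.Quotient.mk JC') Ideal.Quotient.mk_surjective
  haveI : IsLocalHom (algebraMap (Cq' ⧸ JC') (Cq ⧸ JC)) := ⟨fun z hz => by
    obtain ⟨z, rfl⟩ := Ideal.Quotient.mk_surjective z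
    haveI : IsLocalHom (Ideal.Quotient.mk JC) := .of_surjective _ Ideal.Quotient.mk_surjective
    exact (IsUnit.of_map fC z (IsUnit.of_map (Ideal.Quotient.mk JC) _ hz)).map _⟩
  haveI : Module.FaithfullyFlat (Cq' ⧸ JC') (Cq ⧸ JC) := Module.FaithfullyFlat.of_flat_of_isLocalHom
  -- modules
  haveI : Module.Flat A' Mq' := hflat'
  let ℓ' : M' →ₗ[C'] Mq' := LocalizedModule.mkLinearMap q'.primeCompl M'
  letI : Module Br' Mq' := Module.compHom Mq' (algebraMap Br' Cq')
  haveI : IsScalarTower Br' Cq' Mq' := IsScalarTower.of_algebraMap_smul fun _ _ => rfl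
  haveI : IsScalarTower A' Br' Mq' := IsScalarTower.of_algebraMap_smul fun a z => by
    rw [← algebraMap_smul Cq' (algebraMap A' Br' a) z, ← IsScalarTower.algebraMap_apply,
      algebraMap_smul]
  haveI : Module.Finite Cq' Mq' :=
    Module.Finite.of_isLocalizedModule q'.primeCompl (Rₚ := Cq') ℓ'
  haveI : Nontrivial Mq' := by
    rw [← not_subsingleton_iff_nontrivial]
    intro hsub
    have hzero : ∀ m : M, ℓ m = 0 := by
      intro m
      refine hg.inductionOn m (fun m => ℓ m = 0) (map_zero ℓ) (fun m' => ?_)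
        (fun c n hn => by rw [map_smul, hn, smul_zero])
        fun a b ha hb => by rw [map_add, ha, hb, add_zero]
      have h0 : ℓ' m' = 0 := Subsingleton.elim _ _
      rw [IsLocalizedModule.eq_zero_iff q'.primeCompl] at h0
      obtain ⟨s, hs⟩ := h0
      rw [IsLocalizedModule.eq_zero_iff q.primeCompl]
      refine ⟨⟨algebraMap C' C s, fun h => s.2 h⟩, ?_⟩
      change algebraMap C' C s • g m' = 0
      rw [algebraMap_smul, ← map_smul]
      exact (congrArg g hs).trans (map_zero g)
    refine not_subsingleton Mq ⟨fun a b => ?_⟩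
    obtain ⟨⟨m₁, s₁⟩, h₁⟩ := IsLocalizedModule.surj q.primeCompl ℓ a
    obtain ⟨⟨m₂, s₂⟩, h₂⟩ := IsLocalizedModule.surj q.primeCompl ℓ b
    rw [hzero, ← smul_zero s₁] at h₁
    rw [hzero, ← smul_zero s₂] at h₂
    rw [IsLocalizedModule.smul_injective ℓ s₁ h₁, IsLocalizedModule.smul_injective ℓ s₂ h₂]
  let K := Mq ⧸ (JC • ⊤ : Submodule Cq Mq)
  let K' := Mq' ⧸ (JC' • ⊤ : Submodule Cq' Mq')
  letI : Module (Br ⧸ JB) K := Module.compHom K (algebraMap (Br ⧸ JB) (Cq ⧸ JC))
  haveI : IsScalarTower (Br ⧸ JB) (Cq ⧸ JC) K := IsScalarTower.of_algebraMap_smul fun _ _ => rfl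
  letI : Module (Br' ⧸ JB') K' := Module.compHom K' (algebraMap (Br' ⧸ JB') (Cq' ⧸ JC'))
  haveI : IsScalarTower (Br' ⧸ JB') (Cq' ⧸ JC') K' := IsScalarTower.of_algebraMap_smul fun _ _ => rfl
  letI : Module (Cq' ⧸ JC') K := Module.compHom K (algebraMap (Cq' ⧸ JC') (Cq ⧸ JC))
  haveI : IsScalarTower (Cq' ⧸ JC') (Cq ⧸ JC) K := IsScalarTower.of_algebraMap_smul fun _ _ => rfl
  letI : Module (Br' ⧸ JB') K := Module.compHom K (algebraMap (Br' ⧸ JB') (Cq ⧸ JC))
  haveI : IsScalarTower (Br' ⧸ JB') (Cq ⧸ JC) K := IsScalarTower.of_algebraMap_smul fun _ _ => rfl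
  haveI : IsScalarTower (Br' ⧸ JB') (Br ⧸ JB) K := IsScalarTower.of_algebraMap_smul fun x k => by
    rw [← algebraMap_smul (Cq ⧸ JC), ← IsScalarTower.algebraMap_apply]
    rfl
  haveI hK : Module.Flat (Br ⧸ JB) K := by
    haveI : Module.Flat (Br ⧸ JB) (Mq ⧸ (JB • ⊤ : Submodule Br Mq)) := hfib
    refine flat_of_addEquiv (quotSmulEquiv JB JC hJC).toAddEquiv fun x z => ?_
    obtain ⟨x, rfl⟩ := Ideal.Quotient.mk_surjective x
    have h1 : ∀ w : Mq ⧸ (JB • ⊤ : Submodule Br Mq), Ideal.Quotient.mk JB x • w = x • w :=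
      fun w => rfl
    have h2 : ∀ w : K, Ideal.Quotient.mk JB x • w = x • w := by
      intro w
      obtain ⟨w, rfl⟩ := Submodule.Quotient.mk_surjective _ w
      exact congrArg Submodule.Quotient.mk (algebraMap_smul Cq x w)
    change quotSmulEquiv JB JC hJC (Ideal.Quotient.mk JB x • z) = _
    rw [h1, map_smul]
    exact (h2 _).symm
  haveI : Module.Flat (Br' ⧸ JB') K := Module.Flat.trans (Br' ⧸ JB') (Br ⧸ JB) K
  -- the base change `K' → K`
  letI : Algebra C' (Cq ⧸ JC) :=
    ((algebraMap C (Cq ⧸ JC)).comp (algebraMap C' C)).toAlgebra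
  haveI : IsScalarTower C' C (Cq ⧸ JC) := IsScalarTower.of_algebraMap_eq' rfl
  haveI : IsScalarTower C' (Cq' ⧸ JC') (Cq ⧸ JC) := IsScalarTower.of_algebraMap_eq
    (R := C') (S := Cq' ⧸ JC') (A := Cq ⧸ JC) fun c => by
      change Ideal.Quotient.mk JC (algebraMap C Cq (algebraMap C' C c)) =
        Ideal.Quotient.mk JC (fC (algebraMap C' Cq' c))
      rw [hfC]
  letI : Module C' K := Module.compHom K (algebraMap C' (Cq ⧸ JC))
  haveI : IsScalarTower C' (Cq ⧸ JC) K := IsScalarTower.of_algebraMap_smul fun _ _ => rfl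
  haveI : IsScalarTower C' C K := IsScalarTower.of_algebraMap_smul fun c k => by
    rw [← algebraMap_smul (Cq ⧸ JC) (algebraMap C' C c) k]
    rfl
  haveI : IsScalarTower C' (Cq' ⧸ JC') K := IsScalarTower.of_algebraMap_smul fun c (k : K) => by
    rw [← algebraMap_smul (Cq ⧸ JC) (algebraMap C' (Cq' ⧸ JC') c) k,
      ← IsScalarTower.algebraMap_apply]
    rfl
  let f₁ : M' →ₗ[C'] K' := ((JC' • ⊤ : Submodule Cq' Mq').mkQ.restrictScalars C').comp ℓ'
  have hf₁ : IsBaseChange (Cq' ⧸ JC') f₁ :=
    IsBaseChange.comp (IsLocalizedModule.isBaseChange q'.primeCompl Cq' ℓ') (isBaseChange_mkQ JC')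
  let f₂ : M →ₗ[C] K := ((JC • ⊤ : Submodule Cq Mq).mkQ.restrictScalars C).comp ℓ
  have hf₂ : IsBaseChange (Cq ⧸ JC) f₂ :=
    IsBaseChange.comp (IsLocalizedModule.isBaseChange q.primeCompl Cq ℓ) (isBaseChange_mkQ JC)
  have hcomp : IsBaseChange (Cq ⧸ JC) ((f₂.restrictScalars C').comp g) := IsBaseChange.comp hg hf₂
  let gK : K' →ₗ[Cq' ⧸ JC'] K := hf₁.lift ((f₂.restrictScalars C').comp g)
  have hgK : IsBaseChange (Cq ⧸ JC) gK := by
    refine IsBaseChange.of_comp hf₁ ?_
    rw [show (gK.restrictScalars C').comp f₁ = (f₂.restrictScalars C').comp g from hf₁.lift_comp _]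
    exact hcomp
  have hK' : Module.Flat (Br' ⧸ JB') K' := flat_of_isBaseChange_faithfullyFlat hgK
  have hJB'ne : JB' ≠ ⊤ := fun h => hJC'ne (by rw [hJC', h, Ideal.map_top])
  obtain ⟨hB', hM'⟩ := noetherian_local (A := A') (Br := Br') (Cq := Cq') (Mq := Mq') p' hJB'ne (by
    haveI := hK'
    refine flat_of_addEquiv (quotSmulEquiv JB' JC' hJC').symm.toAddEquiv fun x z => ?_
    obtain ⟨x, rfl⟩ := Ideal.Quotient.mk_surjective x
    have h1 : ∀ w : Mq' ⧸ (JB' • ⊤ : Submodule Br' Mq'), Ideal.Quotient.mk JB' x • w = x • w :=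
      fun w => rfl
    have h2 : ∀ w : K', Ideal.Quotient.mk JB' x • w = x • w := by
      intro w
      obtain ⟨w, rfl⟩ := Submodule.Quotient.mk_surjective _ w
      exact congrArg Submodule.Quotient.mk (algebraMap_smul Cq' x w)
    change (quotSmulEquiv JB' JC' hJC').symm (Ideal.Quotient.mk JB' x • z) = _
    rw [h2, map_smul]
    exact (h1 _).symm)
  -- base change back
  constructor
  · haveI : Module.Flat A' (LocalizedModule (r.comap (algebraMap B' B)).primeCompl B') := by
      have : r.comap (algebraMap B' B) = r' := hrr'.symm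
      haveI := hB'
      haveI : Module.Flat A' (LocalizedModule r'.primeCompl B') :=
        flat_of_isLocalizedModule_iso r'.primeCompl (Algebra.linearMap B' Br')
          (LocalizedModule.mkLinearMap r'.primeCompl B')
      exact flat_localized_congr hrr'
    haveI : Module.Flat A (LocalizedModule r.primeCompl B) :=
      Groth.FlatMorOne.flat_localized_baseChange (algebraMap B' B)
        (Algebra.IsPushout.out (R := A') (S := A) (R' := B') (S' := B))
        (fun s m => map_mul (algebraMap B' B) s m) r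
    exact flat_of_isLocalizedModule_iso r.primeCompl (LocalizedModule.mkLinearMap r.primeCompl B)
      (Algebra.linearMap B Br)
  · letI : Module A' M := Module.compHom M (algebraMap A' A)
    haveI : IsScalarTower A' A M := IsScalarTower.of_algebraMap_smul fun _ _ => rfl
    haveI : IsScalarTower A' C' M := IsScalarTower.of_algebraMap_smul fun a m => by
      rw [← algebraMap_smul C (algebraMap A' C' a) m, ← IsScalarTower.algebraMap_apply,
        IsScalarTower.algebraMap_apply A' A C, algebraMap_smul]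
      rfl
    letI : Module B' M := Module.compHom M (algebraMap B' B)
    haveI : IsScalarTower B' B M := IsScalarTower.of_algebraMap_smul fun _ _ => rfl
    haveI : IsScalarTower B' C' M := IsScalarTower.of_algebraMap_smul fun b m => by
      rw [← algebraMap_smul C (algebraMap B' C' b) m, ← IsScalarTower.algebraMap_apply,
        IsScalarTower.algebraMap_apply B' B C, algebraMap_smul]
      rfl
    haveI : IsScalarTower A' B' M := IsScalarTower.of_algebraMap_smul fun a m => by
      rw [← algebraMap_smul C' (algebraMap A' B' a) m, ← IsScalarTower.algebraMap_apply,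
        algebraMap_smul]
    have hgA : IsBaseChange A (g.restrictScalars A') :=
      (isBaseChange_iff_of_isPushout (A := A) g).mp hg
    have hgB : IsBaseChange B (g.restrictScalars B') :=
      (isBaseChange_iff_of_isPushout (A' := A') (A := A) (g.restrictScalars B')).mpr hgA
    haveI : Module.Flat B' Mq' := by
      haveI := hM'
      haveI : IsScalarTower B' Br' Mq' := IsScalarTower.of_algebraMap_smul fun b z => by
        rw [← algebraMap_smul Cq' (algebraMap B' Br' b) z, ← IsScalarTower.algebraMap_apply,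
          algebraMap_smul]
      exact (flat_base_iff_local (Br := Br') r').mp inferInstance
    haveI : Module.Flat B (LocalizedModule q.primeCompl M) :=
      Groth.FlatMorOne.flat_localized_baseChange (algebraMap C' C) hgB
        (fun s m => (map_smul g s m).trans (algebraMap_smul C s (g m)).symm) q
    exact flat_of_isLocalizedModule_iso q.primeCompl (LocalizedModule.mkLinearMap q.primeCompl M) ℓ

end

end Groth.FlatMor2.FibCrit
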